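import Mathlib
import Cfsg.Agent.Lib.Cores

/-!
# Elementary lemmas for the rows of S4095 at the prime 2 (helper757)

* `card_cent_of_sylow` : the centralizers of the elements of order 3 if a Sylow 3-subgroup of order nine is generated by
  `x` and `y` and its subgroups of order 3 are conjugate;
* `card_cent_of_prime` : the centralizers of the elements of order `p` if `p²` does not divide `|G|`;
* `sq_dvd_cent` : `p² ∣ |C(w)|` for `w` of order `p` if `p² ∣ |G|`;
* `commute_of_small` : an element of `p`-power order normalizing a finite subgroup `W` of order less than `p` centralizes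
  `W`; `modEq_of_free` : `|W| ≡ 1 mod p` if an element of order `p` normalizing `W` centralizes no nontrivial element.
-/

set_option autoImplicit false

namespace Cfsg.Agent.H757.WkGrp

open Subgroup
open scoped Pointwise

variable {G : Type*} [Group G]

theorem card_cent_conj (c x : G) : Nat.card (centralizer ({c * x * c⁻¹} : Set G)) = Nat.card (centralizer ({x} : Set G)) := by
  refine Nat.card_congr ⟨fun u => ⟨c⁻¹ * u * c, ?_⟩, fun u => ⟨c * u * c⁻¹, ?_⟩, fun u => ?_, fun u => ?_⟩
  · rw [mem_centralizer_singleton_iff]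
    have := mem_centralizer_singleton_iff.1 u.2
    calc c⁻¹ * (u : G) * c * x = c⁻¹ * ((u : G) * (c * x * c⁻¹)) * c := by group
      _ = c⁻¹ * ((c * x * c⁻¹) * u) * c := by rw [this]
      _ = x * (c⁻¹ * u * c) := by group
  · rw [mem_centralizer_singleton_iff]
    have := mem_centralizer_singleton_iff.1 u.2
    calc c * (u : G) * c⁻¹ * (c * x * c⁻¹) = c * ((u : G) * x) * c⁻¹ := by group
      _ = c * (x * u) * c⁻¹ := by rw [this]
      _ = c * x * c⁻¹ * (c * u * c⁻¹) := by group
  · apply Subtype.ext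
    show c * (c⁻¹ * (u : G) * c) * c⁻¹ = u
    group
  · apply Subtype.ext
    show c⁻¹ * (c * (u : G) * c⁻¹) * c = u
    group

theorem centralizer_zpow {p : ℕ} {x y : G} (hp : p.Prime) (hx : orderOf x = p) (hy : y ∈ zpowers x) (hy1 : y ≠ 1) :
    centralizer ({y} : Set G) = centralizer ({x} : Set G) := by
  have hf : Fact p.Prime := ⟨hp⟩
  have h1 : zpowers y = zpowers x := by
    have h2 : zpowers y ≤ zpowers x := zpowers_le.2 hy
    have hfin : Finite (zpowers x) := Nat.finite_of_card_ne_zero (by rw [Nat.card_zpowers, hx]; exact hp.ne_zero)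
    refine eq_of_le_of_card_ge h2 ?_
    rw [Nat.card_zpowers, Nat.card_zpowers, hx]
    have h3 : orderOf y ∣ p := by
      rw [← hx, ← Nat.card_zpowers x, ← Subgroup.orderOf_mk y hy]
      exact _root_.orderOf_dvd_natCard _
    rcases (Nat.dvd_prime hp).1 h3 with h4 | h4
    · exact absurd (orderOf_eq_one_iff.1 h4) hy1
    · exact h4.ge
  have h2 : ∀ z : G, centralizer ({z} : Set G) = centralizer (zpowers z : Set G) := by
    intro z
    rw [zpowers_eq_closure, centralizer_closure]
  rw [h2, h2, h1]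

theorem mem_zpowers_three {x y : G} (hx : orderOf x = 3) (hy : y ∈ zpowers x) : y = 1 ∨ y = x ∨ y = x * x := by
  obtain ⟨k, rfl⟩ := hy
  have h1 : x ^ (k % (orderOf x : ℤ)) = x ^ k := zpow_mod_orderOf x k
  rw [hx] at h1
  have h2 : 0 ≤ k % 3 := Int.emod_nonneg _ (by norm_num)
  have h3 : k % 3 < 3 := Int.emod_lt_of_pos _ (by norm_num)
  show x ^ k = 1 ∨ x ^ k = x ∨ x ^ k = x * x
  push_cast at h1
  rw [← h1]
  generalize k % 3 = j at h2 h3
  interval_cases j
  · left; exact zpow_zero x
  · right; left; exact zpow_one x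
  · right; right; exact zpow_two x

theorem mem_sup_comm {A B : Subgroup G} (hc : ∀ a ∈ A, ∀ b ∈ B, a * b = b * a) {g : G} (hg : g ∈ A ⊔ B) :
    ∃ a ∈ A, ∃ b ∈ B, g = a * b := by
  have hN : A ≤ normalizer (B : Set G) := by
    refine le_trans ?_ (centralizer_le_normalizer _)
    intro q hq
    rw [mem_centralizer_iff]
    intro t ht
    exact (hc q hq t ht).symm
  have h1 : g ∈ ((A ⊔ B : Subgroup G) : Set G) := hg
  rw [coe_mul_of_left_le_normalizer_right _ _ hN] at h1
  obtain ⟨q, hq, t, ht, rfl⟩ := h1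
  exact ⟨q, hq, t, ht, rfl⟩

/-- the centralizers of the elements of order 3 -/
theorem card_cent_of_sylow [Finite G] (h27 : ¬ 27 ∣ Nat.card G) {x y : G} (hx : orderOf x = 3) (hy : y * y * y = 1)
    (hxy : x * y = y * x) (hyx : y ∉ zpowers x) (h1 : ∃ c, c * x * c⁻¹ = y) (h2 : ∃ c, c * x * c⁻¹ = x * y)
    (h3 : ∃ c, c * x * c⁻¹ = x * y * y) {g : G} (hg : orderOf g = 3) :
    Nat.card (centralizer ({g} : Set G)) = Nat.card (centralizer ({x} : Set G)) := by
  have hf : Fact (Nat.Prime 3) := ⟨Nat.prime_three⟩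
  have hx3 : x * x * x = 1 := by rw [← pow_three', ← hx, pow_orderOf_eq_one]
  have hc : ∀ a ∈ zpowers x, ∀ b ∈ zpowers y, a * b = b * a := by
    rintro _ ⟨i, rfl⟩ _ ⟨j, rfl⟩
    exact ((show Commute x y from hxy).zpow_zpow i j).eq
  have hy1 : y ≠ 1 := fun h => hyx (by rw [h]; exact one_mem _)
  have hyo : orderOf y = 3 := orderOf_eq_prime (by rw [pow_three']; exact hy) hy1
  set P : Subgroup G := zpowers x ⊔ zpowers y with hP
  have hmem : ∀ p ∈ P, ∃ a ∈ zpowers x, ∃ b ∈ zpowers y, p = a * b := fun p hp => mem_sup_comm hc hp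
  have hPp : IsPGroup 3 P := by
    rintro ⟨p, hp⟩
    refine ⟨1, Subtype.ext ?_⟩
    obtain ⟨a, ha, b, hb, rfl⟩ := hmem p hp
    have ha3 : a ^ 3 = 1 := by
      obtain ⟨i, rfl⟩ := ha
      show (x ^ i) ^ 3 = 1
      rw [← zpow_natCast, ← zpow_mul, mul_comm, zpow_mul, zpow_natCast, pow_three', hx3, one_zpow]
    have hb3 : b ^ 3 = 1 := by
      obtain ⟨i, rfl⟩ := hb
      show (y ^ i) ^ 3 = 1
      rw [← zpow_natCast, ← zpow_mul, mul_comm, zpow_mul, zpow_natCast, pow_three', hy, one_zpow]
    show (a * b) ^ 3 ^ 1 = 1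
    rw [pow_one, (show Commute a b from hc a ha b hb).mul_pow, ha3, hb3, one_mul]
  obtain ⟨S, hS⟩ := hPp.exists_le_sylow
  -- `P = S`
  have hPS : P = S := by
    obtain ⟨k, hk⟩ := IsPGroup.iff_card.1 hPp
    obtain ⟨l, hl⟩ := IsPGroup.iff_card.1 S.2
    have h4 : l ≤ 2 := by
      by_contra hcon
      apply h27
      have h5 : 3 ^ 3 ∣ 3 ^ l := pow_dvd_pow 3 (by omega)
      rw [← hl] at h5
      exact h5.trans (card_subgroup_dvd_card _)
    have h5 : 2 ≤ k := by
      by_contra hcon
      have h6 : Nat.card P ≤ 3 := by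
        rw [hk]
        calc 3 ^ k ≤ 3 ^ 1 := Nat.pow_le_pow_right (by norm_num) (by omega)
          _ = 3 := by norm_num
      have h7 : zpowers x = P := eq_of_le_of_card_ge le_sup_left (by rw [Nat.card_zpowers, hx]; exact h6)
      exact hyx (h7 ▸ (le_sup_right : zpowers y ≤ P) (mem_zpowers y))
    refine eq_of_le_of_card_ge hS ?_
    rw [hk, hl]
    exact Nat.pow_le_pow_right (by norm_num) (by omega)
  -- `g` is conjugate to an element of `P`
  have hgp : IsPGroup 3 (zpowers g) := by
    apply IsPGroup.of_card (n := 1)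
    rw [Nat.card_zpowers, hg, pow_one]
  obtain ⟨S', hS'⟩ := hgp.exists_le_sylow
  obtain ⟨c, hc'⟩ := MulAction.exists_smul_eq G S S'
  have hgS : g ∈ (S' : Subgroup G) := hS' (mem_zpowers g)
  have hgc : c⁻¹ * g * c ∈ P := by
    rw [hPS]
    rw [← hc'] at hgS
    have h6 : g ∈ (MulAut.conj c • (S : Subgroup G)) := hgS
    rw [Subgroup.mem_pointwise_smul_iff_inv_smul_mem, ← map_inv, MulAut.smul_def, MulAut.conj_apply, inv_inv] at h6
    exact h6
  set q := c⁻¹ * g * c with hq
  have hgq : g = c * q * c⁻¹ := by rw [hq]; group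
  have hq1 : q ≠ 1 := by
    intro h
    rw [h, mul_one, mul_inv_cancel] at hgq
    rw [hgq, orderOf_one] at hg
    norm_num at hg
  rw [hgq, card_cent_conj]
  have hxyo : orderOf (x * y) = 3 := by
    obtain ⟨c, hc⟩ := h2
    rw [← hc, ← MulAut.conj_apply, MulEquiv.orderOf_eq, hx]
  have hxyyo : orderOf (x * y * y) = 3 := by
    obtain ⟨c, hc⟩ := h3
    rw [← hc, ← MulAut.conj_apply, MulEquiv.orderOf_eq, hx]
  have key : ∀ r : G, (∃ c, c * x * c⁻¹ = r) → orderOf r = 3 → q ∈ zpowers r →
      Nat.card (centralizer ({q} : Set G)) = Nat.card (centralizer ({x} : Set G)) := by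
    intro r ⟨c, hr⟩ hro hqr
    rw [centralizer_zpow Nat.prime_three hro hqr hq1, ← hr, card_cent_conj]
  obtain ⟨a, ha, b, hb, hab⟩ := hmem q hgc
  have h0 : ∃ c, c * x * c⁻¹ = x := ⟨1, by group⟩
  have h6 : y * x = x * y := hxy.symm
  rcases mem_zpowers_three hx ha with ha' | ha' | ha' <;> rcases mem_zpowers_three hyo hb with hb' | hb' | hb' <;>
    rw [ha', hb'] at hab
  · exact absurd (by rw [hab, one_mul]) hq1
  · exact key y h1 hyo (by rw [hab, one_mul]; exact mem_zpowers y)
  · exact key y h1 hyo (by rw [hab, one_mul]; exact mul_mem (mem_zpowers y) (mem_zpowers y))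
  · exact key x h0 hx (by rw [hab, mul_one]; exact mem_zpowers x)
  · exact key (x * y) h2 hxyo (by rw [hab]; exact mem_zpowers _)
  · exact key (x * y * y) h3 hxyyo (by rw [hab, ← mul_assoc]; exact mem_zpowers _)
  · exact key x h0 hx (by rw [hab, mul_one]; exact mul_mem (mem_zpowers x) (mem_zpowers x))
  · refine key (x * y * y) h3 hxyyo ?_
    have h4 : q = (x * y * y) * (x * y * y) := by
      have h5 : (x * y * y) * (x * y * y) = x * x * y * (y * y * y) := by
        calc (x * y * y) * (x * y * y) = x * y * (y * x) * y * y := by group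
          _ = x * y * (x * y) * y * y := by rw [h6]
          _ = x * (y * x) * y * y * y := by group
          _ = x * (x * y) * y * y * y := by rw [h6]
          _ = x * x * y * (y * y * y) := by group
      rw [h5, hy, mul_one]
      exact hab
    rw [h4]
    exact mul_mem (mem_zpowers _) (mem_zpowers _)
  · refine key (x * y) h2 hxyo ?_
    have h4 : q = (x * y) * (x * y) := by
      rw [hab]
      calc x * x * (y * y) = x * (x * y) * y := by group
        _ = x * (y * x) * y := by rw [hxy]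
        _ = (x * y) * (x * y) := by group
    rw [h4]
    exact mul_mem (mem_zpowers _) (mem_zpowers _)

/-- the centralizers of the elements of order `p` if `p²` does not divide `|G|` -/
theorem card_cent_of_prime [Finite G] {p : ℕ} (hp : p.Prime) (h : ¬ p ^ 2 ∣ Nat.card G) {x g : G} (hx : orderOf x = p)
    (hg : orderOf g = p) : Nat.card (centralizer ({g} : Set G)) = Nat.card (centralizer ({x} : Set G)) := by
  have hf : Fact p.Prime := ⟨hp⟩
  have hpg : ∀ z : G, orderOf z = p → IsPGroup p (zpowers z) := fun z hz => by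
    apply IsPGroup.of_card (n := 1)
    rw [Nat.card_zpowers, hz, pow_one]
  have hsyl : ∀ z : G, orderOf z = p → ∃ S : Sylow p G, zpowers z = S := by
    intro z hz
    obtain ⟨S, hS⟩ := (hpg z hz).exists_le_sylow
    refine ⟨S, eq_of_le_of_card_ge hS ?_⟩
    obtain ⟨l, hl⟩ := IsPGroup.iff_card.1 S.2
    have h4 : l ≤ 1 := by
      by_contra hcon
      apply h
      have h5 : p ^ 2 ∣ p ^ l := pow_dvd_pow p (by omega)
      rw [← hl] at h5
      exact h5.trans (card_subgroup_dvd_card _)
    rw [hl, Nat.card_zpowers, hz]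
    calc p ^ l ≤ p ^ 1 := Nat.pow_le_pow_right hp.pos h4
      _ = p := pow_one p
  obtain ⟨S, hS⟩ := hsyl x hx
  obtain ⟨S', hS'⟩ := hsyl g hg
  obtain ⟨c, hc'⟩ := MulAction.exists_smul_eq G S S'
  have hgS : g ∈ (S' : Subgroup G) := hS' ▸ mem_zpowers g
  have hgc : c⁻¹ * g * c ∈ zpowers x := by
    rw [hS]
    rw [← hc'] at hgS
    have h6 : g ∈ (MulAut.conj c • (S : Subgroup G)) := hgS
    rw [Subgroup.mem_pointwise_smul_iff_inv_smul_mem, ← map_inv, MulAut.smul_def, MulAut.conj_apply, inv_inv] at h6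
    exact h6
  have hgq : g = c * (c⁻¹ * g * c) * c⁻¹ := by group
  have hq1 : c⁻¹ * g * c ≠ 1 := by
    intro h
    rw [h, mul_one, mul_inv_cancel] at hgq
    rw [hgq, orderOf_one] at hg
    exact hp.one_lt.ne hg
  rw [hgq, card_cent_conj, centralizer_zpow hp hx hgc hq1]

/-- `p² ∣ |C(w)|` for `w` of order `p` if `p² ∣ |G|` -/
theorem sq_dvd_cent [Finite G] {p : ℕ} (hp : p.Prime) (h : p ^ 2 ∣ Nat.card G) {w : G} (hw : orderOf w = p) :
    p ^ 2 ∣ Nat.card (centralizer ({w} : Set G)) := by
  have hf : Fact p.Prime := ⟨hp⟩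
  have hpg : IsPGroup p (zpowers w) := by
    apply IsPGroup.of_card (n := 1)
    rw [Nat.card_zpowers, hw, pow_one]
  obtain ⟨S, hS⟩ := hpg.exists_le_sylow
  have hwS : w ∈ (S : Subgroup G) := hS (mem_zpowers w)
  obtain ⟨l, hl⟩ := IsPGroup.iff_card.1 S.2
  have h4 : 2 ≤ l := by
    have h5 : p ^ 2 ∣ Nat.card S := S.pow_dvd_card_of_pow_dvd_card h
    rw [hl] at h5
    exact (Nat.pow_dvd_pow_iff_le_right hp.one_lt).1 h5
  -- a `p`-subgroup of order at least `p²` in `C_S(w)`
  obtain ⟨E, hE, hEc⟩ : ∃ E : Subgroup G, E ≤ centralizer ({w} : Set G) ∧ p ^ 2 ∣ Nat.card E := by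
    have hSn : Nontrivial S := by
      rw [← Finite.one_lt_card_iff_nontrivial, hl]
      exact Nat.one_lt_pow (by omega) hp.one_lt
    obtain ⟨k, hk⟩ := IsPGroup.iff_card.1 (S.2.to_subgroup (Subgroup.center S))
    have hk0 : k ≠ 0 := by
      rintro rfl
      rw [pow_zero, Subgroup.card_eq_one] at hk
      have := S.2.center_nontrivial (G := S)
      rw [Subgroup.nontrivial_iff_ne_bot] at this
      exact this hk
    by_cases hwZ : (⟨w, hwS⟩ : S) ∈ Subgroup.center S
    · refine ⟨S, ?_, ?_⟩
      · intro s hs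
        rw [mem_centralizer_singleton_iff]
        have h5 := mem_center_iff.1 hwZ ⟨s, hs⟩
        exact congrArg Subtype.val h5
      · rw [hl]
        exact pow_dvd_pow p h4
    · set Z : Subgroup G := (Subgroup.center S).map (S : Subgroup G).subtype with hZ
      have hZc : Nat.card Z = p ^ k := by
        rw [hZ, ← hk]
        exact Nat.card_congr ((Subgroup.center S).equivMapOfInjective _ (Subgroup.subtype_injective _)).toEquiv.symm
      have hZw : ∀ z ∈ Z, z * w = w * z := by
        rintro _ ⟨z, hz, rfl⟩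
        have h5 := mem_center_iff.1 hz ⟨w, hwS⟩
        exact (congrArg Subtype.val h5).symm
      have hZS : Z ≤ S := Subgroup.map_subtype_le _
      refine ⟨Z ⊔ zpowers w, ?_, ?_⟩
      · refine sup_le ?_ ?_
        · intro z hz
          rw [mem_centralizer_singleton_iff]
          exact hZw z hz
        · rw [zpowers_le, mem_centralizer_singleton_iff]
      · have hEp : IsPGroup p ↥(Z ⊔ zpowers w) := S.2.to_le (sup_le hZS hS)
        obtain ⟨e, he⟩ := IsPGroup.iff_card.1 hEp
        have h5 : 2 ≤ e := by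
          by_contra hcon
          have h6 : Nat.card ↥(Z ⊔ zpowers w) ≤ Nat.card Z := by
            rw [he, hZc]
            exact Nat.pow_le_pow_right hp.pos (by omega)
          have h7 : Z = Z ⊔ zpowers w := eq_of_le_of_card_ge le_sup_left h6
          have h8 : w ∈ Z := h7 ▸ (le_sup_right : zpowers w ≤ Z ⊔ zpowers w) (mem_zpowers w)
          obtain ⟨z, hz, hzw⟩ := h8
          apply hwZ
          have h9 : z = ⟨w, hwS⟩ := Subtype.ext hzw
          rw [← h9]
          exact hz
        rw [he]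
        exact pow_dvd_pow p h5
  exact hEc.trans (card_dvd_of_le hE)

/-- the orbits of an element of order `p` on `W` -/
theorem modEq_of_free [Finite G] {p : ℕ} (hp : p.Prime) {W : Subgroup G} {f : G} (hf : orderOf f = p)
    (hn : ∀ w ∈ W, f * w * f⁻¹ ∈ W) (hfree : ∀ w ∈ W, f * w = w * f → w = 1) : Nat.card W ≡ 1 [MOD p] := by
  have hfact : Fact p.Prime := ⟨hp⟩
  have hn' : ∀ k ∈ zpowers f, ∀ w ∈ W, k * w * k⁻¹ ∈ W := by
    have hle : zpowers f ≤ normalizer (W : Set G) := by
      rw [zpowers_le]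
      have h1 : W.map (MulAut.conj f).toMonoidHom ≤ W := by
        rintro _ ⟨w, hw, rfl⟩
        exact hn w hw
      have h2 : W.map (MulAut.conj f).toMonoidHom = W := eq_of_le_of_card_ge h1
        (Nat.card_congr (W.equivMapOfInjective _ (MulAut.conj f).injective).toEquiv).le
      rw [mem_normalizer_iff]
      intro w
      constructor
      · exact hn w
      · intro hw
        have h3 : f * w * f⁻¹ ∈ W.map (MulAut.conj f).toMonoidHom := by rw [h2]; exact hw
        obtain ⟨w', hw', he⟩ := h3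
        have h4 : w' = w := (MulAut.conj f).injective he
        rw [← h4]
        exact hw'
    intro k hk w hw
    exact (mem_normalizer_iff.1 (hle hk) w).1 hw
  let act : MulAction (zpowers f) W :=
    { smul := fun k w => ⟨k * w * (k : G)⁻¹, hn' k k.2 w w.2⟩
      one_smul := fun w => Subtype.ext (by
        show ((1 : zpowers f) : G) * w * ((1 : zpowers f) : G)⁻¹ = w
        rw [Subgroup.coe_one, one_mul, inv_one, mul_one])
      mul_smul := fun k l w => Subtype.ext (by
        show ((k * l : zpowers f) : G) * w * ((k * l : zpowers f) : G)⁻¹ = k * (l * w * (l : G)⁻¹) * (k : G)⁻¹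
        rw [Subgroup.coe_mul]
        group) }
  have hpg : IsPGroup p (zpowers f) := by
    apply IsPGroup.of_card (n := 1)
    rw [Nat.card_zpowers, hf, pow_one]
  have h1 := hpg.card_modEq_card_fixedPoints W
  have h2 : Nat.card (MulAction.fixedPoints (zpowers f) W) = 1 := by
    rw [Nat.card_eq_one_iff_unique]
    constructor
    · constructor
      intro a b
      have h3 : ∀ c : MulAction.fixedPoints (zpowers f) W, ((c : W) : G) = 1 := by
        intro c
        have h4 := MulAction.mem_fixedPoints.1 c.2 ⟨f, mem_zpowers f⟩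
        have h5 : f * ((c : W) : G) * f⁻¹ = ((c : W) : G) := congrArg Subtype.val h4
        exact hfree _ (c : W).2 (mul_inv_eq_iff_eq_mul.1 h5)
      exact Subtype.ext (Subtype.ext ((h3 a).trans (h3 b).symm))
    · refine ⟨⟨1, MulAction.mem_fixedPoints.2 fun k => Subtype.ext ?_⟩⟩
      show (k : G) * ((1 : W) : G) * (k : G)⁻¹ = ((1 : W) : G)
      rw [Subgroup.coe_one, mul_one, mul_inv_cancel]
  rw [h2] at h1
  exact h1

/-- an element of order `p ^ k` normalizing a subgroup of order less than `p` centralizes it -/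
theorem commute_of_small [Finite G] {p : ℕ} (hp : p.Prime) {W : Subgroup G} {f : G} {k : ℕ} (hf : orderOf f = p ^ k)
    (hn : ∀ g ∈ zpowers f, ∀ w ∈ W, g * w * g⁻¹ ∈ W) (hW : Nat.card W < p) {w : G} (hw : w ∈ W) : f * w = w * f := by
  have hfact : Fact p.Prime := ⟨hp⟩
  let act : MulAction (zpowers f) W :=
    { smul := fun k w => ⟨k * w * (k : G)⁻¹, hn k k.2 w w.2⟩
      one_smul := fun w => Subtype.ext (by
        show ((1 : zpowers f) : G) * w * ((1 : zpowers f) : G)⁻¹ = w
        rw [Subgroup.coe_one, one_mul, inv_one, mul_one])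
      mul_smul := fun k l w => Subtype.ext (by
        show ((k * l : zpowers f) : G) * w * ((k * l : zpowers f) : G)⁻¹ = k * (l * w * (l : G)⁻¹) * (k : G)⁻¹
        rw [Subgroup.coe_mul]
        group) }
  have hpg : IsPGroup p (zpowers f) := by
    apply IsPGroup.of_card (n := k)
    rw [Nat.card_zpowers, hf]
  obtain ⟨j, hj⟩ := hpg.card_orbit (⟨w, hw⟩ : W)
  have hle : Nat.card (MulAction.orbit (zpowers f) (⟨w, hw⟩ : W)) ≤ Nat.card W :=
    Nat.card_le_card_of_injective _ Subtype.val_injective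
  have hj0 : j = 0 := by
    by_contra h0
    have h1 : p ^ 1 ≤ p ^ j := Nat.pow_le_pow_right hp.pos (Nat.one_le_iff_ne_zero.2 h0)
    rw [pow_one] at h1
    omega
  rw [hj0, pow_zero, Nat.card_eq_one_iff_unique] at hj
  have h1 := hj.1
  have h2 : (⟨⟨f, mem_zpowers f⟩ • (⟨w, hw⟩ : W), MulAction.mem_orbit _ _⟩ : MulAction.orbit (zpowers f) (⟨w, hw⟩ : W)) =
      ⟨⟨w, hw⟩, MulAction.mem_orbit_self _⟩ := Subsingleton.elim _ _
  have h3 : f * w * f⁻¹ = w := congrArg (fun z => ((z : W) : G)) (Subtype.ext_iff.1 h2)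
  exact mul_inv_eq_iff_eq_mul.1 h3

end Cfsg.Agent.H757.WkGrp
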