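import Cfsg.Agent.H757.WkCent
import Cfsg.Agent.H904.HSCent
import Cfsg.Agent.H757.WkGrp

/-!
# `HS`: the elements of order 3 (helper757)

`|C_Q(x)| ≤ 360` for an element `x` of order 3 (`720` in the automorphism group of the graph, and an odd automorphism
commutes with `x`); a Sylow 3-subgroup `⟨x, y⟩` whose subgroups of order 3 are conjugate.

Generated by a script; checked by the kernel.
-/

set_option autoImplicit false
set_option maxRecDepth 100000

namespace Cfsg.Agent.H757.WkHSThree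

open Cfsg.Agent.SporadicA.PermTab Cfsg.Agent.HN Cfsg.Agent.HN.HS100 Cfsg.Agent.HN.AutBound Cfsg.Agent.H757.WkCent
open Subgroup Equiv

def tx3 : ℕ := 0x1342205c04604c0784a0bc05c0102105c1580c01402407c1c8350680b0228580361800085400a1183102804e0f81004100c0741e85d0aa12c0485f06e0780381107e164018190a6028188150a40a81b06102003023830070088260400560a42104907418c1203b01a058270480b60bc278430780382d00b04c15c288080a00cc1280405a0c80e01a
def ty3 : ℕ := 0x26004170260121480b80c0561601403c0b21580c0540220681b0070821880e00f03602c0a8480200382480a05a074090530941081505a0aa12c0f03906e08c280200b8110128300680080284d0000102f857062018138240a21182e82f0c60e01f02c0741780c83b0420582281403e13c2000301a0882603307e0c81480806a1802183d08e1842705b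
def tc1 : ℕ := 0xba0b02b8100be1303180301a0ac220520c20202a80e0821602885005e1382685e09611c248460941200e05904c1082984004a0741801f0760e81b02902c0e4038340620c81983d09e0b8060620b40641c02800c10c1f8040120500d0110780781f045036084150180000dc0082201e048100600261502d82d00a0081185606a09c058240b80280a817
def tc2 : ℕ := 0x960001a01a08a1681d81301e0c4178100480200e0050b8174270540881482f02507a0ac1b0030c20d40f84004c13c3003f046080210550c40102682c00e0380a0570521041704c00c0c0140630b01582301206617c2c8170020581680c01a0882980905406c1e01508e0742d82704202c0104a0301402185103c064248370900e40503e0640441c03a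
def tc3 : ℕ := 0x980841101705e0a00280f014144270600901540905f08e18c120410180d40680b0581600d03904c12c1e00e0860042103e0a41342b0100221881804f0740101a04a0001140f03204e150118500bc0201e84604a1101f8610800dc1981d0560a80a85b0921742b820070060038360040b4030030620581485905c0500c81b0a604c2e03b0120700f85a
def tci : ℕ := 0xba148308100aa160318430a0100288530ae0202f83009c1682c80d0381781d83e0081241203406412c058420b81101706204a0ac1481a0240e8018380900d81a82703e0181785408a0b00601d03613c0702806e0e4100160460a802815042134208220980501e05b05a1281f81902e0782b0000c001c0c0130621181300107a0081980a01211c0880f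

/-- the fixed points of `x` -/
def FX : List ℕ := [4, 8, 14, 22, 34, 42, 55, 61, 70, 86]
def F0 : List ℕ := []
def W0 : List ℕ := [0, 0, 0, 0, 0, 0, 0, 0, 0, 0]
def F1 : List ℕ := [4, 4, 4]
def W1 : List ℕ := [0, 7, 7, 0, 7, 0, 7, 0, 0, 0]
def F2 : List ℕ := [8, 8, 8, 4, 4, 4]
def W2 : List ℕ := [7, 56, 56, 7, 56, 7, 56, 7, 0, 0]
def F3 : List ℕ := [70, 70, 70, 8, 8, 8, 4, 4, 4]
def W3 : List ℕ := [56, 448, 448, 63, 448, 63, 448, 63, 0, 7]
def F4 : List ℕ := [13, 90, 23, 70, 70, 70, 8, 8, 8, 4, 4, 4]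
def W4 : List ℕ := [448, 3591, 3584, 504, 3584, 504, 3584, 504, 7, 56]
def F5 : List ℕ := [0, 26, 99, 13, 90, 23, 70, 70, 70, 8, 8, 8, 4, 4, 4]
def W5 : List ℕ := [3584, 28728, 28672, 4032, 28672, 4039, 28672, 4032, 56, 455]
def F6 : List ℕ := [1, 28, 73, 0, 26, 99, 13, 90, 23, 70, 70, 70, 8, 8, 8, 4, 4, 4]
def W6 : List ℕ := [28679, 229824, 229376, 32256, 229376, 32312, 229376, 32263, 448, 3640]
def F7 : List ℕ := [24, 59, 85, 1, 28, 73, 0, 26, 99, 13, 90, 23, 70, 70, 70, 8, 8, 8, 4, 4, 4]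
def W7 : List ℕ := [229432, 1838592, 1835008, 258055, 1835008, 258496, 1835015, 258104, 3584, 29120]
def F8 : List ℕ := [9, 81, 57, 24, 59, 85, 1, 28, 73, 0, 26, 99, 13, 90, 23, 70, 70, 70, 8, 8, 8, 4, 4, 4]
def lit : List ℕ := [4492, 14687240, 14910003, 229634, 1835456, 24640, 1536, 1835136, 14708736, 17408, 16502, 14690817, 14687236, 2064978, 14680071, 1838092, 14337, 229768, 230538, 14692361, 1837060, 8, 2064440, 2066697, 16960, 16580, 8529, 1835294, 14690832, 17542, 4352, 16400, 14600, 1837328, 14680064, 14909952, 4481, 20608, 14697986, 21508, 16944, 8256, 2067968, 4128, 32, 229444, 8475, 231700, 8514, 229505, 14910510, 3072, 229600, 1835072, 16512, 14680120, 14910464, 8704, 1835125, 5248, 1837585, 2064839, 8771, 2560, 25168, 21664, 6405, 25090, 10264, 14696468, 28672, 12544, 1835521, 14698016, 324, 1835179, 1835616, 14688266, 16, 229712, 1835264, 6144, 8200, 229985, 1836034, 10496, 232960, 4269, 1836168, 14911517, 2065572, 14704658, 386, 1836578, 14700580,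 14911488, 193, 5160, 14684193, 16610]

theorem w0 : FX.map (cd 100 adjA F0) = W0 := by decide +kernel
theorem k0 : ky 100 adjA tx3 FX W0 F0 4 = 1 := by decide +kernel
theorem c0 : cntB (fun v => Nat.beq (ky 100 adjA tx3 FX W0 F0 v) 1) 100 10 = true := by decide +kernel
theorem f0 : (4 :: lk tx3 4 :: lk tx3 (lk tx3 4) :: F0) = F1 := by decide +kernel
theorem w1 : FX.map (cd 100 adjA F1) = W1 := by decide +kernel
theorem k1 : ky 100 adjA tx3 FX W1 F1 8 = 15 := by decide +kernel
theorem c1 : cntB (fun v => Nat.beq (ky 100 adjA tx3 FX W1 F1 v) 15) 100 4 = true := by decide +kernel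
theorem f1 : (8 :: lk tx3 8 :: lk tx3 (lk tx3 8) :: F1) = F2 := by decide +kernel
theorem w2 : FX.map (cd 100 adjA F2) = W2 := by decide +kernel
theorem k2 : ky 100 adjA tx3 FX W2 F2 70 = 23089744183297 := by decide +kernel
theorem c2 : cntB (fun v => Nat.beq (ky 100 adjA tx3 FX W2 F2 v) 23089744183297) 100 1 = true := by decide +kernel
theorem f2 : (70 :: lk tx3 70 :: lk tx3 (lk tx3 70) :: F2) = F3 := by decide +kernel
theorem w3 : FX.map (cd 100 adjA F3) = W3 := by decide +kernel
theorem k3 : ky 100 adjA tx3 FX W3 F3 13 = 492581209243774 := by decide +kernel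
theorem c3 : cntB (fun v => Nat.beq (ky 100 adjA tx3 FX W3 F3 v) 492581209243774) 100 3 = true := by decide +kernel
theorem f3 : (13 :: lk tx3 13 :: lk tx3 (lk tx3 13) :: F3) = F4 := by decide +kernel
theorem w4 : FX.map (cd 100 adjA F4) = W4 := by decide +kernel
theorem k4 : ky 100 adjA tx3 FX W4 F4 0 = 615726511554562 := by decide +kernel
theorem c4 : cntB (fun v => Nat.beq (ky 100 adjA tx3 FX W4 F4 v) 615726511554562) 100 3 = true := by decide +kernel
theorem f4 : (0 :: lk tx3 0 :: lk tx3 (lk tx3 0) :: F4) = F5 := by decide +kernel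
theorem w5 : FX.map (cd 100 adjA F5) = W5 := by decide +kernel
theorem k5 : ky 100 adjA tx3 FX W5 F5 1 = 8373880557199388 := by decide +kernel
theorem c5 : cntB (fun v => Nat.beq (ky 100 adjA tx3 FX W5 F5 v) 8373880557199388) 100 2 = true := by decide +kernel
theorem f5 : (1 :: lk tx3 1 :: lk tx3 (lk tx3 1) :: F5) = F6 := by decide +kernel
theorem w6 : FX.map (cd 100 adjA F6) = W6 := by decide +kernel
theorem k6 : ky 100 adjA tx3 FX W6 F6 24 = 287667426198290962 := by decide +kernel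
theorem c6 : cntB (fun v => Nat.beq (ky 100 adjA tx3 FX W6 F6 v) 287667426198290962) 100 1 = true := by decide +kernel
theorem f6 : (24 :: lk tx3 24 :: lk tx3 (lk tx3 24) :: F6) = F7 := by decide +kernel
theorem w7 : FX.map (cd 100 adjA F7) = W7 := by decide +kernel
theorem k7 : ky 100 adjA tx3 FX W7 F7 9 = 2301400982237483264 := by decide +kernel
theorem c7 : cntB (fun v => Nat.beq (ky 100 adjA tx3 FX W7 F7 v) 2301400982237483264) 100 1 = true := by decide +kernel
theorem f7 : (9 :: lk tx3 9 :: lk tx3 (lk tx3 9) :: F7) = F8 := by decide +kernel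

theorem nodupFX : FX.Nodup := by decide
theorem fxB : allB (fun i => (FX.elem i) == (Nat.beq (lk tx3 i) i)) 100 = true := by decide +kernel
theorem ltFX : ∀ f ∈ FX, f < 100 := by decide
theorem last8 : (List.range 100).map (cd 100 adjA F8) = lit := by decide +kernel
theorem nodup_lit : lit.Nodup := by decide +kernel


section

variable {x : Perm (Fin 100)} (hx : ∀ i : Fin 100, (x i : ℕ) = lk tx3 i)

theorem hfx (i : Fin 100) : (i : ℕ) ∈ FX ↔ lk tx3 i = i := by
  have h := (allB_iff _ _).1 fxB i i.2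
  rw [← List.elem_iff]
  have h1 := beq_iff_eq.1 h
  rw [h1, Nat.beq_eq]

include hx in
/-- `|C(x)| ≤ 720` in the automorphism group of the graph -/
theorem card_CA : Nat.card (CA adjA x) ≤ 720 := by
  have F0' : FixL (CA adjA x) F0 := fun _ hf => absurd hf (List.not_mem_nil)
  set H0 : Subgroup (Perm (Fin 100)) := CA adjA x with hH0
  have L0 : H0 ≤ CA adjA x := le_rfl
  set H1 : Subgroup (Perm (Fin 100)) := ps H0 ⟨4, by norm_num⟩ with hH1
  have L1 : H1 ≤ CA adjA x := (ps_le _ _).trans L0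
  have F1' : FixL H1 F1 := by rw [← f0]; exact fix_ps hx L0 F0' (by norm_num)
  set H2 : Subgroup (Perm (Fin 100)) := ps H1 ⟨8, by norm_num⟩ with hH2
  have L2 : H2 ≤ CA adjA x := (ps_le _ _).trans L1
  have F2' : FixL H2 F2 := by rw [← f1]; exact fix_ps hx L1 F1' (by norm_num)
  set H3 : Subgroup (Perm (Fin 100)) := ps H2 ⟨70, by norm_num⟩ with hH3
  have L3 : H3 ≤ CA adjA x := (ps_le _ _).trans L2
  have F3' : FixL H3 F3 := by rw [← f2]; exact fix_ps hx L2 F2' (by norm_num)
  set H4 : Subgroup (Perm (Fin 100)) := ps H3 ⟨13, by norm_num⟩ with hH4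
  have L4 : H4 ≤ CA adjA x := (ps_le _ _).trans L3
  have F4' : FixL H4 F4 := by rw [← f3]; exact fix_ps hx L3 F3' (by norm_num)
  set H5 : Subgroup (Perm (Fin 100)) := ps H4 ⟨0, by norm_num⟩ with hH5
  have L5 : H5 ≤ CA adjA x := (ps_le _ _).trans L4
  have F5' : FixL H5 F5 := by rw [← f4]; exact fix_ps hx L4 F4' (by norm_num)
  set H6 : Subgroup (Perm (Fin 100)) := ps H5 ⟨1, by norm_num⟩ with hH6
  have L6 : H6 ≤ CA adjA x := (ps_le _ _).trans L5
  have F6' : FixL H6 F6 := by rw [← f5]; exact fix_ps hx L5 F5' (by norm_num)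
  set H7 : Subgroup (Perm (Fin 100)) := ps H6 ⟨24, by norm_num⟩ with hH7
  have L7 : H7 ≤ CA adjA x := (ps_le _ _).trans L6
  have F7' : FixL H7 F7 := by rw [← f6]; exact fix_ps hx L6 F6' (by norm_num)
  set H8 : Subgroup (Perm (Fin 100)) := ps H7 ⟨9, by norm_num⟩ with hH8
  have L8 : H8 ≤ CA adjA x := (ps_le _ _).trans L7
  have F8' : FixL H8 F8 := by rw [← f7]; exact fix_ps hx L7 F7' (by norm_num)
  have e8 : Nat.card H8 ≤ 1 := last L8 F8' last8 nodup_lit
  have e7 : Nat.card H7 ≤ 1 * 1 := step hx nodupFX hfx ltFX L7 F7' (by norm_num) w7 k7 c7 e8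
  norm_num at e7
  have e6 : Nat.card H6 ≤ 1 * 1 := step hx nodupFX hfx ltFX L6 F6' (by norm_num) w6 k6 c6 e7
  norm_num at e6
  have e5 : Nat.card H5 ≤ 2 * 1 := step hx nodupFX hfx ltFX L5 F5' (by norm_num) w5 k5 c5 e6
  norm_num at e5
  have e4 : Nat.card H4 ≤ 3 * 2 := step hx nodupFX hfx ltFX L4 F4' (by norm_num) w4 k4 c4 e5
  norm_num at e4
  have e3 : Nat.card H3 ≤ 3 * 6 := step hx nodupFX hfx ltFX L3 F3' (by norm_num) w3 k3 c3 e4
  norm_num at e3
  have e2 : Nat.card H2 ≤ 1 * 18 := step hx nodupFX hfx ltFX L2 F2' (by norm_num) w2 k2 c2 e3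
  norm_num at e2
  have e1 : Nat.card H1 ≤ 4 * 18 := step hx nodupFX hfx ltFX L1 F1' (by norm_num) w1 k1 c1 e2
  norm_num at e1
  have e0 : Nat.card H0 ≤ 10 * 72 := step hx nodupFX hfx ltFX L0 F0' (by norm_num) w0 k0 c0 e1
  norm_num at e0
  exact e0

theorem inc : InG Q tci := word_of (L := [tY, tW, tY, tY, tY, tY, tY, tW, tW, tW, tW, tW]) (mem3 inX inY inW) (by simp) (by decide +kernel)

theorem comm_sig : allB (fun i => Nat.beq (lk tci (lk tZ (lk tx3 i))) (lk tx3 (lk tci (lk tZ i)))) 100 = true := by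
  decide +kernel

include hx in
/-- `|C(x)| ≤ 360` in `Q` -/
theorem card_CQ : Nat.card (Q ⊓ centralizer {x} : Subgroup (Perm (Fin 100))) ≤ 360 := by
  obtain ⟨c, hc, hci⟩ := inc
  have h1 : c * Z ∈ CA adjA x := by
    rw [mem_CA]
    refine ⟨(autG 100 adjA).mul_mem (Q_le hc) Z_mem, ?_⟩
    ext i
    rw [Perm.mul_apply, Perm.mul_apply, Perm.mul_apply, Perm.mul_apply, hci, hx]
    have hZ : ∀ i : Fin 100, (Z i : ℕ) = lk tZ i := fun _ => rfl
    rw [hZ, hx, hci, hZ]
    exact Nat.eq_of_beq_eq_true ((allB_iff _ _).1 comm_sig i i.2)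
  have h2 : Perm.sign (c * Z) = -1 := by
    rw [map_mul, sign_Q hc, sign_Z, one_mul]
  have h3 := two_mul_card_le (G := (Q ⊓ centralizer {x} : Subgroup (Perm (Fin 100)))) (A := CA adjA x)
    (inf_le_inf_right _ Q_le) (fun g hg => sign_Q hg.1) h1 h2
  have h4 := card_CA hx
  omega

end


/-- an element of order 15 -/
def t15 : ℕ := 0xbc0642b8520aa0302d01f04c0b41f0530740101c8110281881485f08618c1202f0b20ac250340820dc1802e0421100785d09c0a01500d0a20c81b03b01c0d41182702a108028010a812c2380008a1582800a0980fc200490300200903c09a01c3085c00416c0e0090620f40d04f0161200805802e0880180606606c0f0460700b01001604a07430013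
def tc1i : ℕ := 0xba0b02b8100be1303180301a0ac220520c20202a80e0821602885005e1382685e09611c248460941200e05904c1082984004a0741801f0760e81b02902c0e4038340620c81983d09e0b8060620b40641c02800c10c1f8040120500d0110780781f045036084150180000dc0082201e048100600261502d82d00a0081185606a09c058240b80280a817

theorem mem1 {G : Subgroup (Perm (Fin 100))} {a : ℕ} (ha : InG G a) : ∀ P ∈ [a], InG G P := by
  intro P hP
  rw [List.mem_singleton.1 hP]
  exact ha

theorem in15 : InG Q t15 := word_of (L := [tW, tY, tW, tY, tY, tY, tY, tX]) (mem3 inX inY inW) (by simp) (by decide +kernel)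
theorem inx3 : InG Q tx3 := word_of (L := [t15, t15, t15, t15, t15]) (mem1 in15) (by simp) (by decide +kernel)
theorem inc1 : InG Q tc1 := word_of (L := [tX, tY, tY, tY, tY, tY, tW, tW, tW, tW, tW, tY, tW]) (mem3 inX inY inW) (by simp) (by decide +kernel)
theorem inc1i : InG Q tc1i := word_of (L := [tW, tW, tW, tW, tW, tY, tY, tY, tY, tY, tW, tY, tX]) (mem3 inX inY inW) (by simp) (by decide +kernel)
theorem inc2 : InG Q tc2 := word_of (L := [tW, tW, tW, tW, tW, tY, tY, tY, tY, tY, tW, tY, tW, tX, tW, tW, tW, tW, tW, tW, tW, tW, tW, tW]) (mem3 inX inY inW) (by simp) (by decide +kernel)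
theorem inc3 : InG Q tc3 := word_of (L := [tW, tW, tY, tX, tW, tY]) (mem3 inX inY inW) (by simp) (by decide +kernel)
theorem iny3 : InG Q ty3 := word_of (L := [tc1i, tx3, tc1]) (mem3 inc1i inx3 inc1) (by simp) (by decide +kernel)

/-- an element of order 5 commuting with `x` -/
def ta5 : ℕ := 0xc1701901906c0b02382409c1040504f0840f41a8580860702f839024030250110500c02284c02e0883005909012c1882d0bc06c020250a0110118290100600482f0b60b81e0520200f80780b0020582a8020a818c2d02b03c0dc1a0030920ec1d04d0c20fc0f8070401581302102a09c2981400a118200000340741c00e0a204c0682a0ba15c31033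
theorem ina5 : InG Q ta5 := word_of (L := [t15, t15, t15]) (mem1 in15) (by simp) (by decide +kernel)
theorem k_commf : allB (fun i => Nat.beq (lk ta5 (lk tx3 i)) (lk tx3 (lk ta5 i))) 100 = true := by decide +kernel

theorem k_conj1 : allB (fun i => Nat.beq (lk tc1 (lk tx3 i)) (lk ty3 (lk tc1 i))) 100 = true := by decide +kernel
theorem k_conj2 : allB (fun i => Nat.beq (lk tc2 (lk tx3 i)) (lk tx3 (lk ty3 (lk tc2 i)))) 100 = true := by decide +kernel
theorem k_conj3 : allB (fun i => Nat.beq (lk tc3 (lk tx3 i)) (lk tx3 (lk ty3 (lk ty3 (lk tc3 i))))) 100 = true := by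
  decide +kernel
theorem k_comm : allB (fun i => Nat.beq (lk tx3 (lk ty3 i)) (lk ty3 (lk tx3 i))) 100 = true := by decide +kernel
theorem k_cubey : allB (fun i => Nat.beq (lk ty3 (lk ty3 (lk ty3 i))) i) 100 = true := by decide +kernel

section

open Cfsg.Agent.H904.HSCent Cfsg.Agent.KFacts.HS

universe u

variable {L : Type u} [Group L] {D : Cfsg.Agent.KFacts.HS.Mod L} {ψ : L →* Perm (Fin 100)}

theorem eq_of (R : Rep L D ψ) {a b : L} {f g : ℕ → ℕ} (ha : ∀ i : Fin 100, ((ψ a i : Fin 100) : ℕ) = f i)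
    (hb : ∀ i : Fin 100, ((ψ b i : Fin 100) : ℕ) = g i) (h : allB (fun i => Nat.beq (f i) (g i)) 100 = true) : a = b := by
  apply R.inj
  ext i
  rw [ha, hb]
  exact Nat.eq_of_beq_eq_true ((allB_iff _ _).1 h i i.2)

/-- a Sylow 3-subgroup and the centralizer of an element of order 3 -/
theorem three (R : Rep L D ψ) : ∃ x y : L, orderOf x = 3 ∧ y * y * y = 1 ∧ x * y = y * x ∧ y ∉ zpowers x ∧
    (∃ c, c * x * c⁻¹ = y) ∧ (∃ c, c * x * c⁻¹ = x * y) ∧ (∃ c, c * x * c⁻¹ = x * y * y) ∧
    (∃ f, orderOf f = 5 ∧ f * x = x * f) ∧ Nat.card (centralizer ({x} : Set L)) ≤ 360 := by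
  have hfin := D.finite
  obtain ⟨f, hf⟩ := R.exists_of ina5
  obtain ⟨x, hx⟩ := R.exists_of inx3
  obtain ⟨y, hy⟩ := R.exists_of iny3
  obtain ⟨c1, hc1⟩ := R.exists_of inc1
  obtain ⟨c2, hc2⟩ := R.exists_of inc2
  obtain ⟨c3, hc3⟩ := R.exists_of inc3
  have hxo : orderOf x = 3 := R.orderOf_eq hx (by norm_num) (by decide +kernel) 0 (by decide +kernel)
  refine ⟨x, y, hxo, ?_, ?_, ?_, ⟨c1, ?_⟩, ⟨c2, ?_⟩, ⟨c3, ?_⟩,
    ⟨f, R.orderOf_eq hf (by norm_num) (by decide +kernel) 0 (by decide +kernel), ?_⟩, ?_⟩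
  · refine eq_of R (f := fun i => lk ty3 (lk ty3 (lk ty3 i))) (g := fun i => i) (fun i => ?_) (fun i => ?_) k_cubey
    · rw [map_mul, map_mul, Perm.mul_apply, Perm.mul_apply, hy, hy, hy]
    · rw [map_one, Perm.one_apply]
  · refine eq_of R (f := fun i => lk tx3 (lk ty3 i)) (g := fun i => lk ty3 (lk tx3 i)) (fun i => ?_) (fun i => ?_) k_comm
    · rw [map_mul, Perm.mul_apply, hx, hy]
    · rw [map_mul, Perm.mul_apply, hy, hx]
  · intro h
    have hy0 : ((ψ y (4 : Fin 100) : Fin 100) : ℕ) = 61 := (hy _).trans (by decide +kernel)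
    have hx0 : ((ψ x (4 : Fin 100) : Fin 100) : ℕ) = 4 := (hx _).trans (by decide +kernel)
    have hx0' : ψ x (4 : Fin 100) = 4 := Fin.ext hx0
    rcases WkGrp.mem_zpowers_three hxo h with h1 | h1 | h1
    · rw [h1, map_one, Perm.one_apply] at hy0
      exact absurd hy0 (by decide)
    · rw [h1, hx0'] at hy0
      exact absurd hy0 (by decide)
    · rw [h1, map_mul, Perm.mul_apply, hx0', hx0'] at hy0
      exact absurd hy0 (by decide)
  · rw [mul_inv_eq_iff_eq_mul]
    refine eq_of R (f := fun i => lk tc1 (lk tx3 i)) (g := fun i => lk ty3 (lk tc1 i)) (fun i => ?_) (fun i => ?_) k_conj1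
    · rw [map_mul, Perm.mul_apply, hc1, hx]
    · rw [map_mul, Perm.mul_apply, hy, hc1]
  · rw [mul_inv_eq_iff_eq_mul]
    refine eq_of R (f := fun i => lk tc2 (lk tx3 i)) (g := fun i => lk tx3 (lk ty3 (lk tc2 i))) (fun i => ?_)
      (fun i => ?_) k_conj2
    · rw [map_mul, Perm.mul_apply, hc2, hx]
    · rw [map_mul, map_mul, Perm.mul_apply, Perm.mul_apply, hx, hy, hc2]
  · rw [mul_inv_eq_iff_eq_mul]
    refine eq_of R (f := fun i => lk tc3 (lk tx3 i)) (g := fun i => lk tx3 (lk ty3 (lk ty3 (lk tc3 i)))) (fun i => ?_)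
      (fun i => ?_) k_conj3
    · rw [map_mul, Perm.mul_apply, hc3, hx]
    · rw [map_mul, map_mul, map_mul, Perm.mul_apply, Perm.mul_apply, Perm.mul_apply, hx, hy, hy, hc3]
  · refine eq_of R (f := fun i => lk ta5 (lk tx3 i)) (g := fun i => lk tx3 (lk ta5 i)) (fun i => ?_) (fun i => ?_) k_commf
    · rw [map_mul, Perm.mul_apply, hf, hx]
    · rw [map_mul, Perm.mul_apply, hx, hf]
  · refine le_trans ?_ (card_CQ (x := ψ x) hx)
    refine Nat.card_le_card_of_injective (fun g : centralizer ({x} : Set L) => (⟨ψ g, mem_inf.2 ⟨?_, ?_⟩⟩ :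
      (Q ⊓ centralizer {ψ x} : Subgroup (Perm (Fin 100))))) ?_
    · rw [← R.range]
      exact ⟨g, rfl⟩
    · rw [mem_centralizer_singleton_iff, ← map_mul, ← map_mul, mem_centralizer_singleton_iff.1 g.2]
    · intro a b hab
      exact Subtype.ext (R.inj (congrArg Subtype.val hab))

end

end Cfsg.Agent.H757.WkHSThree
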