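import Cfsg.Agent.H757.Central

/-!
# Coprime action on `p`-groups, in the form used for fusion systems (helper757)
-/

set_option autoImplicit false

namespace Cfsg.Agent.H757

open Cfsg Cfsg.FusionSystem

theorem eq_one_of_coprime_of_pow {G : Type*} [Group G] {p : ℕ} [Fact p.Prime] {g : G}
    (hg : Nat.Coprime (orderOf g) p) {k : ℕ} (hk : g ^ p ^ k = 1) : g = 1 := by
  have h1 : orderOf g ∣ p ^ k := orderOf_dvd_of_pow_eq_one hk
  have h2 : orderOf g = 1 := Nat.Coprime.eq_one_of_dvd (hg.pow_right k) h1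
  exact orderOf_eq_one_iff.1 h2

/-- An automorphism of order prime to `p` of a finite `p`-group `R` acting trivially on a subgroup `N` and on the
cosets `x N` is trivial. -/
theorem aut_eq_one_of_coprime {R : Type*} [Group R] [Finite R] {p : ℕ} [Fact p.Prime]
    (hR : IsPGroup p R) {κ : MulAut R} (hκ : Nat.Coprime (orderOf κ) p) (N : Subgroup R)
    (h1 : ∀ x ∈ N, κ x = x) (h2 : ∀ x, x⁻¹ * κ x ∈ N) : κ = 1 := by
  obtain ⟨k, hk⟩ := H759.exists_pow_eq_one_of_chain hR κ 2
    (fun i => if i = 0 then ⊤ else if i = 1 then N else ⊥) (by simp) (by simp)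
    (by
      intro i hi x hx
      interval_cases i
      · simp
      · have hx' : x ∈ N := by simpa using hx
        simpa [h1 x hx'] using hx'
      · have hx' : x = 1 := by simpa using hx
        simp [hx'])
    (by
      intro i hi x hx
      interval_cases i
      · simpa using h2 x
      · have hx' : x ∈ N := by simpa using hx
        simp [h1 x hx'])
  exact eq_one_of_coprime_of_pow hκ hk

/-- Three-step version: trivial on `N`, on `M` modulo `N` and modulo `M`. -/
theorem aut_eq_one_of_coprime₂ {R : Type*} [Group R] [Finite R] {p : ℕ} [Fact p.Prime]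
    (hR : IsPGroup p R) {κ : MulAut R} (hκ : Nat.Coprime (orderOf κ) p) (N M : Subgroup R)
    (hM : ∀ x ∈ M, κ x ∈ M)
    (h1 : ∀ x ∈ N, κ x = x) (h2 : ∀ x ∈ M, x⁻¹ * κ x ∈ N) (h3 : ∀ x, x⁻¹ * κ x ∈ M) : κ = 1 := by
  obtain ⟨k, hk⟩ := H759.exists_pow_eq_one_of_chain hR κ 3
    (fun i => if i = 0 then ⊤ else if i = 1 then M else if i = 2 then N else ⊥) (by simp) (by simp)
    (by
      intro i hi x hx
      interval_cases i
      · simp
      · have hx' : x ∈ M := by simpa using hx
        simpa using hM x hx'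
      · have hx' : x ∈ N := by simpa using hx
        simpa [h1 x hx'] using hx'
      · have hx' : x = 1 := by simpa using hx
        simp [hx'])
    (by
      intro i hi x hx
      interval_cases i
      · simpa using h3 x
      · have hx' : x ∈ M := by simpa using hx
        simpa using h2 x hx'
      · have hx' : x ∈ N := by simpa using hx
        simp [h1 x hx'])
  exact eq_one_of_coprime_of_pow hκ hk

/-- An automorphism of order prime to `p` of a finite `p`-group acting trivially modulo `M` moves, modulo any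
invariant `N ≤ M`-chain... : if it acts trivially on `M / N` and on `R / M` then it acts trivially on `R / N`,
`N` normal. -/
theorem inv_mul_mem_of_coprime {R : Type*} [Group R] [Finite R] {p : ℕ} [Fact p.Prime]
    (hR : IsPGroup p R) {κ : MulAut R} (hκ : Nat.Coprime (orderOf κ) p) (N M : Subgroup R) [N.Normal]
    (hN : ∀ x ∈ N, κ x ∈ N) (h2 : ∀ x ∈ M, x⁻¹ * κ x ∈ N) (h3 : ∀ x, x⁻¹ * κ x ∈ M) (x : R) :
    x⁻¹ * κ x ∈ N := by
  -- the induced automorphism of `R ⧸ N`
  have hmap : N.map κ.toMonoidHom = N := by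
    apply Subgroup.eq_of_le_of_card_ge
    · rintro _ ⟨x, hx, rfl⟩
      exact hN x hx
    · exact (Nat.card_congr (N.equivMapOfInjective _ κ.injective).toEquiv).le
  let κ' : MulAut (R ⧸ N) := QuotientGroup.congr N N κ hmap
  have hκ' : ∀ y : R, κ' (y : R ⧸ N) = (κ y : R ⧸ N) := fun y => rfl
  have hpow : ∀ (n : ℕ) (y : R), (κ' ^ n) (y : R ⧸ N) = ((κ ^ n) y : R ⧸ N) := by
    intro n
    induction n with
    | zero => intro y; rfl
    | succ n ih =>
      intro y
      rw [pow_succ, MulAut.mul_apply, hκ', ih, pow_succ, MulAut.mul_apply]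
  have hord : orderOf κ' ∣ orderOf κ := by
    apply orderOf_dvd_of_pow_eq_one
    apply MulEquiv.ext
    intro z
    obtain ⟨y, rfl⟩ := QuotientGroup.mk_surjective z
    have := hpow (orderOf κ) y
    rw [pow_orderOf_eq_one κ] at this
    exact this
  have hcop : Nat.Coprime (orderOf κ') p := Nat.Coprime.coprime_dvd_left hord hκ
  have hR' : IsPGroup p (R ⧸ N) := hR.to_quotient N
  have h1 : κ' = 1 := by
    refine aut_eq_one_of_coprime hR' hcop (M.map (QuotientGroup.mk' N)) ?_ ?_
    · rintro _ ⟨m, hm, rfl⟩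
      show κ' ((m : R) : R ⧸ N) = (m : R ⧸ N)
      rw [hκ']
      exact (QuotientGroup.eq.2 (h2 m hm)).symm
    · intro z
      obtain ⟨y, rfl⟩ := QuotientGroup.mk_surjective z
      exact ⟨y⁻¹ * κ y, h3 y, rfl⟩
  have h4 := hκ' x
  rw [h1] at h4
  exact QuotientGroup.eq.1 h4

end Cfsg.Agent.H757
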