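import Cfsg.Agent.H757.ExtPsi
import Cfsg.Agent.H752.Mp
/-!
# The extension theorem (helper757)

`E` normal in `F` over `T`, `P ≤ T` fully `F`-normalised, `κ` a `p'`-element of `Aut_E(P)`,
`P C_S(P) ≤ N ≤ N_S(P)`, `κ` normalises `Aut_N(P)`: then `κ` extends to a `p'`-element of `Aut_F(N)` which acts
trivially on `N` modulo `T`.
-/
set_option autoImplicit false

namespace Cfsg.Agent.H757

open Cfsg Cfsg.FusionSystem H750 H802

variable {Ω : Type*} [Group Ω] {S T P N : Subgroup Ω} {p : ℕ}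

theorem Ex.orderOf_dvd (hPN : P ≤ N) {α : MulAut P} {β : MulAut N} (h : Ex α β) :
    orderOf α ∣ orderOf β := by
  apply orderOf_dvd_of_pow_eq_one
  have h1 := h.pow hPN (orderOf β)
  rw [pow_orderOf_eq_one] at h1
  exact h1.unique hPN Ex.one

/-- Adjustment of an extension of `κ c_n` to an extension of `κ`. -/
theorem exists_of_con [Finite S] [Fact p.Prime] (hS : IsPGroup p S) {F : FusionSystem S}
    (hT : F.StronglyClosed T) (hPN : P ≤ N) (hNn : N ≤ normalizerIn S P) {κ : MulAut P}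
    (hκp : Nat.Coprime (orderOf κ) p)
    (hV : ∀ v ∈ autInducedBy N P, κ * v * κ⁻¹ ∈ autInducedBy N P) (h : Con F T P N κ) :
    ∃ κ' ∈ F.autGroup N, Nat.Coprime (orderOf κ') p ∧ Ex κ κ' ∧ Tr T κ' := by
  have hNS : N ≤ S := hNn.trans inf_le_left
  have hPS : P ≤ S := hPN.trans hNS
  have hNf : Finite N := H802.finite_of_le hNS
  have hPf : Finite P := H802.finite_of_le hPS
  have hMf : Finite (MulAut P) := finite_mulAut
  have hMf' : Finite (MulAut N) := finite_mulAut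
  obtain ⟨v, hv, β', hβ', hex, htr⟩ := h
  obtain ⟨m, hm, hm'⟩ := H792.exists_pow_coprime (p := p) β' hκp
  have hκm : κ ^ m = κ := by
    conv_rhs => rw [← pow_one κ]
    exact pow_eq_pow_iff_modEq.2 hm'
  have hκN : κ ∈ Subgroup.normalizer ((autInducedBy N P : Subgroup (MulAut P)) : Set (MulAut P)) :=
    mem_normalizer_of_conj_mem hV
  have hcos : ∀ j : ℕ, (κ * v) ^ j * (κ ^ j)⁻¹ ∈ autInducedBy N P := by
    intro j
    induction j with
    | zero => simp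
    | succ j ih =>
      have h1 : (κ * v) ^ (j + 1) * (κ ^ (j + 1))⁻¹ =
          ((κ * v) ^ j * (κ ^ j)⁻¹) * (κ ^ (j + 1) * v * (κ ^ (j + 1))⁻¹) := by
        rw [pow_succ, pow_succ]
        group
      rw [h1]
      exact mul_mem ih ((Subgroup.mem_normalizer_iff.1 (pow_mem hκN (j + 1)) v).1 hv)
  have hex' := hex.pow hPN m
  have hcop : Nat.Coprime (orderOf ((κ * v) ^ m)) p :=
    Nat.Coprime.coprime_dvd_left (hex'.orderOf_dvd hPN) hm
  have hc1 := hcos m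
  rw [hκm] at hc1
  obtain ⟨w, hw, hwe⟩ := exists_conj_of_coset (isPGroup_autInducedBy (hS.to_le hNS) P) hV hκp hcop hc1
  obtain ⟨n, hn, hc⟩ := exists_cj_of_mem hw
  obtain ⟨w', hw'⟩ := exists_cj (P := N) (Subgroup.le_normalizer hn)
  have hw'F : w' ∈ F.autGroup N := hw'.mem_autGroup hNS (hNS hn)
  refine ⟨w'⁻¹ * β' ^ m * w'⁻¹⁻¹, mul_mem (mul_mem (inv_mem hw'F) (pow_mem hβ' m))
    (inv_mem (inv_mem hw'F)), ?_, ?_, (htr.pow m).conj hT hNS (inv_mem hw'F)⟩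
  · have : orderOf (w'⁻¹ * β' ^ m * w'⁻¹⁻¹) = orderOf (β' ^ m) := by
      have := orderOf_injective (MulAut.conj w'⁻¹).toMonoidHom (MulAut.conj w'⁻¹).injective (β' ^ m)
      exact this
    rwa [this]
  · have h1 := (((hc.ex hw').inv hPN).mul hPN hex').mul hPN (((hc.ex hw').inv hPN).inv hPN)
    have h2 : w⁻¹ * (κ * v) ^ m * w⁻¹⁻¹ = κ := by rw [hwe]; group
    rwa [h2] at h1

/-- `Aut_{C_S(P)}(P*)` is a Sylow `p`-subgroup of `C_{Aut_F(P*)}(P)` for `P* = P C_T(P)`, `P` fully centralised. -/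
theorem sylIn_centralizer [Finite S] [Fact p.Prime] (hS : IsPGroup p S) {F : FusionSystem S}
    (hF : F.IsSaturated p) (hfc : F.IsFullyCentralized P) {P₂ : Subgroup Ω} (hPP : P ≤ P₂)
    (hP₂S : P₂ ≤ S) (hn : centralizerIn S P ≤ Subgroup.normalizer (P₂ : Set Ω))
    {W : Subgroup (MulAut P₂)}
    (hW : ∀ w, w ∈ W ↔ w ∈ F.autGroup P₂ ∧ Ex (1 : MulAut P) w) :
    SylIn p (autInducedBy (centralizerIn S P) P₂) W := by
  have hP₂f : Finite P₂ := H802.finite_of_le hP₂S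
  have hMf : Finite (MulAut P₂) := finite_mulAut
  have hCS : centralizerIn S P ≤ S := inf_le_left
  have hDW : autInducedBy (centralizerIn S P) P₂ ≤ W := by
    intro α hα
    obtain ⟨g, hg, hc⟩ := exists_cj_of_mem hα
    refine (hW α).2 ⟨hc.mem_autGroup hP₂S (hCS hg), fun x hx hx' => ?_⟩
    rw [hc]
    show g * x * g⁻¹ = x
    rw [← (mem_centralizerIn.1 hg).2 x hx]
    group
  have hDp : IsPGroup p (autInducedBy (centralizerIn S P) P₂) :=
    isPGroup_autInducedBy (hS.to_le hCS) P₂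
  obtain ⟨W₀, hDW₀, hW₀⟩ := exists_sylIn hDW hDp
  obtain ⟨Q₂, ⟨φ, hφ, hr⟩, hQ₂⟩ := H802.exists_isFullyNormalized hS hF hP₂S
  have hW₀A : W₀ ≤ F.autGroup P₂ := fun w hw => ((hW w).1 (hW₀.le hw)).1
  obtain ⟨b, hb, hbc⟩ := H802.exists_aut_conj_le_of_isPGroup hφ hr
    (H802.isFullyAutomized_of_isFullyNormalized hS hF hQ₂) W₀ hW₀A hW₀.isPGroup
  set e₀ : P₂ ≃* Q₂ := H802.isoOf φ (F.injective_of_mem hφ) hr with he₀
  -- the combined isomorphism `e = b e₀`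
  set e : P₂ ≃* Q₂ := e₀.trans b with he
  have hconj : ∀ α : MulAut P₂, MulAut.congr e α = b * MulAut.congr e₀ α * b⁻¹ := by
    intro α
    ext x
    rfl
  obtain ⟨f₀, hf₀, hf₀e⟩ := exists_iso_of_hom hφ
  rw [hr] at hf₀
  obtain ⟨fb, hfb, hfbe⟩ := exists_iso_of_aut hQ₂.1 hb
  have hf : Iso F P₂ Q₂ (fb ∘ f₀) := hf₀.trans hfb
  have hef : ∀ x : P₂, ((e x : Q₂) : Ω) = (fb ∘ f₀) x := by
    intro x
    show ((b (e₀ x) : Q₂) : Ω) = fb (f₀ x)
    rw [← hfbe]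
    congr 1
    rw [he₀, H802.coe_isoOf, hf₀e x x.2]
  set f := fb ∘ f₀ with hfdef
  obtain ⟨P', hP', hP'Q₂⟩ := hf.restrict hPP
  -- injection of `W₀`
  have hmap : W₀.map (MulAut.congr e).toMonoidHom ≤ autInducedBy (centralizerIn S P') Q₂ := by
    rintro _ ⟨w, hw, rfl⟩
    have h1 : MulAut.congr e w ∈ autInducedBy S Q₂ := by rw [hconj]; exact hbc w hw
    obtain ⟨s, hs, hc⟩ := exists_cj_of_mem h1
    refine Cj.mem (g := s) hc (mem_centralizerIn.2 ⟨hs, fun y hy => ?_⟩)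
    obtain ⟨x, hx, rfl⟩ := hP'.surj hy
    have h2 := hc (e ⟨x, hPP hx⟩)
    have h3 : MulAut.congr e w (e ⟨x, hPP hx⟩) = e (w ⟨x, hPP hx⟩) := by simp [MulAut.congr]
    have h4 : w ⟨x, hPP hx⟩ = ⟨x, hPP hx⟩ := Subtype.ext (((hW w).1 (hW₀.le hw)).2 x hx (hPP hx))
    rw [h3, h4, hef] at h2
    have h5 : f x = s * f x * s⁻¹ := h2
    calc f x * s = (s * f x * s⁻¹) * s := by rw [← h5]
      _ = s * f x := by group
  have hQ₂f : Finite Q₂ := H802.finite_of_le hQ₂.1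
  have hMf₂ : Finite (MulAut Q₂) := finite_mulAut
  have hc1 : Nat.card W₀ ≤ Nat.card (autInducedBy (centralizerIn S P') Q₂) := by
    have h1 : Nat.card W₀ = Nat.card (W₀.map (MulAut.congr e).toMonoidHom) :=
      Nat.card_congr (W₀.equivMapOfInjective _ (MulAut.congr e).injective).toEquiv
    rw [h1]
    exact Subgroup.card_le_of_le hmap
  have hfin1 : Finite (centralizerIn S P') := H802.finite_of_le inf_le_left
  have hfin2 : Finite (centralizerIn S P) := H802.finite_of_le inf_le_left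
  have hc2 := H802.card_autInducedBy_mul (centralizerIn S P') Q₂
  have hc3 := H802.card_autInducedBy_mul (centralizerIn S P) P₂
  have he1 : centralizerIn (centralizerIn S P') Q₂ = centralizerIn S Q₂ := by
    ext x
    constructor
    · intro hx
      have := mem_centralizerIn.1 hx
      exact mem_centralizerIn.2 ⟨(mem_centralizerIn.1 this.1).1, this.2⟩
    · intro hx
      have := mem_centralizerIn.1 hx
      exact mem_centralizerIn.2 ⟨mem_centralizerIn.2 ⟨this.1, fun y hy => this.2 y (hP'Q₂ hy)⟩, this.2⟩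
  have he2 : centralizerIn (centralizerIn S P) P₂ = centralizerIn S P₂ := by
    ext x
    constructor
    · intro hx
      have := mem_centralizerIn.1 hx
      exact mem_centralizerIn.2 ⟨(mem_centralizerIn.1 this.1).1, this.2⟩
    · intro hx
      have := mem_centralizerIn.1 hx
      exact mem_centralizerIn.2 ⟨mem_centralizerIn.2 ⟨this.1, fun y hy => this.2 y (hPP hy)⟩, this.2⟩
  have he3 : normalizerIn (centralizerIn S P) P₂ = centralizerIn S P := inf_eq_left.2 hn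
  rw [he1] at hc2
  rw [he2, he3] at hc3
  have hc4 : Nat.card (normalizerIn (centralizerIn S P') Q₂) ≤ Nat.card (centralizerIn S P') :=
    Subgroup.card_le_of_le inf_le_left
  have hc5 : Nat.card (centralizerIn S P') ≤ Nat.card (centralizerIn S P) := hfc.2 P' hP'.isConj
  have hc6 : Nat.card (centralizerIn S P₂) ≤ Nat.card (centralizerIn S Q₂) :=
    (H802.isFullyCentralized_of_isFullyNormalized hS hF hQ₂).2 P₂
      (H802.isConj_symm ⟨φ, hφ, hr⟩)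
  have hfin3 : Finite (centralizerIn S Q₂) := H802.finite_of_le inf_le_left
  have hpos : 0 < Nat.card (centralizerIn S Q₂) := Nat.card_pos
  have hle : Nat.card W₀ ≤ Nat.card (autInducedBy (centralizerIn S P) P₂) := by
    have h1 : Nat.card W₀ * Nat.card (centralizerIn S Q₂) ≤
        Nat.card (autInducedBy (centralizerIn S P) P₂) * Nat.card (centralizerIn S Q₂) := by
      calc Nat.card W₀ * Nat.card (centralizerIn S Q₂)
          ≤ Nat.card (autInducedBy (centralizerIn S P') Q₂) * Nat.card (centralizerIn S Q₂) :=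
            Nat.mul_le_mul_right _ hc1
        _ = Nat.card (normalizerIn (centralizerIn S P') Q₂) := hc2
        _ ≤ Nat.card (centralizerIn S P) := hc4.trans hc5
        _ = Nat.card (autInducedBy (centralizerIn S P) P₂) * Nat.card (centralizerIn S P₂) :=
            hc3.symm
        _ ≤ _ := Nat.mul_le_mul_left _ hc6
    exact Nat.le_of_mul_le_mul_right h1 hpos
  have hWf : Finite W₀ := inferInstance
  have : autInducedBy (centralizerIn S P) P₂ = W₀ := Subgroup.eq_of_le_of_card_ge hDW₀ hle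
  rw [this]
  exact hW₀

/-- **The extension theorem** (`MulAut` form). -/
theorem exists_extension_aut [Finite S] [Fact p.Prime] (hS : IsPGroup p S) {E : FusionSystem T}
    {F : FusionSystem S} (hE : E.IsNormalIn F p) (hPT : P ≤ T) (hfn : F.IsFullyNormalized P)
    {κ : MulAut P} (hκ : κ ∈ E.autGroup P) (hκp : Nat.Coprime (orderOf κ) p) (hPN : P ≤ N)
    (hCN : centralizerIn S P ≤ N) (hNn : N ≤ normalizerIn S P)
    (hV : ∀ v ∈ autInducedBy N P, κ * v * κ⁻¹ ∈ autInducedBy N P) :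
    ∃ κ' ∈ F.autGroup N, Nat.Coprime (orderOf κ') p ∧ Ex κ κ' ∧ Tr T κ' := by
  have hF := hE.1.2.1
  have hT : F.StronglyClosed T := hE.1.2.2.2.1
  have hTS : T ≤ S := hT.1
  have hPS := hPT.trans hTS
  have hNS : N ≤ S := hNn.trans inf_le_left
  have hSn := normalizer_of_stronglyClosed hT
  have hTf : Finite T := H802.finite_of_le hTS
  have hTp : IsPGroup p T := hS.to_le hTS
  obtain ⟨hRA, hUB, hRB, hErec⟩ := sylow_facts hS hE.1 hPT hfn
  have hfc := H802.isFullyCentralized_of_isFullyNormalized hS hF hfn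
  refine exists_of_con hS hT hPN hNn hκp hV ?_
  set P₂ : Subgroup Ω := P ⊔ centralizerIn T P with hP₂
  have hPP : P ≤ P₂ := le_sup_left
  have hCP : centralizerIn T P ≤ P₂ := le_sup_right
  have hCTn : centralizerIn T P ≤ Subgroup.normalizer (P : Set Ω) :=
    (H802.centralizerIn_le_normalizerIn T P).trans inf_le_right
  have hP₂m : ∀ x ∈ P₂, ∃ y ∈ P, ∃ c ∈ centralizerIn T P, y * c = x := fun x hx =>
    (mem_sup_of_normalizes hCTn).1 hx
  have hP₂T : P₂ ≤ T := sup_le hPT inf_le_left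
  have hP₂S : P₂ ≤ S := hP₂T.trans hTS
  have hCTN : centralizerIn T P ≤ N := (inf_le_inf_right _ hTS : centralizerIn T P ≤ centralizerIn S P).trans hCN
  have hP₂N : P₂ ≤ N := sup_le hPN hCTN
  have hP₂f : Finite P₂ := H802.finite_of_le hP₂S
  have hNf : Finite N := H802.finite_of_le hNS
  have hPf : Finite P := H802.finite_of_le hPS
  have hMf : Finite (MulAut P₂) := finite_mulAut
  have hnP₂ : normalizerIn S P ≤ Subgroup.normalizer (P₂ : Set Ω) := by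
    intro g hg
    obtain ⟨hg1, hg2⟩ := mem_normalizerIn.1 hg
    refine mem_normalizer_of_conj_mem fun x hx => ?_
    obtain ⟨y, hy, c, hc, rfl⟩ := hP₂m x hx
    have h1 : g * (y * c) * g⁻¹ = (g * y * g⁻¹) * (g * c * g⁻¹) := by group
    rw [h1]
    refine mul_mem (hPP ((Subgroup.mem_normalizer_iff.1 hg2 y).1 hy)) (hCP ?_)
    refine mem_centralizerIn.2 ⟨conj_mem_of_stronglyClosed hT hg1 (mem_centralizerIn.1 hc).1,
      fun z hz => ?_⟩
    have h3 : g⁻¹ * z * g ∈ P := by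
      have := (Subgroup.mem_normalizer_iff.1 (inv_mem hg2) z).1 hz
      simpa using this
    have h4 := (mem_centralizerIn.1 hc).2 _ h3
    calc z * (g * c * g⁻¹) = g * ((g⁻¹ * z * g) * c) * g⁻¹ := by group
      _ = g * (c * (g⁻¹ * z * g)) * g⁻¹ := by rw [h4]
      _ = g * c * g⁻¹ * z := by group
  -- extension of `κ` to `P₂`
  obtain ⟨κ₁, hκ₁, hex₁⟩ := exists_ext_aut hErec hPP hCP
    (le_inf hP₂T (sup_le Subgroup.le_normalizer hCTn)) hκ (by
      intro v hv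
      obtain ⟨x, hx, hc⟩ := exists_cj_of_mem hv
      obtain ⟨y, hy, c, hcc, rfl⟩ := hP₂m x hx
      have hc' : Cj y v := by
        intro z
        rw [hc z]
        have h4 := (mem_centralizerIn.1 hcc).2 z z.2
        calc y * c * (z : Ω) * (y * c)⁻¹ = y * (c * z) * c⁻¹ * y⁻¹ := by group
          _ = y * (z * c) * c⁻¹ * y⁻¹ := by rw [h4]
          _ = y * z * y⁻¹ := by group
      have h1 := Cj.conj_of_ex (N := P) le_rfl (γ := κ) (α := κ) (fun _ _ _ => rfl)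
        (n := ⟨y, hy⟩) hc'
      exact h1.mem (hPP (κ ⟨y, hy⟩).2))
  -- `W`, `W_B`
  let W : Subgroup (MulAut P₂) :=
    { carrier := {w | w ∈ F.autGroup P₂ ∧ Ex (1 : MulAut P) w}
      one_mem' := ⟨one_mem _, Ex.one⟩
      mul_mem' := fun {a b} ha hb => ⟨mul_mem ha.1 hb.1, by
        have := ha.2.mul hPP hb.2
        rwa [one_mul] at this⟩
      inv_mem' := fun {a} ha => ⟨inv_mem ha.1, by
        have := ha.2.inv hPP
        rwa [inv_one] at this⟩ }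
  set B₂ := E.autGroup P₂ with hB₂
  have hB₂A : B₂ ≤ F.autGroup P₂ := autGroup_le_of_isSubsystemOf hE.1.2.2.1 hP₂T hP₂S
  have hCn : centralizerIn S P ≤ Subgroup.normalizer (P₂ : Set Ω) :=
    (H802.centralizerIn_le_normalizerIn S P).trans hnP₂
  have hDsyl : SylIn p (autInducedBy (centralizerIn S P) P₂) W :=
    sylIn_centralizer hS hF hfc hPP hP₂S hCn (fun w => Iff.rfl)
  have hWB : SylIn p (autInducedBy (centralizerIn S P) P₂ ⊓ (W ⊓ B₂)) (W ⊓ B₂) :=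
    hDsyl.inf_normal inf_le_left fun k hk m hm =>
      Subgroup.mem_inf.2 ⟨mul_mem (mul_mem hk (Subgroup.mem_inf.1 hm).1) (inv_mem hk),
        autGroup_conj_mem hE.1.2.2 hP₂T hk.1 (Subgroup.mem_inf.1 hm).2⟩
  set V₂ := autInducedBy N P₂ with hV₂
  have hV₂p : IsPGroup p V₂ := isPGroup_autInducedBy (hS.to_le hNS) P₂
  have hV₂A : V₂ ≤ F.autGroup P₂ := by
    intro v hv
    obtain ⟨n, hn, hc⟩ := exists_cj_of_mem hv
    exact hc.mem_autGroup hP₂S (hNS hn)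
  have hDV₂ : autInducedBy (centralizerIn S P) P₂ ≤ V₂ := by
    intro v hv
    obtain ⟨n, hn, hc⟩ := exists_cj_of_mem hv
    exact hc.mem (hCN hn)
  have hV₂n : V₂ ≤ Subgroup.normalizer (((W ⊓ B₂ : Subgroup (MulAut P₂))) : Set (MulAut P₂)) := by
    intro v hv
    refine mem_normalizer_of_conj_mem fun w hw => ?_
    obtain ⟨n, hn, hc⟩ := exists_cj_of_mem hv
    obtain ⟨v₀, hv₀⟩ := exists_cj (P := P) (hNn hn).2
    obtain ⟨hw1, hw2⟩ := Subgroup.mem_inf.1 hw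
    refine Subgroup.mem_inf.2 ⟨⟨mul_mem (mul_mem (hV₂A hv) hw1.1) (inv_mem (hV₂A hv)), ?_⟩,
      autGroup_conj_mem hE.1.2.2 hP₂T (hV₂A hv) hw2⟩
    have h1 := ((hv₀.ex hc).mul hPP hw1.2).mul hPP ((hv₀.ex hc).inv hPP)
    rwa [mul_one, mul_inv_cancel] at h1
  -- `V₂` is Sylow in `W_B V₂`
  set X : Subgroup (MulAut P₂) := (W ⊓ B₂) ⊔ V₂ with hX
  have hWBX : W ⊓ B₂ ≤ X := le_sup_left
  have hV₂X : V₂ ≤ X := le_sup_right
  have hXm : ∀ x ∈ X, ∃ w ∈ W ⊓ B₂, ∃ v ∈ V₂, w * v = x := fun x hx =>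
    (mem_sup_of_normalizes hV₂n).1 hx
  have hV₂syl : SylIn p V₂ X := by
    obtain ⟨V₃, hV₂V₃, hV₃⟩ := exists_sylIn hV₂X hV₂p
    have hle : V₃ ≤ V₂ := by
      intro x hx
      obtain ⟨w, hw, v, hv, rfl⟩ := hXm x (hV₃.le hx)
      have hw3 : w ∈ V₃ := by
        have := mul_mem hx (inv_mem (hV₂V₃ hv))
        simpa using this
      have h1 : V₃ ⊓ (W ⊓ B₂) = autInducedBy (centralizerIn S P) P₂ ⊓ (W ⊓ B₂) := by
        refine hWB.eq_of_le inf_le_right (hV₃.isPGroup.to_le inf_le_left) ?_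
        exact inf_le_inf_right _ (hDV₂.trans hV₂V₃)
      have h2 : w ∈ V₃ ⊓ (W ⊓ B₂) := Subgroup.mem_inf.2 ⟨hw3, hw⟩
      rw [h1] at h2
      exact mul_mem (hDV₂ (Subgroup.mem_inf.1 h2).1) hv
    have : V₂ = V₃ := le_antisymm hV₂V₃ hle
    rw [this]
    exact hV₃
  -- `κ₁ V₂ κ₁⁻¹ ≤ X`
  have hκ₁X : V₂.map (MulAut.conj κ₁).toMonoidHom ≤ X := by
    rintro _ ⟨v, hv, rfl⟩
    show κ₁ * v * κ₁⁻¹ ∈ X
    obtain ⟨n, hn, hc⟩ := exists_cj_of_mem hv
    obtain ⟨v₀, hv₀⟩ := exists_cj (P := P) (hNn hn).2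
    obtain ⟨t, ht, u₀, hu₀, hcomm⟩ := exists_comm hS hE.1 hPT hfn hNn hκ hV (hv₀.mem hn)
    have hu₀V : u₀ ∈ autInducedBy N P := by
      have h1 := mul_mem (hV v₀ (hv₀.mem hn)) (inv_mem (hv₀.mem hn))
      rw [hcomm] at h1
      simpa using h1
    have htN : t ∈ N := mem_of_cj_mem hCN hNS (hTS ht) hu₀ hu₀V
    obtain ⟨u, hu⟩ := exists_cj (P := P₂) (hnP₂ (hNn htN))
    have hw : u⁻¹ * (κ₁ * v * κ₁⁻¹ * v⁻¹) ∈ W ⊓ B₂ := by
      have hB : u⁻¹ * (κ₁ * v * κ₁⁻¹ * v⁻¹) ∈ B₂ := by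
        have h1 : u⁻¹ * (κ₁ * v * κ₁⁻¹ * v⁻¹) = u⁻¹ * (κ₁ * (v * κ₁⁻¹ * v⁻¹)) := by group
        rw [h1]
        exact mul_mem (inv_mem (hu.mem_autGroup hP₂T ht))
          (mul_mem hκ₁ (autGroup_conj_mem hE.1.2.2 hP₂T (hV₂A hv) (inv_mem hκ₁)))
      refine Subgroup.mem_inf.2 ⟨⟨hB₂A hB, ?_⟩, hB⟩
      have h1 : Ex (u₀⁻¹ * (κ * v₀ * κ⁻¹ * v₀⁻¹)) (u⁻¹ * (κ₁ * v * κ₁⁻¹ * v⁻¹)) :=
        ((hu₀.ex hu).inv hPP).mul hPP (((hex₁.mul hPP (hv₀.ex hc)).mul hPP (hex₁.inv hPP)).mul hPP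
          ((hv₀.ex hc).inv hPP))
      have h2 : u₀⁻¹ * (κ * v₀ * κ⁻¹ * v₀⁻¹) = 1 := by rw [hcomm]; group
      rwa [h2] at h1
    have h1 : κ₁ * v * κ₁⁻¹ = u * (u⁻¹ * (κ₁ * v * κ₁⁻¹ * v⁻¹)) * v := by group
    rw [h1]
    exact mul_mem (mul_mem (hV₂X (hu.mem htN)) (hWBX hw)) (hV₂X hv)
  obtain ⟨x, hx, hxc⟩ := hV₂syl.exists_conj hκ₁X (hV₂p.map _)
  obtain ⟨w, hw, v, hv, hwv⟩ := hXm x⁻¹ (inv_mem hx)
  -- `x = v⁻¹ w⁻¹`
  have hxe : x = v⁻¹ * w⁻¹ := by rw [← inv_inv x, ← hwv]; group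
  set κ₂ := w⁻¹ * κ₁ with hκ₂
  have hw' := Subgroup.mem_inf.1 (inv_mem hw)
  have hκ₂B : κ₂ ∈ B₂ := mul_mem hw'.2 hκ₁
  have hex₂ : Ex κ κ₂ := by
    have := hw'.1.2.mul hPP hex₁
    rwa [one_mul] at this
  have hκ₂V : ∀ a ∈ autInducedBy N P₂, κ₂ * a * κ₂⁻¹ ∈ autInducedBy N P₂ := by
    intro a ha
    have h1 := hxc (κ₁ * a * κ₁⁻¹) ⟨a, ha, rfl⟩
    have h2 : κ₂ * a * κ₂⁻¹ = v * (x * (κ₁ * a * κ₁⁻¹) * x⁻¹) * v⁻¹ := by rw [hxe, hκ₂]; group
    rw [h2]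
    exact mul_mem (mul_mem hv h1) (inv_mem hv)
  have hpsi : Psi E F P₂ N :=
    psi_of_pr hS hE.1 hfn hPP hP₂T hCP hnP₂ hP₂N hCN hNn fun Q₂ N' hpr _ _ => psi hS hE hpr
  obtain ⟨a, ha, β', hβ', hex, htr⟩ := hpsi κ₂ hκ₂B hκ₂V
  obtain ⟨n, hn, hc⟩ := exists_cj_of_mem ha
  obtain ⟨a₀, ha₀⟩ := exists_cj (P := P) (hNn hn).2
  exact ⟨a₀, ha₀.mem hn, β', hβ', (hex₂.mul hPP (ha₀.ex hc)).trans hPP hex, htr⟩

/-- **The extension theorem**, with maps as functions on the ambient group. -/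
theorem exists_extension_of_normal [Finite S] [Fact p.Prime] (hS : IsPGroup p S)
    {F : FusionSystem S} {E : FusionSystem T} (hE : E.IsNormalIn F p) (hPT : P ≤ T)
    (hP : F.IsFullyNormalized P) {κ : Ω → Ω} (hκ : H752.Mp E P κ) (hκP : ∀ x ∈ P, κ x ∈ P) {m : ℕ}
    (hm : m.Coprime p) (hκm : ∀ x ∈ P, κ^[m] x = x) (hPN : P ≤ N) (hCN : centralizerIn S P ≤ N)
    (hN : N ≤ normalizerIn S P)
    (hV : ∀ n ∈ N, ∃ n' ∈ N, ∀ x ∈ P, κ (n * x * n⁻¹) = n' * κ x * n'⁻¹) :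
    ∃ κ' : Ω → Ω, H752.Mp F N κ' ∧ (∀ x ∈ N, κ' x ∈ N) ∧ (∀ x ∈ P, κ' x = κ x) ∧
      (∃ m' : ℕ, m'.Coprime p ∧ ∀ x ∈ N, κ'^[m'] x = x) ∧ ∀ n ∈ N, n⁻¹ * κ' n ∈ T := by
  have hNS : N ≤ S := hN.trans inf_le_left
  have hPf : Finite P := H802.finite_of_le (hPN.trans hNS)
  have hNf : Finite N := H802.finite_of_le hNS
  obtain ⟨α, hα, hαe⟩ := hκ.exists_aut hκP
  have hpow : ∀ (j : ℕ) (x : P), κ^[j] (x : Ω) = ((α ^ j) x : P) := by
    intro j
    induction j with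
    | zero => intro x; rfl
    | succ j ih =>
      intro x
      rw [Function.iterate_succ_apply, pow_succ, MulAut.mul_apply, hαe x x.2, ih]
  have hord : Nat.Coprime (orderOf α) p := by
    refine Nat.Coprime.coprime_dvd_left (orderOf_dvd_of_pow_eq_one (n := m) ?_) hm
    ext x
    rw [← hpow, hκm x x.2]
    rfl
  obtain ⟨β, hβ, hβp, hex, htr⟩ := exists_extension_aut hS hE hPT hP hα hord hPN hCN hN (by
    intro v hv
    obtain ⟨n, hn, hc⟩ := exists_cj_of_mem hv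
    obtain ⟨n', hn', h1⟩ := hV n hn
    refine Cj.mem (g := n') (fun x => ?_) hn'
    have h2 : x = α (α⁻¹ x) := (MulAut.apply_inv_self _ _ _).symm
    rw [MulAut.mul_apply, MulAut.mul_apply]
    have h3 := h1 (α⁻¹ x : P) (α⁻¹ x).2
    have h4 : (v (α⁻¹ x) : P) = ⟨n * (α⁻¹ x : P) * n⁻¹, by rw [← hc]; exact (v (α⁻¹ x)).2⟩ :=
      Subtype.ext (hc _)
    rw [h4, ← hαe _ (by rw [← hc]; exact (v (α⁻¹ x)).2), h3, hαe _ (α⁻¹ x).2]
    conv_rhs => rw [h2])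
  obtain ⟨f, hf, hfe⟩ := exists_iso_of_aut hNS hβ
  have hfe' : ∀ (x : Ω) (hx : x ∈ N), f x = (β ⟨x, hx⟩ : N) := fun x hx => hfe ⟨x, hx⟩
  have hpow' : ∀ (j : ℕ) (x : N), f^[j] (x : Ω) = ((β ^ j) x : N) := by
    intro j
    induction j with
    | zero => intro x; rfl
    | succ j ih =>
      intro x
      rw [Function.iterate_succ_apply, pow_succ, MulAut.mul_apply, hfe x, ih]
  refine ⟨f, H752.mp_of_autGroup hNS hβ hfe', fun x hx => ?_, fun x hx => ?_,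
    ⟨orderOf β, hβp, fun x hx => ?_⟩, fun n hn => ?_⟩
  · rw [hfe' x hx]
    exact (β _).2
  · rw [hfe' x (hPN hx), hex x hx (hPN hx), hαe x hx]
  · rw [hpow' _ ⟨x, hx⟩, pow_orderOf_eq_one]
    rfl
  · rw [hfe' n hn]
    exact htr ⟨n, hn⟩

end Cfsg.Agent.H757
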