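import Cfsg.Agent.H759.FusSolvable
import Cfsg.Agent.H802.FusAbel

/-!
# Central subgroups of a fusion system (helper757)

The centre of a fusion system over a finite group is central; maps fix it; the inner system of a saturated system
whose automorphism groups are all `p`-groups is trivial modulo conjugation.
-/

set_option autoImplicit false

namespace Cfsg.Agent.H757

open Cfsg Cfsg.FusionSystem

variable {Ω : Type*} [Group Ω] {S : Subgroup Ω} {F : FusionSystem S}

/-- A map of the system fixes the elements of a central subgroup. -/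
theorem IsCentral.apply_eq {Z : Subgroup Ω} (hZ : F.IsCentral Z) {P : Subgroup Ω} {φ : P →* Ω}
    (hφ : φ ∈ F.Hom P) {x : P} (hx : (x : Ω) ∈ Z) : φ x = x := by
  obtain ⟨ψ, -, h1, h2⟩ := hZ.2 P φ hφ
  rw [← h1 x]
  exact h2 ⟨x, hx⟩

theorem IsCentral.isNormal {Z : Subgroup Ω} (hZ : F.IsCentral Z) : F.IsNormal Z := by
  refine ⟨hZ.1, fun P φ hφ => ?_⟩
  obtain ⟨ψ, hψ, h1, h2⟩ := hZ.2 P φ hφ
  refine ⟨ψ, hψ, h1, ?_⟩
  ext y
  constructor
  · rintro ⟨x, hx, rfl⟩
    have h3 : ψ x = x := h2 ⟨x, hx⟩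
    rw [h3]
    exact hx
  · intro hy
    exact ⟨⟨y, (le_sup_right : Z ≤ P ⊔ Z) hy⟩, hy, h2 ⟨y, hy⟩⟩

theorem IsCentral.stronglyClosed {Z : Subgroup Ω} (hZ : F.IsCentral Z) : F.StronglyClosed Z :=
  H759.IsNormal.stronglyClosed (IsCentral.isNormal hZ)

theorem IsCentral.sup {Q R : Subgroup Ω} (hQ : F.IsCentral Q) (hR : F.IsCentral R) :
    F.IsCentral (Q ⊔ R) := by
  refine ⟨sup_le hQ.1 hR.1, fun P φ hφ => ?_⟩
  obtain ⟨ψ, hψ, h1, h1'⟩ := hQ.2 P φ hφ
  obtain ⟨χ, hχ, h2, h2'⟩ := hR.2 _ ψ hψ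
  have hle : P ⊔ (Q ⊔ R) ≤ (P ⊔ Q) ⊔ R := by rw [sup_assoc]
  refine ⟨χ.comp (Subgroup.inclusion hle), H759.res_mem_comp F hχ hle, fun x => ?_, ?_⟩
  · rw [← h1 x, ← h2]
    rfl
  · -- fixes Q ⊔ R
    let K : Subgroup (P ⊔ (Q ⊔ R) : Subgroup Ω) :=
      MonoidHom.eqLocus (χ.comp (Subgroup.inclusion hle)) (P ⊔ (Q ⊔ R)).subtype
    have hK : (Q ⊔ R) ≤ K.map (P ⊔ (Q ⊔ R)).subtype := by
      refine sup_le ?_ ?_
      · intro q hq
        have hq' : q ∈ P ⊔ (Q ⊔ R) := (le_sup_left.trans le_sup_right : Q ≤ P ⊔ (Q ⊔ R)) hq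
        refine ⟨⟨q, hq'⟩, ?_, rfl⟩
        show χ ⟨q, hle hq'⟩ = q
        have e1 := h2 ⟨q, (le_sup_right : Q ≤ P ⊔ Q) hq⟩
        have e2 := h1' ⟨q, hq⟩
        exact e1.trans e2
      · intro r hr
        have hr' : r ∈ P ⊔ (Q ⊔ R) := (le_sup_right.trans le_sup_right : R ≤ P ⊔ (Q ⊔ R)) hr
        refine ⟨⟨r, hr'⟩, ?_, rfl⟩
        exact h2' ⟨r, hr⟩
    intro x
    obtain ⟨⟨y, hy⟩, hyK, hyx⟩ := hK x.2
    have hyx' : y = x := hyx
    have : (Subgroup.inclusion (le_sup_right : Q ⊔ R ≤ P ⊔ (Q ⊔ R)) x) = ⟨y, hy⟩ :=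
      Subtype.ext hyx'.symm
    rw [this]
    exact hyK.trans hyx'

theorem isCentral_bot (F : FusionSystem S) : F.IsCentral ⊥ := by
  refine ⟨bot_le, fun P φ hφ => ?_⟩
  have hle : P ⊔ ⊥ ≤ P := by simp
  refine ⟨φ.comp (Subgroup.inclusion hle), H759.res_mem_comp F hφ hle, fun x => rfl, fun x => ?_⟩
  have hx : x = 1 := Subsingleton.elim _ _
  rw [hx, map_one, map_one]
  rfl

/-- The set of subgroups of a finite `S` is finite. -/
theorem finite_subgroups_le [Finite S] : {Q : Subgroup Ω | Q ≤ S}.Finite := by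
  have h2 : {Q : Subgroup Ω | Q ≤ S} = Set.range (fun H : Subgroup S => H.map S.subtype) := by
    ext Q
    constructor
    · intro hQ
      exact ⟨Q.subgroupOf S, by
        show (Q.subgroupOf S).map S.subtype = Q
        rw [Subgroup.subgroupOf_map_subtype, inf_eq_left.2 hQ]⟩
    · rintro ⟨H, rfl⟩
      exact Subgroup.map_subtype_le H
  rw [h2]
  exact Set.finite_range _

/-- The centre of a fusion system over a finite group is central. -/
theorem isCentral_center [Finite S] (F : FusionSystem S) : F.IsCentral F.center := by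
  have hfin : {Q : Subgroup Ω | F.IsCentral Q}.Finite :=
    finite_subgroups_le.subset fun Q hQ => hQ.1
  obtain ⟨Q, hQ, hmax⟩ := hfin.exists_maximal ⟨⊥, isCentral_bot F⟩
  have hc : F.center = Q := by
    apply le_antisymm
    · refine sSup_le (fun R hR => ?_)
      have h1 : F.IsCentral (Q ⊔ R) := IsCentral.sup hQ hR
      exact le_sup_right.trans (hmax h1 le_sup_left)
    · exact le_sSup hQ
  rw [hc]; exact hQ

theorem center_le [Finite S] (F : FusionSystem S) : F.center ≤ S := (isCentral_center F).1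

theorem IsCentral.le_center {Z : Subgroup Ω} (hZ : F.IsCentral Z) : Z ≤ F.center := le_sSup hZ

theorem stronglyClosed_center [Finite S] (F : FusionSystem S) : F.StronglyClosed F.center :=
  IsCentral.stronglyClosed (isCentral_center F)

theorem center_apply_eq [Finite S] {P : Subgroup Ω} {φ : P →* Ω} (hφ : φ ∈ F.Hom P) {x : P}
    (hx : (x : Ω) ∈ F.center) : φ x = x :=
  IsCentral.apply_eq (isCentral_center F) hφ hx

theorem mem_center_comm [Finite S] {z s : Ω} (hz : z ∈ F.center) (hs : s ∈ S) : s * z = z * s :=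
  F.center_le_centralizer hz s hs

end Cfsg.Agent.H757
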