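import Cfsg.Agent.Solvable.SchurZassenhausConj
import Cfsg.Agent.H802.SylIn
import Cfsg.Agent.Transfer.Residual
/-!
# Group-theoretic lemmas used for fusion systems (helper757)
-/
set_option autoImplicit false

namespace Cfsg.Agent.H757

open Subgroup
open scoped Pointwise

theorem mem_normalizer_of_conj_mem {G : Type*} [Group G] {V : Subgroup G} [Finite V] {g : G}
    (h : ∀ v ∈ V, g * v * g⁻¹ ∈ V) : g ∈ Subgroup.normalizer (V : Set G) := by
  rw [Subgroup.mem_normalizer_iff_map_conj_eq]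
  refine Subgroup.eq_of_le_of_card_ge ?_ ?_
  · rintro _ ⟨x, hx, rfl⟩
    exact h x hx
  · exact (Nat.card_congr (V.equivMapOfInjective _ (MulAut.conj g).injective).toEquiv).le

/-- Elements of a product `V W` with `W` normalising `V`. -/
theorem mem_sup_of_normalizes {G : Type*} [Group G] {V W : Subgroup G}
    (h : W ≤ Subgroup.normalizer (V : Set G)) {x : G} :
    x ∈ V ⊔ W ↔ ∃ v ∈ V, ∃ w ∈ W, v * w = x := by
  have := Subgroup.coe_mul_of_right_le_normalizer_left V W h
  rw [← SetLike.mem_coe, this, Set.mem_mul]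
  rfl

theorem isSolvable_of_isPGroup {G : Type*} [Group G] [Finite G] {p : ℕ} [Fact p.Prime]
    (h : IsPGroup p G) : Group.IsSolvable G := by
  have : Group.IsNilpotent G := h.isNilpotent
  infer_instance

/-- Two `p'`-elements in the same coset of a `p`-subgroup normalised by them are conjugate under it. -/
theorem exists_conj_of_coset {G : Type*} [Group G] [Finite G] {p : ℕ} [Fact p.Prime]
    {V : Subgroup G} (hV : IsPGroup p V) {κ κ₁ : G} (hn : ∀ v ∈ V, κ * v * κ⁻¹ ∈ V)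
    (hκ : Nat.Coprime (orderOf κ) p) (hκ₁ : Nat.Coprime (orderOf κ₁) p) (h : κ₁ * κ⁻¹ ∈ V) :
    ∃ v ∈ V, κ₁ = v * κ * v⁻¹ := by
  classical
  have hκV : κ ∈ Subgroup.normalizer (V : Set G) := mem_normalizer_of_conj_mem hn
  obtain ⟨k, hk⟩ : ∃ k, Nat.card V = p ^ k := IsPGroup.iff_card.1 hV
  set H : Subgroup G := V ⊔ zpowers κ with hH
  have hVH : V ≤ H := le_sup_left
  have hκH : κ ∈ H := (le_sup_right : zpowers κ ≤ H) (mem_zpowers κ)
  have hκ₁H : κ₁ ∈ H := by
    have : κ₁ = (κ₁ * κ⁻¹) * κ := by group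
    rw [this]
    exact mul_mem (hVH h) hκH
  have hHn : H ≤ Subgroup.normalizer (V : Set G) :=
    sup_le Subgroup.le_normalizer (by rwa [zpowers_le])
  have hVn : (V.subgroupOf H).Normal := by
    rw [Subgroup.normal_subgroupOf_iff_le_normalizer hVH]
    exact hHn
  have hVc : Nat.card (V.subgroupOf H) = p ^ k := by
    rw [H802.card_subgroupOf_of_le hVH, hk]
  -- complement
  have key : ∀ (c : G) (hc : c ∈ H), Nat.Coprime (orderOf c) p → κ * c⁻¹ ∈ V →
      IsComplement' (V.subgroupOf H) (zpowers (⟨c, hc⟩ : H)) := by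
    intro c hc hcp hcV
    have hco : Nat.Coprime (p ^ k) (orderOf c) := (Nat.Coprime.pow_right k hcp).symm
    refine isComplement'_of_disjoint_and_mul_eq_univ ?_ ?_
    · refine disjoint_of_coprime_natCard ?_
      rw [hVc, Nat.card_zpowers]
      rwa [Subgroup.orderOf_mk]
    · rw [Set.eq_univ_iff_forall]
      intro x
      have hcn : c ∈ Subgroup.normalizer (V : Set G) := hHn hc
      have hx : (x : G) ∈ V ⊔ zpowers c := by
        have h1 : V ⊔ zpowers κ ≤ V ⊔ zpowers c := by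
          refine sup_le le_sup_left ?_
          rw [zpowers_le]
          have h2 : κ = (κ * c⁻¹) * c := by group
          rw [h2]
          exact mul_mem ((le_sup_left : V ≤ V ⊔ zpowers c) hcV)
            ((le_sup_right : zpowers c ≤ V ⊔ zpowers c) (mem_zpowers c))
        exact h1 x.2
      obtain ⟨v, hv, w, ⟨i, hw⟩, hvw⟩ := (mem_sup_of_normalizes (by rwa [zpowers_le])).1 hx
      refine Set.mem_mul.2 ⟨⟨v, hVH hv⟩, hv, (⟨c, hc⟩ : H) ^ i, ⟨i, rfl⟩, ?_⟩
      apply Subtype.ext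
      have hw' : c ^ i = w := hw
      simp [← hvw, ← hw']
  have hc1 := key κ hκH hκ (by simp)
  have hc2 := key κ₁ hκ₁H hκ₁ (by
    have := inv_mem h
    simpa using this)
  have hcop : (Nat.card (V.subgroupOf H)).Coprime (V.subgroupOf H).index := by
    rw [hc1.symm.index_eq_card, hVc, Nat.card_zpowers, Subgroup.orderOf_mk]
    exact (Nat.Coprime.pow_right k hκ).symm
  have : Finite (V.subgroupOf H) := inferInstance
  have hVp : IsPGroup p (V.subgroupOf H) := IsPGroup.of_card hVc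
  obtain ⟨g, hg⟩ := Solvable.SchurZassenhausConj.conj_of_solvable (V.subgroupOf H) hcop
    (Or.inl (isSolvable_of_isPGroup hVp)) _ _ hc1 hc2
  -- `g = v κ ^ i`
  obtain ⟨v, hv, w, ⟨i, hw⟩, hvw⟩ := (mem_sup_of_normalizes (V := V) (W := zpowers κ)
    (by rwa [zpowers_le])).1 g.2
  have hw' : κ ^ i = w := hw
  have h3 : (⟨κ₁, hκ₁H⟩ : H) ∈ MulAut.conj g • zpowers (⟨κ, hκH⟩ : H) := by
    rw [hg]
    exact mem_zpowers _
  rw [Subgroup.mem_pointwise_smul_iff_inv_smul_mem] at h3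
  obtain ⟨j, hj⟩ := h3
  have h4 : κ ^ j = (g : G)⁻¹ * κ₁ * g := by
    have := congrArg (Subtype.val) hj
    simpa [MulAut.smul_def] using this
  have h5 : κ₁ = v * κ ^ j * v⁻¹ := by
    have h6 : κ₁ = (g : G) * κ ^ j * (g : G)⁻¹ := by rw [h4]; group
    rw [h6, ← hvw, ← hw']
    have : κ ^ i * κ ^ j * (κ ^ i)⁻¹ = κ ^ j := by
      rw [← zpow_add, ← zpow_neg, ← zpow_add]
      congr 1
      ring
    calc v * κ ^ i * κ ^ j * (v * κ ^ i)⁻¹ = v * (κ ^ i * κ ^ j * (κ ^ i)⁻¹) * v⁻¹ := by group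
      _ = v * κ ^ j * v⁻¹ := by rw [this]
  refine ⟨v, hv, ?_⟩
  -- `κ ^ j = κ`
  have h7 : κ ^ (j - 1) ∈ V := by
    have h8 : v⁻¹ * κ₁ * v * κ⁻¹ ∈ V := by
      have : v⁻¹ * κ₁ * v * κ⁻¹ = v⁻¹ * ((κ₁ * κ⁻¹) * (κ * v * κ⁻¹)) := by group
      rw [this]
      exact mul_mem (inv_mem hv) (mul_mem h (hn v hv))
    have h9 : κ ^ (j - 1) = v⁻¹ * κ₁ * v * κ⁻¹ := by
      rw [h5, zpow_sub, zpow_one]
      group
    rw [h9]
    exact h8
  have h10 : κ ^ (j - 1) = 1 := by
    have hd : Disjoint (zpowers κ) V := by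
      refine disjoint_of_coprime_natCard ?_
      rw [hk, Nat.card_zpowers]
      exact Nat.Coprime.pow_right k hκ
    exact (Subgroup.disjoint_def.1 hd) ⟨j - 1, rfl⟩ h7
  have h11 : κ ^ j = κ := by
    have : κ ^ j = κ ^ (j - 1) * κ := by
      rw [← zpow_add_one]
      congr 1
      ring
    rw [this, h10, one_mul]
  rw [h5, h11]

open H802

/-- A finite group all of whose `p'`-elements are trivial is a `p`-group. -/
theorem isPGroup_of_coprime {G : Type*} [Group G] {p : ℕ} [Fact p.Prime] {L : Subgroup G} [Finite L]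
    (h : ∀ x ∈ L, Nat.Coprime (orderOf x) p → x = 1) : IsPGroup p L := by
  intro x
  obtain ⟨k, hk⟩ := Transfer.Residual.exists_pow_prime_pow_coprime p x
  refine ⟨k, ?_⟩
  apply Subtype.ext
  refine h _ (x ^ p ^ k).2 ?_
  rwa [Subgroup.orderOf_coe]

/-- A normal `p`-subgroup lies in every Sylow `p`-subgroup. -/
theorem le_of_normal_pGroup {G : Type*} [Group G] {p : ℕ} [Fact p.Prime] {R K L : Subgroup G} [Finite K]
    (hR : SylIn p R K) (hL : L ≤ K) (hLp : IsPGroup p L) (hn : ∀ k ∈ K, ∀ l ∈ L, k * l * k⁻¹ ∈ L) :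
    L ≤ R := by
  obtain ⟨k, hk, h⟩ := hR.exists_conj hL hLp
  intro l hl
  have h1 := hn k⁻¹ (inv_mem hk) l hl
  have h2 := h _ h1
  simpa [mul_assoc] using h2

/-- The Frattini argument inside an ambient group. -/
theorem frattini_in {G : Type*} [Group G] {p : ℕ} [Fact p.Prime] {R K : Subgroup G} [Finite K]
    (hR : SylIn p R K) {m : G} (hm : ∀ k ∈ K, m * k * m⁻¹ ∈ K) :
    ∃ k ∈ K, ∀ r ∈ R, (k * m) * r * (k * m)⁻¹ ∈ R := by
  have h1 : R.map (MulAut.conj m).toMonoidHom ≤ K := by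
    rintro _ ⟨r, hr, rfl⟩
    exact hm r (hR.le hr)
  have h2 : IsPGroup p (R.map (MulAut.conj m).toMonoidHom) := hR.isPGroup.map _
  obtain ⟨k, hk, h⟩ := hR.exists_conj h1 h2
  refine ⟨k, hk, fun r hr => ?_⟩
  have h3 := h (m * r * m⁻¹) ⟨r, hr, rfl⟩
  have h4 : (k * m) * r * (k * m)⁻¹ = k * (m * r * m⁻¹) * k⁻¹ := by group
  rwa [h4]

/-- Every subgroup of a Sylow `p`-subgroup `R` of `A` has an `A`-conjugate `V' ≤ R` such that `N_R(V')` is a Sylow
`p`-subgroup of `N_A(V')`. -/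
theorem exists_conj_fully {G : Type*} [Group G] [Finite G] {p : ℕ} [Fact p.Prime]
    {A R V : Subgroup G} (hR : SylIn p R A) (hV : V ≤ R) :
    ∃ a ∈ A, V.map (MulAut.conj a).toMonoidHom ≤ R ∧
      SylIn p (R ⊓ Subgroup.normalizer ((V.map (MulAut.conj a).toMonoidHom : Subgroup G) : Set G))
        (A ⊓ Subgroup.normalizer ((V.map (MulAut.conj a).toMonoidHom : Subgroup G) : Set G)) := by
  have hVp : IsPGroup p V := hR.isPGroup.to_le hV
  have hVM : V ≤ A ⊓ Subgroup.normalizer (V : Set G) :=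
    le_inf (hV.trans hR.le) Subgroup.le_normalizer
  obtain ⟨Q, hVQ, hQ⟩ := exists_sylIn hVM hVp
  obtain ⟨a, ha, h⟩ := hR.exists_conj (hQ.le.trans inf_le_left) hQ.isPGroup
  have hVR : V.map (MulAut.conj a).toMonoidHom ≤ R := by
    rintro _ ⟨v, hv, rfl⟩
    exact h v (hVQ hv)
  refine ⟨a, ha, hVR, ?_⟩
  have hQ' := hQ.map_conj a
  have hM : (A ⊓ Subgroup.normalizer (V : Set G)).map (MulAut.conj a).toMonoidHom =
      A ⊓ Subgroup.normalizer ((V.map (MulAut.conj a).toMonoidHom : Subgroup G) : Set G) := by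
    have hA : A.map (MulAut.conj a).toMonoidHom = A := by
      ext x
      constructor
      · rintro ⟨y, hy, rfl⟩
        exact mul_mem (mul_mem ha hy) (inv_mem ha)
      · intro hx
        refine ⟨a⁻¹ * x * a, mul_mem (mul_mem (inv_mem ha) hx) ha, ?_⟩
        show a * (a⁻¹ * x * a) * a⁻¹ = x
        group
    rw [Subgroup.map_inf _ _ _ (MulAut.conj a).injective, hA]
    congr 1
    exact Subgroup.map_equiv_normalizer_eq V (MulAut.conj a)
  rw [hM] at hQ'
  have hle : Q.map (MulAut.conj a).toMonoidHom ≤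
      R ⊓ Subgroup.normalizer ((V.map (MulAut.conj a).toMonoidHom : Subgroup G) : Set G) := by
    refine le_inf ?_ (hQ'.le.trans inf_le_right)
    rintro _ ⟨v, hv, rfl⟩
    exact h v hv
  have hfin : Finite ↥(A ⊓ Subgroup.normalizer ((V.map (MulAut.conj a).toMonoidHom : Subgroup G) : Set G)) :=
    inferInstance
  have := hQ'.eq_of_le (inf_le_inf_right _ hR.le) (hR.isPGroup.to_le inf_le_left) hle
  rw [this]
  exact hQ'

/-- Normalisers grow: `U` normalised by `R`, `U ≰ V ≤ R` in a `p`-group `R`; then some element of `U` outside `V`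
normalises `V`. -/
theorem exists_normalizes_of_not_le {G : Type*} [Group G] {p : ℕ} [Fact p.Prime]
    {R U V : Subgroup G} [Finite R] (hR : IsPGroup p R) (hUR : U ≤ R) (hVR : V ≤ R)
    (hn : ∀ r ∈ R, ∀ u ∈ U, r * u * r⁻¹ ∈ U) (h : ¬ U ≤ V) :
    ∃ u ∈ U, u ∉ V ∧ u ∈ Subgroup.normalizer (V : Set G) := by
  have hUf : Finite U := Finite.of_injective _ (Subgroup.inclusion_injective hUR)
  have hVf : Finite V := Finite.of_injective _ (Subgroup.inclusion_injective hVR)
  have hVn : V ≤ Subgroup.normalizer (U : Set G) := fun v hv =>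
    mem_normalizer_of_conj_mem (hn v (hVR hv))
  have hW : IsPGroup p ↥(U ⊔ V : Subgroup G) := hR.to_le (sup_le hUR hVR)
  have hVW : V ≤ U ⊔ V := le_sup_right
  have hne : V < U ⊔ V := lt_of_le_of_ne hVW fun he => h (by rw [he]; exact le_sup_left)
  -- normaliser growth inside the `p`-group `U ⊔ V`
  have hfin : Finite ↥(U ⊔ V : Subgroup G) :=
    Finite.of_injective _ (Subgroup.inclusion_injective (sup_le hUR hVR))
  have hnil : Group.IsNilpotent ↥(U ⊔ V : Subgroup G) := hW.isNilpotent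
  have hlt : V.subgroupOf (U ⊔ V) < Subgroup.normalizer ((V.subgroupOf (U ⊔ V) : Subgroup _) : Set _) := by
    refine Group.normalizerCondition_of_isNilpotent (G := ↥(U ⊔ V : Subgroup G)) _ ?_
    rw [lt_top_iff_ne_top]
    intro he
    have := Subgroup.subgroupOf_eq_top.1 he
    exact hne.not_ge this
  obtain ⟨x, hx, hx'⟩ := SetLike.exists_of_lt hlt
  obtain ⟨u, hu, v, hv, huv⟩ := (mem_sup_of_normalizes hVn).1 x.2
  have hxV : (x : G) ∉ V := fun hm => hx' hm
  have hxn : (x : G) ∈ Subgroup.normalizer (V : Set G) := by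
    refine mem_normalizer_of_conj_mem fun w hw => ?_
    have := (Subgroup.mem_normalizer_iff.1 hx ⟨w, hVW hw⟩).1 hw
    exact this
  refine ⟨u, hu, fun hm => hxV (huv ▸ mul_mem hm hv), ?_⟩
  have : u = (x : G) * v⁻¹ := by rw [← huv]; group
  rw [this]
  exact mul_mem hxn (inv_mem (Subgroup.le_normalizer hv))

end Cfsg.Agent.H757
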