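import Cfsg.Agent.H757.GrpLemmas
import Cfsg.Agent.H757.Coprime
import Cfsg.Agent.H750.Aligned
import Cfsg.Agent.H792.CentExt
/-!
# Extensions of automorphisms between subgroups, automorphisms trivial modulo a subgroup (helper757)
-/
set_option autoImplicit false

namespace Cfsg.Agent.H757

open Cfsg Cfsg.FusionSystem H750

variable {Ω : Type*} [Group Ω] {S T P N : Subgroup Ω} {p : ℕ}

theorem mem_centralizerIn {x : Ω} : x ∈ centralizerIn S P ↔ x ∈ S ∧ ∀ y ∈ P, y * x = x * y :=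
  Iff.trans Subgroup.mem_inf (and_congr_right fun _ => Subgroup.mem_centralizer_iff)

theorem mem_normalizerIn {x : Ω} :
    x ∈ normalizerIn S P ↔ x ∈ S ∧ x ∈ Subgroup.normalizer (P : Set Ω) := Subgroup.mem_inf

/-- `β ∈ Aut(N)` extends `α ∈ Aut(P)`. -/
def Ex {P N : Subgroup Ω} (α : MulAut P) (β : MulAut N) : Prop :=
  ∀ (x : Ω) (hP : x ∈ P) (hN : x ∈ N), ((β ⟨x, hN⟩ : N) : Ω) = (α ⟨x, hP⟩ : P)

/-- `β` acts trivially on `N` modulo `T`. -/
def Tr (T : Subgroup Ω) {N : Subgroup Ω} (β : MulAut N) : Prop :=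
  ∀ x : N, (x : Ω)⁻¹ * (β x : N) ∈ T

/-- `α` is conjugation by `g`. -/
def Cj {P : Subgroup Ω} (g : Ω) (α : MulAut P) : Prop := ∀ x : P, ((α x : P) : Ω) = g * x * g⁻¹

theorem inv_apply_eq {P : Subgroup Ω} {α : MulAut P} {x y : P} (h : α x = y) : α⁻¹ y = x := by
  rw [← h, MulAut.inv_apply_self]

section Ex

variable {α α' : MulAut P} {β β' : MulAut N}

theorem Ex.one : Ex (1 : MulAut P) (1 : MulAut N) := fun _ _ _ => rfl

theorem Ex.mul (hPN : P ≤ N) (h : Ex α β) (h' : Ex α' β') : Ex (α * α') (β * β') := by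
  intro x hP hN
  rw [MulAut.mul_apply, MulAut.mul_apply]
  have h1 : β' ⟨x, hN⟩ = ⟨(α' ⟨x, hP⟩ : P), hPN (α' ⟨x, hP⟩).2⟩ := Subtype.ext (h' x hP hN)
  rw [h1]
  exact h _ (α' ⟨x, hP⟩).2 _

theorem Ex.inv (hPN : P ≤ N) (h : Ex α β) : Ex α⁻¹ β⁻¹ := by
  intro x hP hN
  have h1 : β ⟨(α⁻¹ ⟨x, hP⟩ : P), hPN (α⁻¹ ⟨x, hP⟩).2⟩ = ⟨x, hN⟩ := by
    apply Subtype.ext
    rw [h _ (α⁻¹ ⟨x, hP⟩).2]
    simp
  rw [inv_apply_eq h1]

theorem Ex.pow (hPN : P ≤ N) (h : Ex α β) (n : ℕ) : Ex (α ^ n) (β ^ n) := by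
  induction n with
  | zero => simpa using Ex.one
  | succ n ih => rw [pow_succ, pow_succ]; exact ih.mul hPN h

theorem Ex.unique (hPN : P ≤ N) (h : Ex α β) (h' : Ex α' β) : α = α' := by
  ext x
  rw [← h x x.2 (hPN x.2), ← h' x x.2 (hPN x.2)]

theorem Ex.trans {M : Subgroup Ω} {γ : MulAut M} (hPN : P ≤ N) (h : Ex α β) (h' : Ex β γ) :
    Ex α γ := by
  intro x hP hM
  rw [h' x (hPN hP) hM, h x hP (hPN hP)]

end Ex

section Tr

variable {β β' : MulAut N}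

theorem Tr.one : Tr T (1 : MulAut N) := fun x => by simp

theorem Tr.mul (h : Tr T β) (h' : Tr T β') : Tr T (β * β') := by
  intro x
  have : (x : Ω)⁻¹ * ((β * β') x : N) =
      ((x : Ω)⁻¹ * (β' x : N)) * (((β' x : N) : Ω)⁻¹ * (β (β' x) : N)) := by
    rw [MulAut.mul_apply]; group
  rw [this]
  exact mul_mem (h' x) (h _)

theorem Tr.inv (h : Tr T β) : Tr T β⁻¹ := by
  intro x
  have h1 := h (β⁻¹ x)
  rw [MulAut.apply_inv_self] at h1
  have := inv_mem h1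
  simpa using this

theorem Tr.pow (h : Tr T β) (n : ℕ) : Tr T (β ^ n) := by
  induction n with
  | zero => simpa using Tr.one
  | succ n ih => rw [pow_succ]; exact ih.mul h

end Tr

section Cj

variable {α β : MulAut P} {g h : Ω}

theorem Cj.one : Cj 1 (1 : MulAut P) := fun x => by simp

theorem Cj.mul (hα : Cj g α) (hβ : Cj h β) : Cj (g * h) (α * β) := by
  intro x
  rw [MulAut.mul_apply, hα, hβ]
  group

theorem Cj.inv (hα : Cj g α) : Cj g⁻¹ α⁻¹ := by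
  intro x
  have h1 := hα (α⁻¹ x)
  rw [MulAut.apply_inv_self] at h1
  rw [h1]
  group

theorem Cj.mem_normalizer (hα : Cj g α) : g ∈ Subgroup.normalizer (P : Set Ω) :=
  H802.mem_normalizer_of_aut hα

theorem exists_cj (hg : g ∈ Subgroup.normalizer (P : Set Ω)) : ∃ α : MulAut P, Cj g α :=
  H802.exists_conjAut hg

theorem Cj.eq (hα : Cj g α) (hβ : Cj g β) : α = β := by
  ext x
  rw [hα, hβ]

theorem Cj.ex {β' : MulAut N} (hα : Cj g α) (hβ : Cj g β') : Ex α β' := by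
  intro x hP hN
  rw [hα, hβ]

theorem Cj.mem {K : Subgroup Ω} (hα : Cj g α) (hg : g ∈ K) : α ∈ autInducedBy K P :=
  (H802.mem_autInducedBy_iff K P α).2 ⟨g, hg, hα⟩

theorem exists_cj_of_mem {K : Subgroup Ω} (h : α ∈ autInducedBy K P) : ∃ g ∈ K, Cj g α :=
  (H802.mem_autInducedBy_iff K P α).1 h

theorem Cj.mem_autGroup {F : FusionSystem S} (hPS : P ≤ S) (hα : Cj g α) (hg : g ∈ S) :
    α ∈ F.autGroup P :=
  H802.autInducedBy_le_autGroup F hPS (hα.mem hg)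

/-- Conjugating a conjugation by an extendable automorphism. -/
theorem Cj.conj_of_ex (hPN : P ≤ N) {γ : MulAut N} (hγ : Ex α γ) {n : N} (hβ : Cj (n : Ω) β) :
    Cj ((γ n : N) : Ω) (α * β * α⁻¹) := by
  intro x
  rw [MulAut.mul_apply, MulAut.mul_apply]
  set y := α⁻¹ x with hy
  have hxy : α y = x := by rw [hy, MulAut.apply_inv_self]
  rw [← hγ (β y) (β y).2 (hPN (β y).2)]
  have h1 : (⟨((β y : P) : Ω), hPN (β y).2⟩ : N) = n * ⟨(y : Ω), hPN y.2⟩ * n⁻¹ :=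
    Subtype.ext (hβ y)
  rw [h1, map_mul, map_mul, map_inv]
  have h2 : ((γ ⟨(y : Ω), hPN y.2⟩ : N) : Ω) = x := by
    rw [hγ y y.2, hxy]
  simp [h2]

/-- An element inducing on `P` the same automorphism as an element of `N` lies in `N` if `C_S(P) ≤ N`. -/
theorem mem_of_cj_mem (hCN : centralizerIn S P ≤ N) (hNS : N ≤ S) (hg : g ∈ S)
    (hα : Cj g α) (h : α ∈ autInducedBy N P) : g ∈ N := by
  obtain ⟨n, hn, hc⟩ := exists_cj_of_mem h
  have h1 : n⁻¹ * g ∈ centralizerIn S P := by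
    refine mem_centralizerIn.2 ⟨S.mul_mem (S.inv_mem (hNS hn)) hg, ?_⟩
    intro x hx
    have h2 : (g : Ω) * x * g⁻¹ = n * x * n⁻¹ := (hα ⟨x, hx⟩).symm.trans (hc ⟨x, hx⟩)
    have h3 : x = n⁻¹ * (g * x * g⁻¹) * n := by rw [h2]; group
    calc x * (n⁻¹ * g) = (n⁻¹ * (g * x * g⁻¹) * n) * (n⁻¹ * g) := by rw [← h3]
      _ = n⁻¹ * g * x := by group
  have : g = n * (n⁻¹ * g) := by group
  rw [this]
  exact mul_mem hn (hCN h1)

end Cj

/-- Restriction of an automorphism to an invariant subgroup. -/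
theorem exists_restrict {F : FusionSystem S} [Finite P] (hPN : P ≤ N) (hNS : N ≤ S) {β : MulAut N}
    (hβ : β ∈ F.autGroup N) (h : ∀ (x : Ω) (_ : x ∈ P) (hN : x ∈ N), ((β ⟨x, hN⟩ : N) : Ω) ∈ P) :
    ∃ α ∈ F.autGroup P, Ex α β := by
  obtain ⟨f, hf, hfe⟩ := exists_iso_of_aut hNS hβ
  obtain ⟨P', hP', -⟩ := hf.restrict hPN
  have hle : P' ≤ P := by
    intro y hy
    obtain ⟨x, hx, rfl⟩ := hP'.surj hy
    rw [hfe ⟨x, hPN hx⟩]
    exact h x hx (hPN hx)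
  have hPP : P' = P := Subgroup.eq_of_le_of_card_ge hle hP'.card_eq.le
  rw [hPP] at hP'
  obtain ⟨α, hα, hαe⟩ := hP'.exists_aut
  refine ⟨α, hα, fun x hx hN => ?_⟩
  rw [hαe ⟨x, hx⟩, ← hfe ⟨x, hN⟩]

/-- Extension of an automorphism normalising `Aut_N(P)` to the full inverse image `N`. -/
theorem exists_ext_aut [Finite S] {F : FusionSystem S} (hrec : F.IsReceptive P) (hPN : P ≤ N)
    (hCN : centralizerIn S P ≤ N) (hNn : N ≤ normalizerIn S P) {α : MulAut P}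
    (hα : α ∈ F.autGroup P)
    (h : ∀ v ∈ autInducedBy N P, α * v * α⁻¹ ∈ autInducedBy N P) :
    ∃ β ∈ F.autGroup N, Ex α β := by
  have hPS : P ≤ S := hrec.1
  have hNS : N ≤ S := hNn.trans inf_le_left
  obtain ⟨f, hf, hfe⟩ := exists_iso_of_aut hPS hα
  have key : ∀ g ∈ N, ∃ h' ∈ N, ∀ x ∈ P, f (g * x * g⁻¹) = h' * f x * h'⁻¹ := by
    intro g hg
    obtain ⟨v, hv⟩ := exists_cj ((hNn hg).2)
    obtain ⟨h', hh', hc⟩ := exists_cj_of_mem (h v (hv.mem hg))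
    refine ⟨h', hh', fun x hx => ?_⟩
    have h1 := hc (α ⟨x, hx⟩)
    rw [MulAut.mul_apply, MulAut.mul_apply, MulAut.inv_apply_self] at h1
    have h2 : f (g * x * g⁻¹) = f (v ⟨x, hx⟩ : P) := by rw [hv]
    rw [h2, hfe, h1, hfe ⟨x, hx⟩]
  obtain ⟨N', f', hf', hfe'⟩ := extend_of_receptive hrec hf N (fun g hg => by
    obtain ⟨h', hh', h1⟩ := key g hg
    exact ⟨hNS hg, (hNn hg).2, h', hNS hh', h1⟩) hPN
  have hle : N' ≤ N := by
    intro y hy
    obtain ⟨g, hg, rfl⟩ := hf'.surj hy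
    obtain ⟨h', hh', h1⟩ := key g hg
    have h2 : h'⁻¹ * f' g ∈ centralizerIn S P := by
      refine mem_centralizerIn.2
        ⟨S.mul_mem (S.inv_mem (hNS hh')) (hf'.le_right (hf'.mem hg)), ?_⟩
      intro y hy
      obtain ⟨x, hx, rfl⟩ := hf.surj hy
      have h3 := h1 x hx
      have h4 : g * x * g⁻¹ ∈ P := (Subgroup.mem_normalizer_iff.1 (hNn hg).2 x).1 hx
      rw [← hfe' _ h4, hf'.map_conj hg (hPN hx), hfe' x hx] at h3
      have h5 : f x = h'⁻¹ * (f' g * f x * (f' g)⁻¹) * h' := by rw [h3]; group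
      calc f x * (h'⁻¹ * f' g) = (h'⁻¹ * (f' g * f x * (f' g)⁻¹) * h') * (h'⁻¹ * f' g) := by
            rw [← h5]
        _ = h'⁻¹ * f' g * f x := by group
    have : f' g = h' * (h'⁻¹ * f' g) := by group
    rw [this]
    exact mul_mem hh' (hCN h2)
  have : Finite N := H802.finite_of_le hNS
  have hNN : N' = N := Subgroup.eq_of_le_of_card_ge hle hf'.card_eq.le
  rw [hNN] at hf'
  obtain ⟨β, hβ, hβe⟩ := hf'.exists_aut
  refine ⟨β, hβ, fun x hx hN => ?_⟩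
  rw [hβe ⟨x, hN⟩, hfe' x hx, hfe ⟨x, hx⟩]

/-- `Tr T` is preserved under conjugation by `F`-automorphisms if `T` is strongly closed. -/
theorem Tr.conj {F : FusionSystem S} (hT : F.StronglyClosed T) (hNS : N ≤ S) {β γ : MulAut N}
    (hβ : β ∈ F.autGroup N) (h : Tr T γ) : Tr T (β * γ * β⁻¹) := by
  intro x
  obtain ⟨f, hf, hfe⟩ := exists_iso_of_aut hNS hβ
  set y := β⁻¹ x with hy
  have hxy : β y = x := by rw [hy, MulAut.apply_inv_self]
  have h1 : (x : Ω)⁻¹ * ((β * γ * β⁻¹) x : N) = f (((y⁻¹ * γ y : N)) : Ω) := by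
    rw [hfe, MulAut.mul_apply, MulAut.mul_apply, ← hy, map_mul, map_inv, hxy]
    rfl
  rw [h1]
  have h2 : (((y⁻¹ * γ y : N)) : Ω) ∈ T := h y
  obtain ⟨R', hR', -⟩ := hf.restrict (R := N ⊓ T) inf_le_left
  obtain ⟨φ, hφ, -, hφe⟩ := hR'
  have h3 : (((y⁻¹ * γ y : N)) : Ω) ∈ N ⊓ T := ⟨(y⁻¹ * γ y).2, h2⟩
  rw [← hφe _ h3]
  exact hT.2 _ inf_le_right φ hφ _

/-- Finite order reduction: an extension of a `p'`-automorphism may be taken of `p'`-order. -/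
theorem exists_coprime_ext [Finite N] [Fact p.Prime] (hPN : P ≤ N) {α : MulAut P} {β : MulAut N}
    (hα : Nat.Coprime (orderOf α) p) (h : Ex α β) :
    ∃ m : ℕ, Nat.Coprime (orderOf (β ^ m)) p ∧ Ex α (β ^ m) := by
  obtain ⟨m, hm, hm'⟩ := H792.exists_pow_coprime (p := p) β hα
  refine ⟨m, hm, ?_⟩
  have h1 : α ^ m = α := by
    conv_rhs => rw [← pow_one α]
    exact pow_eq_pow_iff_modEq.2 hm'
  have := h.pow hPN m
  rwa [h1] at this

end Cfsg.Agent.H757
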