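import Cfsg.Agent.H757.ExtStep
/-!
# The extension theorem: centric case (helper757)
-/
set_option autoImplicit false

namespace Cfsg.Agent.H757

open Cfsg Cfsg.FusionSystem H750 H802

variable {Ω : Type*} [Group Ω] {S T P N : Subgroup Ω} {p : ℕ}

theorem Tr.of_cj {F : FusionSystem S} (hT : F.StronglyClosed T) (hNS : N ≤ S) {t : Ω} (ht : t ∈ T)
    {u : MulAut N} (hu : Cj t u) : Tr T u := by
  intro x
  rw [hu]
  have h2 : (x : Ω)⁻¹ * (t * x * t⁻¹) = ((x : Ω)⁻¹ * t * (x : Ω)⁻¹⁻¹) * t⁻¹ := by group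
  rw [h2]
  exact T.mul_mem (conj_mem_of_stronglyClosed hT (S.inv_mem (hNS x.2)) ht) (T.inv_mem ht)

/-- Elements of `E`-type automorphisms normalising `Aut_N(P)` which extend to `N` trivially modulo `T`. -/
def KK (E : FusionSystem T) (F : FusionSystem S) {P N : Subgroup Ω} (hPN : P ≤ N) :
    Subgroup (MulAut P) where
  carrier := {k | k ∈ E.autGroup P ∧
    k ∈ Subgroup.normalizer ((autInducedBy N P : Subgroup (MulAut P)) : Set (MulAut P)) ∧
    ∃ k' ∈ F.autGroup N, Ex k k' ∧ Tr T k'}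
  one_mem' := ⟨one_mem _, one_mem _, 1, one_mem _, Ex.one, Tr.one⟩
  mul_mem' := by
    rintro a b ⟨h1, h2, a', h3, h4, h5⟩ ⟨k1, k2, b', k3, k4, k5⟩
    exact ⟨mul_mem h1 k1, mul_mem h2 k2, a' * b', mul_mem h3 k3, h4.mul hPN k4, h5.mul k5⟩
  inv_mem' := by
    rintro a ⟨h1, h2, a', h3, h4, h5⟩
    exact ⟨inv_mem h1, inv_mem h2, a'⁻¹, inv_mem h3, h4.inv hPN, h5.inv⟩

/-- An element of `S` inducing on `P` an automorphism normalising `Aut_N(P)` normalises `N`. -/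
theorem mem_normalizer_of_cj [Finite N] {g : Ω} {u : MulAut P} (hu : Cj g u) (hg : g ∈ S)
    (hCN : centralizerIn S P ≤ N) (hNn : N ≤ normalizerIn S P)
    (hn : ∀ v ∈ autInducedBy N P, u * v * u⁻¹ ∈ autInducedBy N P) :
    g ∈ Subgroup.normalizer (N : Set Ω) := by
  refine mem_normalizer_of_conj_mem fun n hn' => ?_
  obtain ⟨v, hv⟩ := exists_cj (P := P) (hNn hn').2
  have hNS : N ≤ S := hNn.trans inf_le_left
  exact mem_of_cj_mem hCN hNS (S.mul_mem (S.mul_mem hg (hNS hn')) (S.inv_mem hg))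
    ((hu.mul hv).mul hu.inv) (hn v (hv.mem hn'))

/-- Passage to a larger subgroup `P₂` of `T`. -/
theorem psi_of_pr [Finite S] [Fact p.Prime] (hS : IsPGroup p S) {E : FusionSystem T}
    {F : FusionSystem S} (hE : E.IsWeaklyNormalIn F p) (hfn : F.IsFullyNormalized P)
    {P₂ : Subgroup Ω} (hPP : P ≤ P₂) (hPT : P₂ ≤ T) (hC : centralizerIn T P ≤ P₂)
    (hn : normalizerIn S P ≤ Subgroup.normalizer (P₂ : Set Ω)) (hPN : P₂ ≤ N)
    (hCN : centralizerIn S P ≤ N) (hNn : N ≤ normalizerIn S P)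
    (H : ∀ Q₂ N', Pr F T Q₂ N' → Nat.card Q₂ = Nat.card P₂ → Nat.card N' = Nat.card N →
      Psi E F Q₂ N') : Psi E F P₂ N := by
  have hF := hE.2.1
  have hT : F.StronglyClosed T := hE.2.2.2.1
  have hP₂S : P₂ ≤ S := hPT.trans hT.1
  have hNS : N ≤ S := hNn.trans inf_le_left
  obtain ⟨Q₂, ⟨φ, hφ, hr⟩, hQ₂⟩ := H802.exists_isFullyNormalized hS hF hP₂S
  obtain ⟨b, hb, ψ, hψ, hψe, hψn⟩ := H802.exists_extension_normalizer hS hF hφ hr hQ₂
  obtain ⟨f, hf, hfe⟩ := exists_iso_of_hom hψ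
  have hM : normalizerIn S P ≤ normalizerIn S P₂ := fun x hx =>
    mem_normalizerIn.2 ⟨(mem_normalizerIn.1 hx).1, hn hx⟩
  have hP₂M : P₂ ≤ normalizerIn S P₂ := H802.le_normalizerIn hP₂S
  have hfP₂ : Iso F P₂ Q₂ f := by
    obtain ⟨Q', hQ', -⟩ := hf.restrict hP₂M
    have hle : Q' ≤ Q₂ := by
      intro y hy
      obtain ⟨x, hx, rfl⟩ := hQ'.surj hy
      have hx' : φ ⟨x, hx⟩ ∈ Q₂ := by rw [← hr]; exact ⟨_, rfl⟩
      rw [hfe x (hP₂M hx), hψe ⟨x, hx⟩ hx' (hP₂M hx)]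
      exact (b _).2
    have hQ₂f : Finite Q₂ := H802.finite_of_le hQ₂.1
    have : Q' = Q₂ := Subgroup.eq_of_le_of_card_ge hle (by
      rw [← hQ'.card_eq, H802.isConj_card_eq (F := F) ⟨φ, hφ, hr⟩])
    rwa [this] at hQ'
  obtain ⟨N', hN', -⟩ := hf.restrict (hNn.trans hM)
  obtain ⟨P', hP', hP'Q₂⟩ := hfP₂.restrict hPP
  have hfc := H802.isFullyCentralized_of_isFullyNormalized hS hF hfn
  have hCsurj : ∀ y ∈ centralizerIn S P', ∃ x ∈ centralizerIn S P, f x = y := fun y hy =>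
    iso_centralizerIn_surj hN' hP' (hPP.trans hPN) hCN hfc hy
  refine Psi.transport hE.2.2 hPT hPN hN' hfP₂ (H Q₂ N' ⟨?_, ?_, hQ₂, ?_, ?_, ?_⟩
    hfP₂.card_eq.symm hN'.card_eq.symm)
  · exact iso_le_of_stronglyClosed hT hfP₂ hPT
  · intro y hy
    have hy' := mem_centralizerIn.1 hy
    obtain ⟨x, hx, rfl⟩ := hCsurj y (mem_centralizerIn.2
      ⟨hT.1 hy'.1, fun z hz => hy'.2 z (hP'Q₂ hz)⟩)
    have hxT : x ∈ T := by
      obtain ⟨g, hg, hgf, -⟩ := hN'.exists_inv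
      have h1 := iso_mem_of_stronglyClosed hT hg (hN'.mem (hCN hx)) hy'.1
      rwa [hgf x (hCN hx)] at h1
    exact hfP₂.mem (hC (mem_centralizerIn.2 ⟨hxT, (mem_centralizerIn.1 hx).2⟩))
  · intro y hy
    obtain ⟨x, hx, rfl⟩ := hfP₂.surj hy
    exact hN'.mem (hPN hx)
  · intro y hy
    obtain ⟨x, hx, rfl⟩ := hCsurj y (mem_centralizerIn.2
      ⟨(mem_centralizerIn.1 hy).1, fun z hz => (mem_centralizerIn.1 hy).2 z (hP'Q₂ hz)⟩)
    exact hN'.mem (hCN hx)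
  · intro y hy
    obtain ⟨x, hx, rfl⟩ := hN'.surj hy
    exact iso_mem_normalizerIn hN' hfP₂ hPN hx (hn (hNn hx))

/-- The inductive step, `Aut_N(P)` fully normalised. -/
theorem psi_step [Finite S] [Fact p.Prime] (hS : IsPGroup p S) {E : FusionSystem T}
    {F : FusionSystem S} (hE : E.IsNormalIn F p) (h : Pr F T P N)
    (hfull : SylIn p (autInducedBy S P ⊓
        Subgroup.normalizer ((autInducedBy N P : Subgroup (MulAut P)) : Set (MulAut P)))
      (F.autGroup P ⊓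
        Subgroup.normalizer ((autInducedBy N P : Subgroup (MulAut P)) : Set (MulAut P))))
    (ih : ∀ P' N', Pr F T P' N' → Nat.card P + Nat.card N < Nat.card P' + Nat.card N' →
      Psi E F P' N') : Psi E F P N := by
  intro β hβ hn
  have hF := hE.1.2.1
  have hT : F.StronglyClosed T := hE.1.2.2.2.1
  have hTS : T ≤ S := hT.1
  have hPT := h.hPT
  have hPS := hPT.trans hTS
  have hPN := h.hPN
  have hCN := h.hCN
  have hNn := h.hNn
  have hNS : N ≤ S := hNn.trans inf_le_left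
  have hSn := normalizer_of_stronglyClosed hT
  have hNf : Finite N := H802.finite_of_le hNS
  have hPf : Finite P := H802.finite_of_le hPS
  have hTf : Finite T := H802.finite_of_le hTS
  have hMf : Finite (MulAut P) := finite_mulAut
  have hTp : IsPGroup p T := hS.to_le hTS
  obtain ⟨hRA, hUB, hRB, hErec⟩ := sylow_facts hS hE.1 hPT h.hfn
  have hrec := H802.isReceptive_of_isFullyNormalized hS hF h.hfn
  set A := F.autGroup P with hA
  set B := E.autGroup P with hB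
  set R := autInducedBy S P with hR
  set U := autInducedBy T P with hU
  set V := autInducedBy N P with hV
  set NV := Subgroup.normalizer ((V : Subgroup (MulAut P)) : Set (MulAut P)) with hNV
  have hVR : V ≤ R := by
    intro α hα
    obtain ⟨g, hg, hc⟩ := exists_cj_of_mem hα
    exact hc.mem (hNS hg)
  have hUR : U ≤ R := by rw [← hRB]; exact inf_le_left
  have hBA : B ≤ A := autGroup_le_of_isSubsystemOf hE.1.2.2.1 hPT hPS
  have hBn : ∀ a ∈ A, ∀ b ∈ B, a * b * a⁻¹ ∈ B := fun a ha b hb =>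
    autGroup_conj_mem hE.1.2.2 hPT ha hb
  have hβN : β ∈ NV := mem_normalizer_of_conj_mem hn
  -- Sylow subgroup of `N_B(V)`
  have hSylB : SylIn p (U ⊓ NV) (B ⊓ NV) := by
    have h1 := hfull.inf_normal (M := B ⊓ NV) (inf_le_inf_right _ hBA) (fun k hk m hm =>
      Subgroup.mem_inf.2 ⟨hBn k (Subgroup.mem_inf.1 hk).1 m (Subgroup.mem_inf.1 hm).1,
        mul_mem (mul_mem (Subgroup.mem_inf.1 hk).2 (Subgroup.mem_inf.1 hm).2)
          (inv_mem (Subgroup.mem_inf.1 hk).2)⟩)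
    have h2 : R ⊓ NV ⊓ (B ⊓ NV) = U ⊓ NV := by
      rw [inf_inf_inf_comm, inf_idem, hRB]
    rwa [h2] at h1
  -- `𝒦`
  set K := KK E F hPN with hK
  have hKB : K ≤ B ⊓ NV := fun k hk => Subgroup.mem_inf.2 ⟨hk.1, hk.2.1⟩
  have hUK : U ⊓ NV ≤ K := by
    intro u hu
    obtain ⟨hu1, hu2⟩ := Subgroup.mem_inf.1 hu
    obtain ⟨t, ht, hc⟩ := exists_cj_of_mem hu1
    have htN : t ∈ Subgroup.normalizer (N : Set Ω) :=
      mem_normalizer_of_cj hc (hTS ht) hCN hNn (fun v hv => (Subgroup.mem_normalizer_iff.1 hu2 v).1 hv)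
    obtain ⟨τ, hτ⟩ := exists_cj (P := N) htN
    exact ⟨hUB.le hu1, hu2, τ, hτ.mem_autGroup hNS (hTS ht), hc.ex hτ, Tr.of_cj hT hNS ht hτ⟩
  have hKn : ∀ a ∈ A ⊓ NV, ∀ k ∈ K, a * k * a⁻¹ ∈ K := by
    intro a ha k hk
    obtain ⟨ha1, ha2⟩ := Subgroup.mem_inf.1 ha
    obtain ⟨hk1, hk2, k', hk3, hk4, hk5⟩ := hk
    obtain ⟨a', ha', hae⟩ := exists_ext_aut hrec hPN hCN hNn ha1
      (fun v hv => (Subgroup.mem_normalizer_iff.1 ha2 v).1 hv)
    exact ⟨hBn a ha1 k hk1, mul_mem (mul_mem ha2 hk2) (inv_mem ha2), a' * k' * a'⁻¹,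
      mul_mem (mul_mem ha' hk3) (inv_mem ha'), (hae.mul hPN hk4).mul hPN (hae.inv hPN),
      hk5.conj hT hNS ha'⟩
  have hSylK : SylIn p (U ⊓ NV) K := hSylB.mono hUK hKB
  obtain ⟨k, hk, hkβ⟩ := frattini_in hSylK (m := β)
    (hKn β (Subgroup.mem_inf.2 ⟨hBA hβ, hβN⟩))
  -- reduction to `k β`
  suffices hcon : Con F T P N (k * β) by
    obtain ⟨v, hv, β', hβ', hex, htr⟩ := hcon
    obtain ⟨hk1, hk2, k', hk3, hk4, hk5⟩ := hk
    refine ⟨v, hv, k'⁻¹ * β', mul_mem (inv_mem hk3) hβ', ?_, hk5.inv.mul htr⟩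
    have := (hk4.inv hPN).mul hPN hex
    have h2 : k⁻¹ * (k * β * v) = β * v := by group
    rwa [h2] at this
  set β₁ := k * β with hβ₁
  have hβ₁B : β₁ ∈ B := mul_mem hk.1 hβ
  have hβ₁N : β₁ ∈ NV := mul_mem hk.2.1 hβN
  have hβ₁V : ∀ v ∈ V, β₁ * v * β₁⁻¹ ∈ V := fun v hv => (Subgroup.mem_normalizer_iff.1 hβ₁N v).1 hv
  by_cases hUV : U ≤ V
  · have hUN : U ≤ NV := hUV.trans Subgroup.le_normalizer
    rw [inf_eq_left.2 hUN] at hkβ hSylK hSylB hUK
    by_cases hPeq : P = T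
    · -- `P = T`
      subst hPeq
      have hmem : β₁ ∈ K := by
        obtain ⟨R₀, hR₀⟩ := hSylB.exists_sylow
        have h1 := H792.gen_top_of_sylow R₀ (K.subgroupOf (B ⊓ NV)) (fun a ha => by
          have h2 := Subgroup.mem_inf.1 a.2
          rw [← Subgroup.orderOf_coe] at ha
          obtain ⟨β', hβ', hex, htr⟩ := exists_ext_top hS hE hPN hCN hNS h2.1 ha
            (fun v hv => (Subgroup.mem_normalizer_iff.1 h2.2 v).1 hv)
          exact ⟨h2.1, h2.2, β', hβ', hex, htr⟩) (by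
          rw [hR₀]
          exact fun x hx => hUK hx)
        have h3 : (⟨β₁, Subgroup.mem_inf.2 ⟨hβ₁B, hβ₁N⟩⟩ : ↥(B ⊓ NV)) ∈ K.subgroupOf (B ⊓ NV) := by
          rw [h1]
          exact Subgroup.mem_top _
        exact h3
      obtain ⟨-, -, β', hβ', hex, htr⟩ := hmem
      exact ⟨1, one_mem _, β', hβ', by rwa [mul_one], htr⟩
    · -- `P < T`
      have hlt := H802.lt_inf_normalizer hTp hPT le_rfl hPeq
      set P₁ : Subgroup Ω := normalizerIn T P with hP₁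
      have hPP₁ : P ≤ P₁ := H802.le_normalizerIn hPT
      have hP₁T : P₁ ≤ T := inf_le_left
      have hP₁S : P₁ ≤ S := hP₁T.trans hTS
      have hP₁f : Finite P₁ := H802.finite_of_le hP₁S
      have hP₁N : P₁ ≤ N := by
        intro t ht
        obtain ⟨u, hu⟩ := exists_cj (P := P) (mem_normalizerIn.1 ht).2
        exact mem_of_cj_mem hCN hNS (hP₁S ht) hu (hUV (hu.mem (hP₁T ht)))
      have hcard : Nat.card P < Nat.card P₁ := by
        exact Set.Finite.card_lt_card (Set.toFinite _) hlt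
      have hCP₁ : centralizerIn T P ≤ P₁ := H802.centralizerIn_le_normalizerIn T P
      have hPcen : E.IsCentric P := ⟨hPT, fun Q hQ => by
        obtain ⟨φ, hφ, hr⟩ := hQ
        exact centralizer_le_of_isConj hS hF hT h.hfn h.hC ⟨φ, hE.1.2.2.1 P hφ, hr⟩⟩
      -- extend `β₁` to `P₁` in `E`
      obtain ⟨β₂, hβ₂, hex₂⟩ := exists_ext_aut hErec hPP₁ hCP₁ le_rfl hβ₁B (by
        intro v hv
        obtain ⟨g, hg, hc⟩ := exists_cj_of_mem hv
        have h1 := hkβ v (hc.mem (hP₁T hg))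
        obtain ⟨t, ht, hct⟩ := exists_cj_of_mem h1
        exact hct.mem (mem_normalizerIn.2 ⟨ht, hct.mem_normalizer⟩))
      have hNP₁ : normalizerIn S P ≤ Subgroup.normalizer (P₁ : Set Ω) := by
        intro g hg
        obtain ⟨hg1, hg2⟩ := mem_normalizerIn.1 hg
        refine mem_normalizer_of_conj_mem fun x hx => ?_
        obtain ⟨hx1, hx2⟩ := mem_normalizerIn.1 hx
        exact mem_normalizerIn.2 ⟨conj_mem_of_stronglyClosed hT hg1 hx1,
          mul_mem (mul_mem hg2 hx2) (inv_mem hg2)⟩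
      have hβ₂V : ∀ v ∈ autInducedBy N P₁, β₂ * v * β₂⁻¹ ∈ autInducedBy N P₁ := by
        intro v hv
        obtain ⟨n, hn', hc⟩ := exists_cj_of_mem hv
        obtain ⟨v₀, hv₀⟩ := exists_cj (P := P) (hNn hn').2
        obtain ⟨t, ht, u₀, hu₀, hcomm⟩ :=
          exists_comm hS hE.1 hPT h.hfn hNn hβ₁B hβ₁V (hv₀.mem hn')
        have htP₁ : t ∈ P₁ := mem_normalizerIn.2 ⟨ht, hu₀.mem_normalizer⟩
        obtain ⟨u, hu⟩ := exists_cj (P := P₁) (Subgroup.le_normalizer htP₁)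
        have hvF : v ∈ F.autGroup P₁ := hc.mem_autGroup hP₁S (hNS hn')
        have huE : u ∈ E.autGroup P₁ := hu.mem_autGroup hP₁T ht
        have hξE : β₂ * v * β₂⁻¹ * v⁻¹ * u⁻¹ ∈ E.autGroup P₁ := by
          have h1 : β₂ * v * β₂⁻¹ * v⁻¹ * u⁻¹ = β₂ * (v * β₂⁻¹ * v⁻¹) * u⁻¹ := by group
          rw [h1]
          exact mul_mem (mul_mem hβ₂ (autGroup_conj_mem hE.1.2.2 hP₁T hvF (inv_mem hβ₂)))
            (inv_mem huE)
        have hξ1 : Ex (1 : MulAut P) (β₂ * v * β₂⁻¹ * v⁻¹ * u⁻¹) := by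
          have h1 : Ex (β₁ * v₀ * β₁⁻¹ * v₀⁻¹ * u₀⁻¹) (β₂ * v * β₂⁻¹ * v⁻¹ * u⁻¹) :=
            ((((hex₂.mul hPP₁ (hv₀.ex hc)).mul hPP₁ (hex₂.inv hPP₁)).mul hPP₁
              ((hv₀.ex hc).inv hPP₁)).mul hPP₁ ((hu₀.ex hu).inv hPP₁))
          have h2 : β₁ * v₀ * β₁⁻¹ * v₀⁻¹ * u₀⁻¹ = 1 := by rw [hcomm]; group
          rwa [h2] at h1
        rw [H802.mem_autGroup_iff E hP₁T] at hξE
        obtain ⟨z, hz, -, hzc⟩ := H802.exists_conj_of_id_on_centric_normal hTp hE.1.1 hPcen hPP₁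
          (inf_le_right) hξE (fun x hx => hξ1 x hx (hPP₁ hx))
        have hzc' : Cj z (β₂ * v * β₂⁻¹ * v⁻¹ * u⁻¹) := fun x => hzc x
        have h1 : β₂ * v * β₂⁻¹ = (β₂ * v * β₂⁻¹ * v⁻¹ * u⁻¹) * u * v := by group
        rw [h1]
        exact ((hzc'.mul hu).mul hc).mem (mul_mem (mul_mem (hPN hz) (hP₁N htP₁)) hn')
      have hpsi : Psi E F P₁ N := by
        refine psi_of_pr hS hE.1 h.hfn hPP₁ hP₁T hCP₁ hNP₁ hP₁N hCN hNn fun Q₂ N' hpr hc1 hc2 => ?_
        exact ih Q₂ N' hpr (by rw [hc1, hc2]; omega)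
      obtain ⟨v₂, hv₂, β', hβ', hex, htr⟩ := hpsi β₂ hβ₂ hβ₂V
      obtain ⟨n, hn', hc⟩ := exists_cj_of_mem hv₂
      obtain ⟨v₀, hv₀⟩ := exists_cj (P := P) (hNn hn').2
      exact ⟨v₀, hv₀.mem hn', β', hβ', (hex₂.mul hPP₁ (hv₀.ex hc)).trans hPP₁ hex, htr⟩
  · -- `U` not contained in `V`
    have hUn : ∀ r ∈ R, ∀ u ∈ U, r * u * r⁻¹ ∈ U := by
      intro r hr u hu
      rw [← hRB] at hu ⊢
      exact Subgroup.mem_inf.2 ⟨mul_mem (mul_mem hr (Subgroup.mem_inf.1 hu).1) (inv_mem hr),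
        hBn r (hRA.le hr) u (Subgroup.mem_inf.1 hu).2⟩
    obtain ⟨u₁, hu₁U, hu₁V, hu₁N⟩ := exists_normalizes_of_not_le hRA.isPGroup hUR hVR hUn hUV
    set Q : Subgroup Ω := T ⊓ Subgroup.normalizer (P : Set Ω) ⊓ Subgroup.normalizer (N : Set Ω)
      with hQ
    have hQT : Q ≤ T := inf_le_left.trans inf_le_left
    have hQP : Q ≤ Subgroup.normalizer (P : Set Ω) := inf_le_left.trans inf_le_right
    have hQN : Q ≤ Subgroup.normalizer (N : Set Ω) := inf_le_right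
    have hQmem : ∀ {t : Ω} {u : MulAut P}, Cj t u → t ∈ T → u ∈ NV → t ∈ Q := by
      intro t u hc ht hu
      refine Subgroup.mem_inf.2 ⟨Subgroup.mem_inf.2 ⟨ht, hc.mem_normalizer⟩, ?_⟩
      exact mem_normalizer_of_cj hc (hTS ht) hCN hNn
        (fun v hv => (Subgroup.mem_normalizer_iff.1 hu v).1 hv)
    have hcQ : ∀ {q : Ω} {w : MulAut P}, Cj q w → q ∈ Q → w ∈ U ⊓ NV := by
      intro q w hc hq
      refine Subgroup.mem_inf.2 ⟨hc.mem (hQT hq), mem_normalizer_of_conj_mem fun v hv => ?_⟩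
      obtain ⟨n, hn', hcn⟩ := exists_cj_of_mem hv
      exact ((hc.mul hcn).mul hc.inv).mem ((Subgroup.mem_normalizer_iff.1 (hQN hq) n).1 hn')
    set N₁ : Subgroup Ω := N ⊔ Q with hN₁
    have hNN₁ : N ≤ N₁ := le_sup_left
    have hQN₁ : Q ≤ N₁ := le_sup_right
    have hN₁S : N₁ ≤ S := sup_le hNS (hQT.trans hTS)
    have hN₁n : N₁ ≤ normalizerIn S P :=
      sup_le hNn (le_inf (hQT.trans hTS) hQP)
    have hN₁f : Finite N₁ := H802.finite_of_le hN₁S
    have hN₁m : ∀ x ∈ N₁, ∃ n ∈ N, ∃ q ∈ Q, n * q = x := fun x hx =>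
      (mem_sup_of_normalizes hQN).1 hx
    have hpr : Pr F T P N₁ := ⟨hPT, h.hC, h.hfn, hPN.trans hNN₁, hCN.trans hNN₁, hN₁n⟩
    have hcard : Nat.card N < Nat.card N₁ := by
      obtain ⟨t, ht, hc⟩ := exists_cj_of_mem hu₁U
      have htQ : t ∈ Q := hQmem hc ht hu₁N
      have htN : t ∉ N := fun hm => hu₁V (hc.mem hm)
      refine Set.Finite.card_lt_card (Set.toFinite _) ?_
      refine lt_of_le_of_ne hNN₁ fun he => htN ?_
      have : t ∈ (N₁ : Set Ω) := hQN₁ htQ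
      rw [← he] at this
      exact this
    have hβ₁V₁ : ∀ v ∈ autInducedBy N₁ P, β₁ * v * β₁⁻¹ ∈ autInducedBy N₁ P := by
      intro v hv
      obtain ⟨x, hx, hc⟩ := exists_cj_of_mem hv
      obtain ⟨n, hn', q, hq, rfl⟩ := hN₁m x hx
      obtain ⟨a, ha⟩ := exists_cj (P := P) (hNn hn').2
      obtain ⟨b, hb⟩ := exists_cj (P := P) (hQP hq)
      have hv' : v = a * b := hc.eq (ha.mul hb)
      obtain ⟨n', hn'', hc'⟩ := exists_cj_of_mem (hβ₁V a (ha.mem hn'))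
      have h1 := hkβ b (hcQ hb hq)
      obtain ⟨t, ht, hct⟩ := exists_cj_of_mem (Subgroup.mem_inf.1 h1).1
      have htQ : t ∈ Q := hQmem hct ht (Subgroup.mem_inf.1 h1).2
      have h2 : β₁ * v * β₁⁻¹ = (β₁ * a * β₁⁻¹) * (β₁ * b * β₁⁻¹) := by rw [hv']; group
      rw [h2]
      exact (hc'.mul hct).mem (mul_mem (hNN₁ hn'') (hQN₁ htQ))
    obtain ⟨v₁, hv₁, β', hβ', hex, htr⟩ := ih P N₁ hpr (by omega) β₁ hβ₁B hβ₁V₁
    obtain ⟨x, hx, hc⟩ := exists_cj_of_mem hv₁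
    obtain ⟨n, hn', q, hq, rfl⟩ := hN₁m x hx
    obtain ⟨a, ha⟩ := exists_cj (P := P) (hNn hn').2
    obtain ⟨b, hb⟩ := exists_cj (P := P) (hQP hq)
    have hv' : v₁ = a * b := hc.eq (ha.mul hb)
    obtain ⟨q', hq'⟩ := exists_cj (P := N₁) (Subgroup.le_normalizer (hQN₁ hq))
    have hPN₁ : P ≤ N₁ := hPN.trans hNN₁
    have hγex : Ex (β₁ * a) (β' * q'⁻¹) := by
      have h1 := hex.mul hPN₁ ((hb.ex hq').inv hPN₁)
      have h2 : β₁ * v₁ * b⁻¹ = β₁ * a := by rw [hv']; group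
      rwa [h2] at h1
    have hγF : β' * q'⁻¹ ∈ F.autGroup N₁ :=
      mul_mem hβ' (inv_mem (hq'.mem_autGroup hN₁S (hTS (hQT hq))))
    have hγtr : Tr T (β' * q'⁻¹) := htr.mul (Tr.of_cj hT hN₁S (hQT hq) hq').inv
    have haV : a ∈ V := ha.mem hn'
    obtain ⟨γ, hγ, hγe⟩ := exists_restrict hNN₁ hN₁S hγF (by
      intro y hy hyN₁
      obtain ⟨c, hcy⟩ := exists_cj (P := P) (hNn hy).2
      have h1 := Cj.conj_of_ex hPN₁ hγex (n := ⟨y, hyN₁⟩) hcy
      refine mem_of_cj_mem hCN hNS (hN₁S ((β' * q'⁻¹) ⟨y, hyN₁⟩).2) h1 ?_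
      have h2 : β₁ * a * c * (β₁ * a)⁻¹ = β₁ * (a * c * a⁻¹) * β₁⁻¹ := by group
      rw [h2]
      exact hβ₁V _ (mul_mem (mul_mem haV (hcy.mem hy)) (inv_mem haV)))
    refine ⟨a, haV, γ, hγ, ?_, ?_⟩
    · intro y hy hyN
      rw [← hγe y hyN (hNN₁ hyN), hγex y hy (hNN₁ hyN)]
    · intro y
      rw [← hγe y y.2 (hNN₁ y.2)]
      exact hγtr ⟨y, hNN₁ y.2⟩

/-- Reduction to `Aut_N(P)` fully normalised. -/
theorem psi_aux [Finite S] [Fact p.Prime] (hS : IsPGroup p S) {E : FusionSystem T}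
    {F : FusionSystem S} (hE : E.IsNormalIn F p) (h : Pr F T P N)
    (ih : ∀ P' N', Pr F T P' N' → Nat.card P + Nat.card N < Nat.card P' + Nat.card N' →
      Psi E F P' N') : Psi E F P N := by
  have hF := hE.1.2.1
  have hT : F.StronglyClosed T := hE.1.2.2.2.1
  have hTS : T ≤ S := hT.1
  have hPS := h.hPT.trans hTS
  have hPf : Finite P := H802.finite_of_le hPS
  have hMf : Finite (MulAut P) := finite_mulAut
  have hNS : N ≤ S := h.hNn.trans inf_le_left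
  obtain ⟨hRA, -, -, -⟩ := sylow_facts hS hE.1 h.hPT h.hfn
  have hrec := H802.isReceptive_of_isFullyNormalized hS hF h.hfn
  have hVR : autInducedBy N P ≤ autInducedBy S P := by
    intro α hα
    obtain ⟨g, hg, hc⟩ := exists_cj_of_mem hα
    exact hc.mem (hNS hg)
  obtain ⟨a, ha, haV, hsyl⟩ := exists_conj_fully hRA hVR
  obtain ⟨f, hf, hfe⟩ := exists_iso_of_aut hPS ha
  obtain ⟨N', f', hf', hfe'⟩ := extend_of_receptive hrec hf N (by
    intro g hg
    refine ⟨hNS hg, (h.hNn hg).2, ?_⟩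
    obtain ⟨v, hv⟩ := exists_cj (P := P) (h.hNn hg).2
    obtain ⟨s, hs, hc⟩ := exists_cj_of_mem (haV ⟨v, hv.mem hg, rfl⟩)
    refine ⟨s, hs, fun x hx => ?_⟩
    have h1 := hc (a ⟨x, hx⟩)
    have h2 : ((MulAut.conj a).toMonoidHom v) (a ⟨x, hx⟩) = a (v ⟨x, hx⟩) := by
      show (a * v * a⁻¹) (a ⟨x, hx⟩) = a (v ⟨x, hx⟩)
      rw [MulAut.mul_apply, MulAut.mul_apply, MulAut.inv_apply_self]
    rw [h2] at h1
    have h3 : f (g * x * g⁻¹) = f (v ⟨x, hx⟩ : P) := by rw [hv]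
    rw [h3, hfe, h1, hfe ⟨x, hx⟩]) h.hPN
  have hP' : Iso F P P f' := hf.congr hfe'
  have hfc := H802.isFullyCentralized_of_isFullyNormalized hS hF h.hfn
  have hpr : Pr F T P N' := by
    refine ⟨h.hPT, h.hC, h.hfn, ?_, ?_, ?_⟩
    · intro y hy
      obtain ⟨x, hx, rfl⟩ := hP'.surj hy
      exact hf'.mem (h.hPN hx)
    · intro y hy
      obtain ⟨x, hx, rfl⟩ := iso_centralizerIn_surj hf' hP' h.hPN h.hCN hfc hy
      exact hf'.mem (h.hCN hx)
    · intro y hy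
      obtain ⟨x, hx, rfl⟩ := hf'.surj hy
      exact iso_mem_normalizerIn hf' hP' h.hPN hx (h.hNn hx).2
  have hcN : Nat.card N' = Nat.card N := hf'.card_eq.symm
  refine Psi.transport hE.1.2.2 h.hPT h.hPN hf' hP' (psi_step hS hE hpr ?_ ?_)
  · have hV' : autInducedBy N' P = (autInducedBy N P).map (MulAut.conj a).toMonoidHom := by
      have hex : ∀ (x : P), f' x = (a x : P) := fun x => by rw [hfe' x x.2, hfe]
      have key : ∀ {g : Ω} {v : MulAut P}, g ∈ N → Cj g v → Cj (f' g) (a * v * a⁻¹) := by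
        intro g v hg hv
        have h1 := Cj.congr hf' h.hPN (e := a) (fun x => (hex x).symm) hg hv
        exact h1
      ext w
      constructor
      · intro hw
        obtain ⟨g', hg', hc⟩ := exists_cj_of_mem hw
        obtain ⟨g, hg, rfl⟩ := hf'.surj hg'
        obtain ⟨v, hv⟩ := exists_cj (P := P) (h.hNn hg).2
        exact ⟨v, hv.mem hg, ((key hg hv).eq hc)⟩
      · rintro ⟨v, hv, rfl⟩
        obtain ⟨g, hg, hc⟩ := exists_cj_of_mem hv
        exact (key hg hc).mem (hf'.mem hg)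
    rw [hV']
    exact hsyl
  · intro P₂ N₂ hpr₂ hlt
    exact ih P₂ N₂ hpr₂ (by omega)

theorem psi [Finite S] [Fact p.Prime] (hS : IsPGroup p S) {E : FusionSystem T}
    {F : FusionSystem S} (hE : E.IsNormalIn F p) (h : Pr F T P N) : Psi E F P N := by
  have key : ∀ k (P N : Subgroup Ω), Pr F T P N →
      2 * Nat.card S - (Nat.card P + Nat.card N) ≤ k → Psi E F P N := by
    intro k
    induction k with
    | zero =>
      intro P N h hk
      refine psi_aux hS hE h fun P' N' h' hlt => ?_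
      exfalso
      have h1 : Nat.card P' ≤ Nat.card S :=
        Subgroup.card_le_of_le (h'.hPT.trans hE.1.2.2.2.1.1)
      have h2 : Nat.card N' ≤ Nat.card S := Subgroup.card_le_of_le (h'.hNn.trans inf_le_left)
      omega
    | succ k ih =>
      intro P N h hk
      refine psi_aux hS hE h fun P' N' h' hlt => ih P' N' h' ?_
      have h1 : Nat.card P' ≤ Nat.card S :=
        Subgroup.card_le_of_le (h'.hPT.trans hE.1.2.2.2.1.1)
      have h2 : Nat.card N' ≤ Nat.card S := Subgroup.card_le_of_le (h'.hNn.trans inf_le_left)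
      omega
  exact key _ P N h le_rfl

end Cfsg.Agent.H757
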