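import Cfsg.Agent.H757.ExtThm
/-!
# The extension theorem: the inductive step (helper757)
-/
set_option autoImplicit false

namespace Cfsg.Agent.H757

open Cfsg Cfsg.FusionSystem H750 H802

variable {Ω : Type*} [Group Ω] {S T P N : Subgroup Ω} {p : ℕ}

/-- Sylow facts for a fully `F`-normalised subgroup of `T`. -/
theorem sylow_facts [Finite S] [Fact p.Prime] (hS : IsPGroup p S) {E : FusionSystem T}
    {F : FusionSystem S} (hE : E.IsWeaklyNormalIn F p) (hPT : P ≤ T) (hfn : F.IsFullyNormalized P) :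
    SylIn p (autInducedBy S P) (F.autGroup P) ∧ SylIn p (autInducedBy T P) (E.autGroup P) ∧
      autInducedBy S P ⊓ E.autGroup P = autInducedBy T P ∧ E.IsReceptive P := by
  have hF := hE.2.1
  have hT : F.StronglyClosed T := hE.2.2.2.1
  have hTS : T ≤ S := hT.1
  have hPS := hPT.trans hTS
  have hTf : Finite T := H802.finite_of_le hTS
  have hPf : Finite P := H802.finite_of_le hPS
  have hTp : IsPGroup p T := hS.to_le hTS
  have hEn : E.IsFullyNormalized P :=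
    H792.isFullyNormalized_of_invariant hS hF hE.2.2.1 hT hPT hfn
  have h1 := sylIn_of_isFullyAutomized (H802.isFullyAutomized_of_isFullyNormalized hS hF hfn)
  have h2 := sylIn_of_isFullyAutomized (H802.isFullyAutomized_of_isFullyNormalized hTp hE.1 hEn)
  refine ⟨h1, h2, ?_, H802.isReceptive_of_isFullyNormalized hTp hE.1 hEn⟩
  have hMf : Finite (MulAut P) := finite_mulAut
  refine h2.eq_of_le inf_le_right (h1.isPGroup.to_le inf_le_left) (le_inf ?_ h2.le)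
  intro α hα
  obtain ⟨g, hg, hc⟩ := exists_cj_of_mem hα
  exact hc.mem (hTS hg)

/-- `κ c_n κ⁻¹ = c_t c_n` with `t ∈ T`. -/
theorem exists_comm [Finite S] [Fact p.Prime] (hS : IsPGroup p S) {E : FusionSystem T}
    {F : FusionSystem S} (hE : E.IsWeaklyNormalIn F p) (hPT : P ≤ T) (hfn : F.IsFullyNormalized P)
    (hNn : N ≤ normalizerIn S P) {κ : MulAut P} (hκ : κ ∈ E.autGroup P)
    (hV : ∀ v ∈ autInducedBy N P, κ * v * κ⁻¹ ∈ autInducedBy N P) {v : MulAut P}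
    (hv : v ∈ autInducedBy N P) : ∃ t ∈ T, ∃ u : MulAut P, Cj t u ∧ κ * v * κ⁻¹ = u * v := by
  obtain ⟨h1, h2, h3, -⟩ := sylow_facts hS hE hPT hfn
  have hT : F.StronglyClosed T := hE.2.2.2.1
  have hPS := hPT.trans hT.1
  have hNS : N ≤ S := hNn.trans inf_le_left
  have hVR : autInducedBy N P ≤ autInducedBy S P := by
    intro α hα
    obtain ⟨g, hg, hc⟩ := exists_cj_of_mem hα
    exact hc.mem (hNS hg)
  have h4 : κ * v * κ⁻¹ * v⁻¹ ∈ autInducedBy S P ⊓ E.autGroup P := by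
    refine Subgroup.mem_inf.2 ⟨mul_mem (hVR (hV v hv)) (inv_mem (hVR hv)), ?_⟩
    have : κ * v * κ⁻¹ * v⁻¹ = κ * (v * κ⁻¹ * v⁻¹) := by group
    rw [this]
    exact mul_mem hκ (autGroup_conj_mem hE.2.2 hPT (h1.le (hVR hv)) (inv_mem hκ))
  rw [h3] at h4
  obtain ⟨t, ht, hc⟩ := exists_cj_of_mem h4
  exact ⟨t, ht, _, hc, by group⟩

/-- The case `P = T` of the extension theorem for `p'`-elements. -/
theorem exists_ext_top [Finite S] [Fact p.Prime] (hS : IsPGroup p S) {E : FusionSystem T}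
    {F : FusionSystem S} (hE : E.IsNormalIn F p) (hTN : T ≤ N) (hCN : centralizerIn S T ≤ N)
    (hNS : N ≤ S) {κ : MulAut T} (hκ : κ ∈ E.autGroup T) (hκp : Nat.Coprime (orderOf κ) p)
    (hV : ∀ v ∈ autInducedBy N T, κ * v * κ⁻¹ ∈ autInducedBy N T) :
    ∃ β' ∈ F.autGroup N, Ex κ β' ∧ Tr T β' := by
  have hF := hE.1.2.1
  have hT : F.StronglyClosed T := hE.1.2.2.2.1
  have hTS : T ≤ S := hT.1
  have hSn := normalizer_of_stronglyClosed hT
  have hfT : F.IsFullyNormalized T := by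
    refine ⟨hTS, fun Q hQ => ?_⟩
    have hle : normalizerIn S T = S := inf_eq_left.2 hSn
    rw [hle]
    exact Subgroup.card_le_of_le inf_le_left
  set M : Subgroup Ω := T ⊔ centralizerIn S T with hM
  have hTM : T ≤ M := le_sup_left
  have hCM : centralizerIn S T ≤ M := le_sup_right
  have hMN : M ≤ N := sup_le hTN hCN
  have hMS : M ≤ S := hMN.trans hNS
  have hNf : Finite N := H802.finite_of_le hNS
  have hMf : Finite M := H802.finite_of_le hMS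
  have hTf : Finite T := H802.finite_of_le hTS
  -- elements of `M`
  have hMm : ∀ x ∈ M, ∃ t ∈ T, ∃ c ∈ centralizerIn S T, t * c = x := fun x hx =>
    (mem_sup_of_normalizes (fun c hc => hSn (mem_centralizerIn.1 hc).1)).1 hx
  obtain ⟨β, hβ, hβe, hβc⟩ := hE.2 κ hκ
  have hex : Ex κ β := fun x hx hxM => hβe ⟨x, hx⟩
  have htr : Tr T β := by
    rintro ⟨x, hx⟩
    obtain ⟨t, ht, c, hc, rfl⟩ := hMm x hx
    have h1 : ((β ⟨t * c, hx⟩ : M) : Ω) = (κ ⟨t, ht⟩ : T) * (β ⟨c, hCM hc⟩ : M) := by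
      have : (⟨t * c, hx⟩ : M) = ⟨t, hTM ht⟩ * ⟨c, hCM hc⟩ := rfl
      rw [this, map_mul, Subgroup.coe_mul, hex t ht (hTM ht)]
    rw [h1]
    have h2 : c⁻¹ * ((β ⟨c, hCM hc⟩ : M) : Ω) ∈ T := (Subgroup.mem_inf.1 (hβc ⟨c, hCM hc⟩ hc)).1
    have h3 : (t * c)⁻¹ * (((κ ⟨t, ht⟩ : T) : Ω) * (β ⟨c, hCM hc⟩ : M)) =
        (c⁻¹ * (t⁻¹ * (κ ⟨t, ht⟩ : T)) * c⁻¹⁻¹) * (c⁻¹ * (β ⟨c, hCM hc⟩ : M)) := by group
    show (t * c)⁻¹ * (((κ ⟨t, ht⟩ : T) : Ω) * (β ⟨c, hCM hc⟩ : M)) ∈ T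
    rw [h3]
    exact T.mul_mem (conj_mem_of_stronglyClosed hT (S.inv_mem (mem_centralizerIn.1 hc).1)
      (T.mul_mem (T.inv_mem ht) (κ ⟨t, ht⟩).2)) h2
  obtain ⟨m, hm, hexm⟩ := exists_coprime_ext hTM hκp hex
  have hκ₁ : β ^ m ∈ F.autGroup M := pow_mem hβ m
  have htr₁ : Tr T (β ^ m) := htr.pow m
  set κ₁ := β ^ m with hκ₁def
  -- `M` is weakly closed
  have hMconj : ∀ s ∈ S, s ∈ Subgroup.normalizer (M : Set Ω) := by
    intro s hs
    refine mem_normalizer_of_conj_mem fun x hx => ?_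
    obtain ⟨t, ht, c, hc, rfl⟩ := hMm x hx
    have : s * (t * c) * s⁻¹ = (s * t * s⁻¹) * (s * c * s⁻¹) := by group
    rw [this]
    refine mul_mem (hTM (conj_mem_of_stronglyClosed hT hs ht)) (hCM ?_)
    refine mem_centralizerIn.2 ⟨S.mul_mem (S.mul_mem hs (mem_centralizerIn.1 hc).1) (S.inv_mem hs),
      fun y hy => ?_⟩
    have h1 := (mem_centralizerIn.1 hc).2 _ (conj_mem_of_stronglyClosed hT (S.inv_mem hs) hy)
    have h2 : s * ((s⁻¹ * y * s⁻¹⁻¹) * c) * s⁻¹ = s * (c * (s⁻¹ * y * s⁻¹⁻¹)) * s⁻¹ := by rw [h1]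
    simpa [mul_assoc] using h2
  obtain ⟨hMrec, hMaut⟩ : F.IsReceptive M ∧ F.IsFullyAutomized p M := by
    obtain ⟨Q, hc, h1, h2⟩ := hF M hMS
    have hQM : M = Q := by
      obtain ⟨f, hf⟩ := exists_iso_of_isConj hc
      obtain ⟨T', hT', -⟩ := hf.restrict hTM
      have hT'T : T' = T := by
        refine Subgroup.eq_of_le_of_card_ge (iso_le_of_stronglyClosed hT hT' le_rfl) hT'.card_eq.le
      rw [hT'T] at hT'
      have hle : Q ≤ M := by
        intro y hy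
        obtain ⟨x, hx, rfl⟩ := hf.surj hy
        obtain ⟨t, ht, c, hc, rfl⟩ := hMm x hx
        rw [hf.map_mul (hTM ht) (hCM hc)]
        exact mul_mem (hTM (hT'.mem ht)) (hCM (iso_mem_centralizerIn hf hT' hTM (hCM hc) hc))
      exact (Subgroup.eq_of_le_of_card_ge hle hf.card_eq.le).symm
    rw [← hQM] at h1 h2
    exact ⟨h2, h1⟩
  have hMSyl := sylIn_of_isFullyAutomized hMaut
  -- the `p`-group of automorphisms of `M` trivial on `T` and on `M / T`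
  let L : Subgroup (MulAut M) :=
    { carrier := {γ | γ ∈ F.autGroup M ∧ Ex (1 : MulAut T) γ ∧ Tr T γ}
      one_mem' := ⟨one_mem _, Ex.one, Tr.one⟩
      mul_mem' := fun {a b} ha hb => ⟨mul_mem ha.1 hb.1, by
        have := ha.2.1.mul hTM hb.2.1
        rwa [one_mul] at this, ha.2.2.mul hb.2.2⟩
      inv_mem' := fun {a} ha => ⟨inv_mem ha.1, by
        have := ha.2.1.inv hTM
        rwa [inv_one] at this, ha.2.2.inv⟩ }
  have hAf : Finite (MulAut M) := finite_mulAut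
  have hLp : IsPGroup p L := by
    refine isPGroup_of_coprime fun x hx hxp => ?_
    refine aut_eq_one_of_coprime (hS.to_le hMS) hxp (T.subgroupOf M) ?_ ?_
    · intro y hy
      apply Subtype.ext
      exact hx.2.1 y hy y.2
    · intro y
      exact hx.2.2 y
  have hLn : ∀ k ∈ F.autGroup M, ∀ l ∈ L, k * l * k⁻¹ ∈ L := by
    intro k hk l hl
    obtain ⟨k₀, hk₀, hk₀e⟩ := exists_restrict hTM hMS hk (fun x hx hxM => by
      obtain ⟨f, hf, hfe⟩ := exists_iso_of_aut hMS hk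
      rw [← hfe]
      exact iso_mem_of_stronglyClosed hT hf hxM hx)
    refine ⟨mul_mem (mul_mem hk hl.1) (inv_mem hk), ?_, hl.2.2.conj hT hMS hk⟩
    have := (hk₀e.mul hTM hl.2.1).mul hTM (hk₀e.inv hTM)
    rwa [mul_one, mul_inv_cancel] at this
  have hLR : L ≤ autInducedBy S M := le_of_normal_pGroup hMSyl (fun x hx => hx.1) hLp hLn
  -- `κ₁` normalises `Aut_N(M)`
  have hNn : N ≤ normalizerIn S T := le_inf hNS (hNS.trans hSn)
  have hκ₁V : ∀ v ∈ autInducedBy N M, κ₁ * v * κ₁⁻¹ ∈ autInducedBy N M := by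
    intro v hv
    obtain ⟨n, hn, hc⟩ := exists_cj_of_mem hv
    obtain ⟨v₀, hv₀⟩ := exists_cj (P := T) (hNn hn).2
    obtain ⟨t, ht, u₀, hu₀, hcomm⟩ := exists_comm hS hE.1 le_rfl hfT hNn hκ hV (hv₀.mem hn)
    obtain ⟨u, hu⟩ := exists_cj (P := M) (hMconj t (hTS ht))
    have hvF : v ∈ F.autGroup M := hc.mem_autGroup hMS (hNS hn)
    have huF : u ∈ F.autGroup M := hu.mem_autGroup hMS (hTS ht)
    have hξ : (u * v)⁻¹ * (κ₁ * v * κ₁⁻¹) ∈ L := by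
      refine ⟨mul_mem (inv_mem (mul_mem huF hvF)) (mul_mem (mul_mem hκ₁ hvF) (inv_mem hκ₁)), ?_, ?_⟩
      · have h1 : Ex ((u₀ * v₀)⁻¹ * (κ * v₀ * κ⁻¹)) ((u * v)⁻¹ * (κ₁ * v * κ₁⁻¹)) :=
          (((hu₀.ex hu).mul hTM (hv₀.ex hc)).inv hTM).mul hTM
            ((hexm.mul hTM (hv₀.ex hc)).mul hTM (hexm.inv hTM))
        rwa [hcomm, inv_mul_cancel] at h1
      · have h1 : (u * v)⁻¹ * (κ₁ * v * κ₁⁻¹) = (v⁻¹ * (u⁻¹ * κ₁) * v⁻¹⁻¹) * κ₁⁻¹ := by group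
        rw [h1]
        refine Tr.mul (Tr.conj hT hMS (inv_mem hvF) (Tr.mul (Tr.inv ?_) htr₁)) htr₁.inv
        intro x
        rw [hu]
        have h2 : (x : Ω)⁻¹ * (t * x * t⁻¹) = ((x : Ω)⁻¹ * t * (x : Ω)⁻¹⁻¹) * t⁻¹ := by group
        rw [h2]
        exact T.mul_mem (conj_mem_of_stronglyClosed hT (S.inv_mem (hMS x.2)) ht) (T.inv_mem ht)
    obtain ⟨s, hs, hsc⟩ := exists_cj_of_mem (hLR hξ)
    have hsC : s ∈ centralizerIn S T := by
      refine mem_centralizerIn.2 ⟨hs, fun y hy => ?_⟩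
      have h1 := hsc ⟨y, hTM hy⟩
      rw [hξ.2.1 y hy (hTM hy)] at h1
      have h2 : y = s * y * s⁻¹ := h1
      calc y * s = (s * y * s⁻¹) * s := by rw [← h2]
        _ = s * y := by group
    have h1 : κ₁ * v * κ₁⁻¹ = (u * v) * ((u * v)⁻¹ * (κ₁ * v * κ₁⁻¹)) := by group
    rw [h1]
    exact ((hu.mul hc).mul hsc).mem (mul_mem (mul_mem (hTN ht) hn) (hCN hsC))
  have hCM' : centralizerIn S M ≤ N := by
    intro x hx
    exact hCN (mem_centralizerIn.2 ⟨(mem_centralizerIn.1 hx).1,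
      fun y hy => (mem_centralizerIn.1 hx).2 y (hTM hy)⟩)
  obtain ⟨κ₂, hκ₂, hex₂⟩ := exists_ext_aut hMrec hMN hCM'
    (le_inf hNS fun n hn => hMconj n (hNS hn)) hκ₁ hκ₁V
  obtain ⟨m', hm', hex₃⟩ := exists_coprime_ext hMN hm hex₂
  refine ⟨κ₂ ^ m', pow_mem hκ₂ m', hexm.trans hTM hex₃, ?_⟩
  have hex₄ : Ex κ (κ₂ ^ m') := hexm.trans hTM hex₃
  -- coprime action
  have hTn : (T.subgroupOf N).Normal := by
    rw [Subgroup.normal_subgroupOf_iff_le_normalizer hTN]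
    exact hNS.trans hSn
  intro x
  refine inv_mul_mem_of_coprime (hS.to_le hNS) hm' (T.subgroupOf N) (M.subgroupOf N) ?_ ?_ ?_ x
  · intro y hy
    show (((κ₂ ^ m') y : N) : Ω) ∈ T
    rw [hex₄ y hy y.2]
    exact (κ ⟨y, hy⟩).2
  · intro y hy
    show (y : Ω)⁻¹ * ((κ₂ ^ m') y : N) ∈ T
    rw [hex₃ y hy y.2]
    exact htr₁ ⟨y, hy⟩
  · intro y
    show (y : Ω)⁻¹ * ((κ₂ ^ m') y : N) ∈ M
    obtain ⟨v₀, hv₀⟩ := exists_cj (P := T) (hNn y.2).2
    obtain ⟨t, ht, u₀, hu₀, hcomm⟩ := exists_comm hS hE.1 le_rfl hfT hNn hκ hV (hv₀.mem y.2)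
    have h1 := Cj.conj_of_ex hTN hex₄ hv₀
    rw [hcomm] at h1
    have h2 := (hu₀.mul hv₀).inv.mul h1
    have h3 : (t * (y : Ω))⁻¹ * ((κ₂ ^ m') y : N) ∈ centralizerIn S T := by
      refine mem_centralizerIn.2 ⟨S.mul_mem (S.inv_mem (S.mul_mem (hTS ht) (hNS y.2)))
        (hNS ((κ₂ ^ m') y).2), fun z hz => ?_⟩
      have h4 := h2 ⟨z, hz⟩
      rw [inv_mul_cancel] at h4
      have h5 : z = (t * (y : Ω))⁻¹ * ((κ₂ ^ m') y : N) * z *
        ((t * (y : Ω))⁻¹ * ((κ₂ ^ m') y : N))⁻¹ := h4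
      calc z * ((t * (y : Ω))⁻¹ * ((κ₂ ^ m') y : N)) =
          ((t * (y : Ω))⁻¹ * ((κ₂ ^ m') y : N) * z *
            ((t * (y : Ω))⁻¹ * ((κ₂ ^ m') y : N))⁻¹) * ((t * (y : Ω))⁻¹ * ((κ₂ ^ m') y : N)) := by
            rw [← h5]
        _ = _ := by group
    have h6 : (y : Ω)⁻¹ * ((κ₂ ^ m') y : N) =
        ((y : Ω)⁻¹ * t * (y : Ω)⁻¹⁻¹) * ((t * (y : Ω))⁻¹ * ((κ₂ ^ m') y : N)) := by group
    rw [h6]
    exact mul_mem (hTM (conj_mem_of_stronglyClosed hT (S.inv_mem (hNS y.2)) ht)) (hCM h3)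

end Cfsg.Agent.H757
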