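import Cfsg.Agent.H757.AutExt
import Cfsg.Agent.H802.FusCentric
import Cfsg.Agent.H802.FusSub
/-!
# The extension theorem for automorphisms of subgroups of `T` in a normal subsystem (helper757)
-/
set_option autoImplicit false

namespace Cfsg.Agent.H757

open Cfsg Cfsg.FusionSystem H750

variable {Ω : Type*} [Group Ω] {S T P N : Subgroup Ω} {p : ℕ}

/-! ### Strongly closed subgroups -/

theorem iso_mem_of_stronglyClosed {F : FusionSystem S} (hT : F.StronglyClosed T) {Q : Subgroup Ω}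
    {f : Ω → Ω} (h : Iso F P Q f) {x : Ω} (hx : x ∈ P) (hxT : x ∈ T) : f x ∈ T := by
  obtain ⟨R', ⟨φ, hφ, -, hφe⟩, -⟩ := h.restrict (R := P ⊓ T) inf_le_left
  have h3 : x ∈ P ⊓ T := ⟨hx, hxT⟩
  rw [← hφe _ h3]
  exact hT.2 _ inf_le_right φ hφ _

theorem iso_le_of_stronglyClosed {F : FusionSystem S} (hT : F.StronglyClosed T) {Q : Subgroup Ω}
    {f : Ω → Ω} (h : Iso F P Q f) (hPT : P ≤ T) : Q ≤ T := by
  intro y hy
  obtain ⟨x, hx, rfl⟩ := h.surj hy
  exact iso_mem_of_stronglyClosed hT h hx (hPT hx)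

theorem conj_mem_of_stronglyClosed {F : FusionSystem S} (hT : F.StronglyClosed T) {s t : Ω}
    (hs : s ∈ S) (ht : t ∈ T) : s * t * s⁻¹ ∈ T := by
  have := hT.2 T le_rfl (conjHom T s) (F.conj_mem hT.1 hs) ⟨t, ht⟩
  exact this

theorem normalizer_of_stronglyClosed {F : FusionSystem S} (hT : F.StronglyClosed T) :
    S ≤ Subgroup.normalizer (T : Set Ω) := by
  intro s hs
  rw [Subgroup.mem_normalizer_iff]
  intro t
  refine ⟨fun ht => conj_mem_of_stronglyClosed hT hs ht, fun ht => ?_⟩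
  have := conj_mem_of_stronglyClosed hT (S.inv_mem hs) ht
  simpa [mul_assoc] using this

/-- Conjugates of elements of `Aut_E(P)` under `F`-isomorphisms lie in `Aut_E`. -/
theorem congr_mem_of_invariant {E : FusionSystem T} {F : FusionSystem S} (hE : E.IsInvariantIn F)
    (hPT : P ≤ T) {P' : Subgroup Ω} {f : Ω → Ω} (h : Iso F P P' f) {e : P ≃* P'}
    (he : ∀ x : P, ((e x : P') : Ω) = f x) {α : MulAut P} (hα : α ∈ E.autGroup P) :
    MulAut.congr e α ∈ E.autGroup P' := by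
  obtain ⟨φ, hφ, hr, hφe⟩ := h
  have h1 := H792.congr_mem_of_invariant hE hPT hφ hr hα
  have h2 : H802.isoOf φ (F.injective_of_mem hφ) hr = e := by
    ext x
    rw [H802.coe_isoOf, he, ← hφe x x.2]
  rwa [h2] at h1

theorem autGroup_conj_mem {E : FusionSystem T} {F : FusionSystem S} (hE : E.IsInvariantIn F)
    (hPT : P ≤ T) {α β : MulAut P} (hβ : β ∈ F.autGroup P) (hα : α ∈ E.autGroup P) :
    β * α * β⁻¹ ∈ E.autGroup P := by
  have hPS : P ≤ S := hPT.trans hE.2.1.1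
  obtain ⟨f, hf, hfe⟩ := exists_iso_of_aut hPS hβ
  have h1 := congr_mem_of_invariant hE hPT hf (e := β) (fun x => (hfe x).symm) hα
  have h2 : MulAut.congr β α = β * α * β⁻¹ := by
    ext x
    rfl
  rwa [h2] at h1

theorem autGroup_le_of_isSubsystemOf {E : FusionSystem T} {F : FusionSystem S}
    (h : E.IsSubsystemOf F) (hPT : P ≤ T) (hPS : P ≤ S) : E.autGroup P ≤ F.autGroup P := by
  intro α hα
  rw [H802.mem_autGroup_iff E hPT] at hα
  rw [H802.mem_autGroup_iff F hPS]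
  exact h P hα

theorem iso_mono {E : FusionSystem T} {F : FusionSystem S} (h : E.IsSubsystemOf F) {Q : Subgroup Ω}
    {f : Ω → Ω} (hf : Iso E P Q f) : Iso F P Q f := by
  obtain ⟨φ, hφ, hr, hφe⟩ := hf
  exact ⟨φ, h P hφ, hr, hφe⟩

/-! ### Transport of centralisers and normalisers -/

theorem iso_mem_centralizerIn {F : FusionSystem S} {Q M M' : Subgroup Ω} {f : Ω → Ω}
    (hM : Iso F M M' f) (hQ : Iso F P Q f) (hPM : P ≤ M) {x : Ω} (hx : x ∈ M)
    (hxC : x ∈ centralizerIn S P) : f x ∈ centralizerIn S Q := by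
  refine mem_centralizerIn.2 ⟨hM.le_right (hM.mem hx), fun y hy => ?_⟩
  obtain ⟨z, hz, rfl⟩ := hQ.surj hy
  rw [← hM.map_mul (hPM hz) hx, ← hM.map_mul hx (hPM hz), (mem_centralizerIn.1 hxC).2 z hz]

theorem iso_mem_normalizerIn {F : FusionSystem S} [Finite S] {Q M M' : Subgroup Ω} {f : Ω → Ω}
    (hM : Iso F M M' f) (hQ : Iso F P Q f) (hPM : P ≤ M) {x : Ω} (hx : x ∈ M)
    (hxC : x ∈ Subgroup.normalizer (P : Set Ω)) : f x ∈ normalizerIn S Q := by
  have : Finite Q := H802.finite_of_le hQ.le_right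
  refine mem_normalizerIn.2 ⟨hM.le_right (hM.mem hx), mem_normalizer_of_conj_mem fun y hy => ?_⟩
  obtain ⟨z, hz, rfl⟩ := hQ.surj hy
  rw [← hM.map_conj hx (hPM hz)]
  exact hQ.mem ((Subgroup.mem_normalizer_iff.1 hxC z).1 hz)

/-- Pull-back of an element of the centraliser of the image under an extension of a fully centralised source. -/
theorem iso_centralizerIn_surj {F : FusionSystem S} [Finite S] {Q M M' : Subgroup Ω} {f : Ω → Ω}
    (hM : Iso F M M' f) (hQ : Iso F P Q f) (hPM : P ≤ M) (hCM : centralizerIn S P ≤ M)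
    (hfc : F.IsFullyCentralized P) {y : Ω} (hy : y ∈ centralizerIn S Q) :
    ∃ x ∈ centralizerIn S P, f x = y := by
  obtain ⟨φ, hφ, hr, hφe⟩ := id hM
  have : Finite (centralizerIn S Q) := H802.finite_of_le inf_le_left
  obtain ⟨x, hx, h⟩ := H802.exists_preimage_of_card (F.injective_of_mem hφ) hCM
    (B := centralizerIn S Q) (fun x hx => by
      rw [hφe]
      exact iso_mem_centralizerIn hM hQ hPM (hCM hx) hx) (hfc.2 Q hQ.isConj) y hy
  exact ⟨x, hx, by rw [← h, hφe]⟩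

theorem isFullyNormalized_of_iso {F : FusionSystem S} [Finite S] {Q M M' : Subgroup Ω} {f : Ω → Ω}
    (hM : Iso F M M' f) (hQ : Iso F P Q f) (hPM : P ≤ M) (hNM : normalizerIn S P ≤ M)
    (hfn : F.IsFullyNormalized P) : F.IsFullyNormalized Q := by
  refine ⟨hQ.le_right, fun R hR => (hfn.2 R (H802.isConj_trans hQ.isConj hR)).trans ?_⟩
  obtain ⟨φ, hφ, hr, hφe⟩ := id hM
  have : Finite (normalizerIn S Q) := H802.finite_of_le inf_le_left
  refine H802.card_le_of_maps (F.injective_of_mem hφ) hNM fun x hx => ?_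
  rw [hφe]
  exact iso_mem_normalizerIn hM hQ hPM (hNM hx) (mem_normalizerIn.1 hx).2

/-- If `P` is fully normalised with `C_T(P) ≤ P` then all conjugates of `P` have this property. -/
theorem centralizer_le_of_isConj {F : FusionSystem S} [Finite S] [Fact p.Prime] (hS : IsPGroup p S)
    (hF : F.IsSaturated p) (hT : F.StronglyClosed T) (hfn : F.IsFullyNormalized P)
    (hC : centralizerIn T P ≤ P) {Q : Subgroup Ω} (hQ : F.IsConj P Q) : centralizerIn T Q ≤ Q := by
  have hrec := H802.isReceptive_of_isFullyNormalized hS hF hfn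
  obtain ⟨f, hf⟩ := exists_iso_of_isConj (H802.isConj_symm hQ)
  obtain ⟨φ, hφ, hr, hφe⟩ := id hf
  obtain ⟨ψ, hψ, hψe⟩ := hrec.2 Q φ hφ hr
  obtain ⟨g, hg, hge⟩ := exists_iso_of_hom hψ
  have hQS : Q ≤ S := hf.le_left
  have hQe : Q ≤ extender S Q φ := H802.le_extender hQS (fun x => (F.le_of_mem hφ).2 x)
  have hgf : ∀ x ∈ Q, g x = f x := fun x hx => by rw [hge x (hQe hx), hψe x hx (hQe hx), hφe]
  have hgQ : Iso F Q P g := hf.congr hgf
  intro x hx
  have hx' := mem_centralizerIn.1 hx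
  have hxC : x ∈ centralizerIn S Q := mem_centralizerIn.2 ⟨hT.1 hx'.1, hx'.2⟩
  have hxe : x ∈ extender S Q φ := H802.centralizerIn_le_extender S Q φ hxC
  have h1 := iso_mem_centralizerIn hg hgQ hQe hxe hxC
  have h2 : g x ∈ T := iso_mem_of_stronglyClosed hT hg hxe hx'.1
  have h3 : g x ∈ P := hC (mem_centralizerIn.2 ⟨h2, (mem_centralizerIn.1 h1).2⟩)
  obtain ⟨y, hy, hxy⟩ := hgQ.surj h3
  have := hg.inj (hQe hy) hxe hxy
  exact this ▸ hy

/-! ### Pairs -/

/-- The pairs `(P, N)` of the extension theorem. -/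
structure Pr (F : FusionSystem S) (T P N : Subgroup Ω) : Prop where
  hPT : P ≤ T
  hC : centralizerIn T P ≤ P
  hfn : F.IsFullyNormalized P
  hPN : P ≤ N
  hCN : centralizerIn S P ≤ N
  hNn : N ≤ normalizerIn S P

/-- The conclusion of the extension theorem for `β`. -/
def Con (F : FusionSystem S) (T P N : Subgroup Ω) (β : MulAut P) : Prop :=
  ∃ v ∈ autInducedBy N P, ∃ β' ∈ F.autGroup N, Ex (β * v) β' ∧ Tr T β'

def Psi (E : FusionSystem T) (F : FusionSystem S) (P N : Subgroup Ω) : Prop :=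
  ∀ β ∈ E.autGroup P, (∀ v ∈ autInducedBy N P, β * v * β⁻¹ ∈ autInducedBy N P) → Con F T P N β

theorem Cj.congr {F : FusionSystem S} {N' P' : Subgroup Ω} {f : Ω → Ω} (hN : Iso F N N' f)
    (hPN : P ≤ N) {e : P ≃* P'} (he : ∀ x : P, ((e x : P') : Ω) = f x) {g : Ω} (hg : g ∈ N)
    {v : MulAut P} (hv : Cj g v) : Cj (f g) (MulAut.congr e v) := by
  intro x'
  obtain ⟨x, rfl⟩ := e.surjective x'
  have h1 : MulAut.congr e v (e x) = e (v x) := by simp [MulAut.congr]
  rw [h1, he, he, hv x, hN.map_conj hg (hPN x.2)]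

theorem Con.transport {F : FusionSystem S} (hT : F.StronglyClosed T) {N' P' : Subgroup Ω}
    {f : Ω → Ω} (hPN : P ≤ N) (hN : Iso F N N' f) (hP : Iso F P P' f) {e : P ≃* P'}
    (he : ∀ x : P, ((e x : P') : Ω) = f x) {β : MulAut P}
    (h : Con F T P' N' (MulAut.congr e β)) : Con F T P N β := by
  obtain ⟨v', hv', β', hβ', hex, htr⟩ := h
  obtain ⟨g, hg, hgf, hfg⟩ := hN.exists_inv
  obtain ⟨d, hd⟩ := hN.exists_equiv
  have hP'N' : P' ≤ N' := by
    intro y hy
    obtain ⟨x, hx, rfl⟩ := hP.surj hy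
    exact hN.mem (hPN hx)
  have hes : ∀ y : P', ((e.symm y : P) : Ω) = g y := by
    intro y
    obtain ⟨x, rfl⟩ := e.surjective y
    rw [e.symm_apply_apply, he, hgf _ (hPN x.2)]
  have hds : ∀ y : N', ((d.symm y : N) : Ω) = g y := by
    intro y
    obtain ⟨x, rfl⟩ := d.surjective y
    rw [d.symm_apply_apply, hd, hgf _ x.2]
  obtain ⟨n', hn', hc⟩ := exists_cj_of_mem hv'
  refine ⟨MulAut.congr e.symm v', (Cj.congr hg hP'N' hes hn' hc).mem (hg.mem hn'),
    MulAut.congr d.symm β', hg.congr_mem hds hβ', ?_, ?_⟩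
  · intro x hx hxN
    have h1 : ((MulAut.congr d.symm β') ⟨x, hxN⟩ : N) = d.symm (β' (d ⟨x, hxN⟩)) := rfl
    have h2 : ((β * MulAut.congr e.symm v') ⟨x, hx⟩ : P) =
        e.symm ((MulAut.congr e β * v') (e ⟨x, hx⟩)) := by
      simp [MulAut.congr]
    rw [h1, h2, hds, hes]
    congr 1
    have h3 : (d ⟨x, hxN⟩ : N') = ⟨(e ⟨x, hx⟩ : P'), hP'N' (e ⟨x, hx⟩).2⟩ := by
      apply Subtype.ext
      rw [hd, he]
    rw [h3]
    exact hex _ (e ⟨x, hx⟩).2 _
  · intro x
    have h1 : ((MulAut.congr d.symm β') x : N) = d.symm (β' (d x)) := rfl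
    have h2 : (x : Ω)⁻¹ * ((MulAut.congr d.symm β') x : N) = g (((d x)⁻¹ * β' (d x) : N') : Ω) := by
      rw [h1]
      have h3 : ((x⁻¹ * d.symm (β' (d x)) : N) : Ω) = ((d.symm ((d x)⁻¹ * β' (d x)) : N) : Ω) := by
        rw [map_mul, map_inv, d.symm_apply_apply]
      rw [← hds]
      exact h3
    rw [h2]
    exact iso_mem_of_stronglyClosed hT hg ((d x)⁻¹ * β' (d x)).2 (htr (d x))

theorem Psi.transport {E : FusionSystem T} {F : FusionSystem S} (hE : E.IsInvariantIn F)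
    {N' P' : Subgroup Ω} {f : Ω → Ω} (hPT : P ≤ T) (hPN : P ≤ N) (hN : Iso F N N' f)
    (hP : Iso F P P' f) (h : Psi E F P' N') : Psi E F P N := by
  intro β hβ hn
  obtain ⟨e, he⟩ := hP.exists_equiv
  refine Con.transport hE.2.1 hPN hN hP he (h _ (congr_mem_of_invariant hE hPT hP he hβ) ?_)
  intro v' hv'
  obtain ⟨n', hn', hc⟩ := exists_cj_of_mem hv'
  obtain ⟨g, hg, hgf, hfg⟩ := hN.exists_inv
  have hP'N' : P' ≤ N' := by
    intro y hy
    obtain ⟨x, hx, rfl⟩ := hP.surj hy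
    exact hN.mem (hPN hx)
  have hes : ∀ y : P', ((e.symm y : P) : Ω) = g y := by
    intro y
    obtain ⟨x, rfl⟩ := e.surjective y
    rw [e.symm_apply_apply, he, hgf _ (hPN x.2)]
  have h1 := Cj.congr hg hP'N' hes hn' hc
  have h2 := hn _ (h1.mem (hg.mem hn'))
  obtain ⟨m, hm, hcm⟩ := exists_cj_of_mem h2
  have h3 := Cj.congr hN hPN he hm hcm
  have h4 : MulAut.congr e (β * MulAut.congr e.symm v' * β⁻¹) =
      MulAut.congr e β * v' * (MulAut.congr e β)⁻¹ := by
    rw [map_mul, map_mul, map_inv]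
    congr 2
    ext x
    simp [MulAut.congr]
  rw [h4] at h3
  exact h3.mem (hN.mem hm)

end Cfsg.Agent.H757
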