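import Cfsg.Agent.H757.RvMon

/-!
# The Monster at the prime 13: matrix computations over `ZMod 13` (helper757, for S5207)
-/

set_option autoImplicit false

namespace Cfsg.Agent.H757.RvM

/-! ### Fast arithmetic: block matrices -/

/-- the matrix `diag(e, (a b; c d))` with natural entries -/
structure T5 where
  e : ℕ
  a : ℕ
  b : ℕ
  c : ℕ
  d : ℕ

def T5.mul (x y : T5) : T5 :=
  ⟨x.e * y.e % 13, (x.a * y.a + x.b * y.c) % 13, (x.a * y.b + x.b * y.d) % 13,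
    (x.c * y.a + x.d * y.c) % 13, (x.c * y.b + x.d * y.d) % 13⟩

def T5.mat (x : T5) : Mat := !![(x.e : ZMod 13), 0, 0; 0, x.a, x.b; 0, x.c, x.d]

theorem T5.mat_mul (x y : T5) : (x.mul y).mat = x.mat * y.mat := by
  ext r c
  fin_cases r <;> fin_cases c <;> simp [T5.mat, T5.mul, Matrix.mul_apply, Fin.sum_univ_three]

/-- the 12-th power -/
def T5.p12 (x : T5) : T5 :=
  let y := x.mul (x.mul x)
  let w := y.mul y
  w.mul w

theorem T5.mat_p12 (x : T5) : x.p12.mat = x.mat ^ 12 := by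
  simp only [T5.p12, T5.mat_mul, ← pow_two, ← pow_succ', ← pow_mul]

/-- equality with the identity matrix -/
def T5.isOne (x : T5) : Bool :=
  Nat.beq x.e 1 && Nat.beq x.a 1 && Nat.beq x.b 0 && Nat.beq x.c 0 && Nat.beq x.d 1

/-- `x ^ 12 ≠ 1` and `x ^ 156 = 1` -/
def T5.good (x : T5) : Bool :=
  let y := x.p12
  (!(Nat.beq (y.b % 13) 0) || !(Nat.beq (y.c % 13) 0)) && T5.isOne (y.mul y.p12)

theorem T5.isOne_mat {x : T5} (h : x.isOne = true) : x.mat = 1 := by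
  simp only [T5.isOne, Bool.and_eq_true] at h
  obtain ⟨⟨⟨⟨h1, h2⟩, h3⟩, h4⟩, h5⟩ := h
  have h1 := Nat.eq_of_beq_eq_true h1
  have h2 := Nat.eq_of_beq_eq_true h2
  have h3 := Nat.eq_of_beq_eq_true h3
  have h4 := Nat.eq_of_beq_eq_true h4
  have h5 := Nat.eq_of_beq_eq_true h5
  ext r c
  fin_cases r <;> fin_cases c <;> simp [T5.mat, h1, h2, h3, h4, h5]


theorem T5.good_spec {x : T5} (h : x.good = true) : x.mat ^ (13 * 12) = 1 ∧ x.mat ^ 12 ≠ 1 := by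
  simp only [T5.good, Bool.and_eq_true, Bool.or_eq_true, Bool.not_eq_true'] at h
  obtain ⟨h1, h2⟩ := h
  have h3 := T5.isOne_mat h2
  rw [T5.mat_mul, T5.mat_p12 x.p12, T5.mat_p12 x, ← pow_succ', ← pow_mul] at h3
  refine ⟨h3, fun h4 => ?_⟩
  rw [← T5.mat_p12] at h4
  have hb : ((x.p12.b : ℕ) : ZMod 13) = 0 := congrFun (congrFun h4 1) 2
  have hc : ((x.p12.c : ℕ) : ZMod 13) = 0 := congrFun (congrFun h4 2) 1
  rw [ZMod.natCast_eq_zero_iff] at hb hc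
  rcases h1 with h1 | h1
  · rw [Nat.mod_eq_zero_of_dvd hb] at h1
    exact absurd h1 (by decide)
  · rw [Nat.mod_eq_zero_of_dvd hc] at h1
    exact absurd h1 (by decide)

def T5.one : T5 := ⟨1, 1, 0, 0, 1⟩

theorem T5.mat_one : T5.one.mat = 1 := by
  ext r c
  fin_cases r <;> fin_cases c <;> simp [T5.mat, T5.one]

/-- product of a word -/
def T5.wd (f : Fin 4 → T5) (w : List (Fin 4)) : T5 := w.foldr (fun k y => (f k).mul y) T5.one

theorem T5.mat_wd (f : Fin 4 → T5) {F : Fin 4 → Mat} (hf : ∀ k, (f k).mat = F k) (w : List (Fin 4)) :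
    (T5.wd f w).mat = (w.map F).prod := by
  induction w with
  | nil => exact T5.mat_one
  | cons k w ih =>
    rw [List.map_cons, List.prod_cons, ← ih, ← hf]
    exact T5.mat_mul _ _

def gen (n a b c d : ℕ) : Fin 4 → T5 :=
  ![⟨1, 5, 0, 0, 8⟩, ⟨1, 0, 12, 1, 0⟩, ⟨1, n * 10 % 13, n * 3 % 13, n * 2 % 13, n * 2 % 13⟩, ⟨12, a, b, c, d⟩]

theorem gen_mat (n a b c d : ℕ) (k : Fin 4) :
    (gen n a b c d k).mat = (![Im, Jm, Hm n, Um a b c d] : Fin 4 → Mat) k := by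
  fin_cases k
  · show !![((1 : ℕ) : ZMod 13), 0, 0; 0, (5 : ℕ), (0 : ℕ); 0, (0 : ℕ), (8 : ℕ)] = Im
    decide
  · show !![((1 : ℕ) : ZMod 13), 0, 0; 0, (0 : ℕ), (12 : ℕ); 0, (1 : ℕ), (0 : ℕ)] = Jm
    decide
  · show !![((1 : ℕ) : ZMod 13), 0, 0; 0, (n * 10 % 13 : ℕ), (n * 3 % 13 : ℕ); 0, (n * 2 % 13 : ℕ), (n * 2 % 13 : ℕ)]
      = Hm n
    ext r c
    fin_cases r <;> fin_cases c <;> simp [Hm]
  · show !![((12 : ℕ) : ZMod 13), 0, 0; 0, a, b; 0, c, d] = Um a b c d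
    have h1 : ((12 : ℕ) : ZMod 13) = -1 := by decide
    rw [h1]
    rfl

def words : List (List (Fin 4)) :=
  [[2, 3, 2, 2, 3], [0, 2, 3, 2, 1, 2, 3], [1, 2, 3, 0, 2, 2, 3], [2, 1, 3, 1, 2, 2, 3], [0, 3, 0, 3, 1, 3]]

def isSpec (a b c : ℕ) : Bool :=
  (Nat.beq a 0 && Nat.beq b 1 && Nat.beq c 1) || (Nat.beq a 0 && Nat.beq b 5 && Nat.beq c 8) ||
  (Nat.beq a 0 && Nat.beq b 8 && Nat.beq c 5) || (Nat.beq a 0 && Nat.beq b 12 && Nat.beq c 12) ||
  (Nat.beq a 1 && Nat.beq b 0 && Nat.beq c 0) || (Nat.beq a 12 && Nat.beq b 0 && Nat.beq c 0)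

def tst (n a b c : ℕ) : Bool :=
  !(Nat.beq ((a * a + b * c) % 13) 1) || isSpec a b c || words.any fun w => (T5.wd (gen n a b c (13 - a)) w).good

def chk (n : ℕ) : Bool :=
  (List.range 13).all fun a => (List.range 13).all fun b => (List.range 13).all fun c => tst n a b c

theorem chk1 : chk 1 = true := by decide +kernel
theorem chk3 : chk 3 = true := by decide +kernel
theorem chk9 : chk 9 = true := by decide +kernel


theorem nbeq {a b : ℕ} : Nat.beq a b = true ↔ a = b := ⟨Nat.eq_of_beq_eq_true, fun h => h ▸ Nat.beq_refl a⟩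

theorem chk_tst {n : ℕ} (h : chk n = true) {a b c : ℕ} (ha : a < 13) (hb : b < 13) (hc : c < 13) :
    tst n a b c = true := by
  unfold chk at h
  have h1 := List.all_eq_true.1 h a (List.mem_range.2 ha)
  have h2 := List.all_eq_true.1 h1 b (List.mem_range.2 hb)
  exact List.all_eq_true.1 h2 c (List.mem_range.2 hc)

theorem tst_spec {n a b c : ℕ} (h : tst n a b c = true) (h1 : (a * a + b * c) % 13 = 1) :
    isSpec a b c = true ∨ ∃ w ∈ words, (T5.wd (gen n a b c (13 - a)) w).good = true := by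
  unfold tst at h
  rw [h1, Bool.or_eq_true, Bool.or_eq_true, List.any_eq_true] at h
  rcases h with (h | h) | h
  · exact absurd h (by decide)
  · exact Or.inl h
  · exact Or.inr h

theorem spec_cases {a b c : ℕ} (h : isSpec a b c = true) :
    (a = 0 ∧ b = 1 ∧ c = 1) ∨ (a = 0 ∧ b = 5 ∧ c = 8) ∨ (a = 0 ∧ b = 8 ∧ c = 5) ∨ (a = 0 ∧ b = 12 ∧ c = 12) ∨
      (a = 1 ∧ b = 0 ∧ c = 0) ∨ (a = 12 ∧ b = 0 ∧ c = 0) := by
  simp only [isSpec, Bool.or_eq_true, Bool.and_eq_true, nbeq] at h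
  tauto

/-- the six special matrices -/
def Spec6 (a b c d : ZMod 13) : Prop :=
  (a = 0 ∧ b = 1 ∧ c = 1 ∧ d = 0) ∨ (a = 0 ∧ b = 5 ∧ c = 8 ∧ d = 0) ∨ (a = 0 ∧ b = 8 ∧ c = 5 ∧ d = 0) ∨
      (a = 0 ∧ b = 12 ∧ c = 12 ∧ d = 0) ∨ (a = 1 ∧ b = 0 ∧ c = 0 ∧ d = 12) ∨ (a = 12 ∧ b = 0 ∧ c = 0 ∧ d = 1)

theorem spec6_of {a b c : ℕ} (h : isSpec a b c = true) :
    Spec6 (a : ZMod 13) (b : ZMod 13) (c : ZMod 13) (-(a : ZMod 13)) := by
  rcases spec_cases h with ⟨rfl, rfl, rfl⟩ | ⟨rfl, rfl, rfl⟩ | ⟨rfl, rfl, rfl⟩ | ⟨rfl, rfl, rfl⟩ | ⟨rfl, rfl, rfl⟩ |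
    ⟨rfl, rfl, rfl⟩ <;> unfold Spec6 <;> decide

theorem c13 : ((13 : ℕ) : ZMod 13) = 0 := by decide

theorem inv13 : ∀ t : ZMod 13, t ≠ 0 → t ^ 11 * t = 1 := by decide +kernel

theorem n_cases : ∀ n : ZMod 13, n ^ 3 = 1 → n = 1 ∨ n = 3 ∨ n = 9 := by decide +kernel

theorem spec_word (n a b c d : ZMod 13) (hn : n ^ 3 = 1)
    (h : Spec6 a b c d) :
    ∃ w : List (Fin 3), (w.map ![Im, Jm, Hm n]).prod * Um a b c d = Tm * (w.map ![Im, Jm, Hm n]).prod := by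
  rcases n_cases n hn with rfl | rfl | rfl <;>
  rcases h with ⟨rfl, rfl, rfl, rfl⟩ | ⟨rfl, rfl, rfl, rfl⟩ | ⟨rfl, rfl, rfl, rfl⟩ | ⟨rfl, rfl, rfl, rfl⟩ |
    ⟨rfl, rfl, rfl, rfl⟩ | ⟨rfl, rfl, rfl, rfl⟩
  all_goals first
    | exact ⟨[1, 2], by decide +kernel⟩
    | exact ⟨[2, 2], by decide +kernel⟩
    | exact ⟨[1, 2, 2], by decide +kernel⟩
    | exact ⟨[2], by decide +kernel⟩
    | exact ⟨[], by decide +kernel⟩
    | exact ⟨[1], by decide +kernel⟩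

theorem step1 : Step1 := by
  intro n a b c d hn hU hns
  have : Fact (Nat.Prime 13) := ⟨by norm_num⟩
  have e11 := congrFun (congrFun hU 1) 1
  have e12 := congrFun (congrFun hU 1) 2
  have e21 := congrFun (congrFun hU 2) 1
  have e22 := congrFun (congrFun hU 2) 2
  simp [Um, Matrix.mul_apply, Fin.sum_univ_three] at e11 e12 e21 e22
  have hd : d = -a := by
    by_contra hne
    have h1 : a + d ≠ 0 := fun h => hne (by linear_combination h)
    have h2 : b = 0 := by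
      have h3 : (a + d) * b = 0 := by linear_combination e12
      exact (mul_eq_zero.1 h3).resolve_left h1
    have h3 : c = 0 := by
      have h3 : (a + d) * c = 0 := by linear_combination e21
      exact (mul_eq_zero.1 h3).resolve_left h1
    have h4 : (a + d) * (a - d) = 0 := by rw [h2, h3] at e11 e22; linear_combination e11 - e22
    exact hns ⟨h2, h3, sub_eq_zero.1 ((mul_eq_zero.1 h4).resolve_left h1)⟩
  subst hd
  have hm : (a.val * a.val + b.val * c.val) % 13 = 1 := by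
    have h1 : ((a.val * a.val + b.val * c.val : ℕ) : ZMod 13) = ((1 : ℕ) : ZMod 13) := by
      push_cast
      rw [ZMod.natCast_zmod_val, ZMod.natCast_zmod_val, ZMod.natCast_zmod_val]
      exact e11
    exact (ZMod.natCast_eq_natCast_iff' _ _ _).1 h1
  have hk : chk n.val = true := by
    rcases n_cases n hn with rfl | rfl | rfl
    · exact chk1
    · exact chk3
    · exact chk9
  have hval : ∀ t : ZMod 13, ((t.val : ℕ) : ZMod 13) = t := ZMod.natCast_zmod_val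
  have hneg : ((13 - a.val : ℕ) : ZMod 13) = -a := by
    rw [Nat.cast_sub (ZMod.val_lt a).le, hval]
    rw [c13, zero_sub]
  rcases tst_spec (chk_tst hk (ZMod.val_lt a) (ZMod.val_lt b) (ZMod.val_lt c)) hm with h1 | ⟨w, -, hw⟩
  · left
    refine spec_word n a b c (-a) hn ?_
    have h2 := spec6_of h1
    rw [hval, hval, hval] at h2
    exact h2
  · right
    refine ⟨w, 12, ?_⟩
    have hg : ∀ k, (gen n.val a.val b.val c.val (13 - a.val) k).mat = (![Im, Jm, Hm n, Um a b c (-a)] : Fin 4 → Mat) k := by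
      intro k
      rw [gen_mat, hval, hval, hval, hval, hneg]
    rw [← T5.mat_wd _ hg]
    exact T5.good_spec hw

/-! ### Full matrices -/

structure T9 where
  a : ℕ
  b : ℕ
  c : ℕ
  d : ℕ
  e : ℕ
  f : ℕ
  g : ℕ
  h : ℕ
  i : ℕ

def T9.mul (x y : T9) : T9 :=
  ⟨(x.a * y.a + x.b * y.d + x.c * y.g) % 13, (x.a * y.b + x.b * y.e + x.c * y.h) % 13,
    (x.a * y.c + x.b * y.f + x.c * y.i) % 13,
   (x.d * y.a + x.e * y.d + x.f * y.g) % 13, (x.d * y.b + x.e * y.e + x.f * y.h) % 13,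
    (x.d * y.c + x.e * y.f + x.f * y.i) % 13,
   (x.g * y.a + x.h * y.d + x.i * y.g) % 13, (x.g * y.b + x.h * y.e + x.i * y.h) % 13,
    (x.g * y.c + x.h * y.f + x.i * y.i) % 13⟩

def T9.mat (x : T9) : Mat := !![(x.a : ZMod 13), x.b, x.c; x.d, x.e, x.f; x.g, x.h, x.i]

theorem T9.mat_mul (x y : T9) : (x.mul y).mat = x.mat * y.mat := by
  ext r c
  fin_cases r <;> fin_cases c <;> simp [T9.mat, T9.mul, Matrix.mul_apply, Fin.sum_univ_three]

def T9.p12 (x : T9) : T9 :=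
  let y := x.mul (x.mul x)
  let w := y.mul y
  w.mul w

theorem T9.mat_p12 (x : T9) : x.p12.mat = x.mat ^ 12 := by
  simp only [T9.p12, T9.mat_mul, ← pow_two, ← pow_succ', ← pow_mul]

def T9.isOne (x : T9) : Bool :=
  Nat.beq x.a 1 && Nat.beq x.b 0 && Nat.beq x.c 0 && Nat.beq x.d 0 && Nat.beq x.e 1 && Nat.beq x.f 0 &&
    Nat.beq x.g 0 && Nat.beq x.h 0 && Nat.beq x.i 1

theorem T9.isOne_mat {x : T9} (h : x.isOne = true) : x.mat = 1 := by
  simp only [T9.isOne, Bool.and_eq_true, nbeq] at h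
  obtain ⟨⟨⟨⟨⟨⟨⟨⟨h1, h2⟩, h3⟩, h4⟩, h5⟩, h6⟩, h7⟩, h8⟩, h9⟩ := h
  ext r c
  fin_cases r <;> fin_cases c <;> simp [T9.mat, h1, h2, h3, h4, h5, h6, h7, h8, h9]

/-- the 36-th power -/
def T9.p36 (x : T9) : T9 :=
  let y := x.p12
  y.mul (y.mul y)

/-- the 61-st power -/
def T9.p61 (x : T9) : T9 :=
  let y := x.p12
  let w := y.mul y
  x.mul (y.mul (w.mul w))

theorem T9.mat_p36 (x : T9) : x.p36.mat = x.mat ^ 36 := by
  simp only [T9.p36, T9.mat_mul, T9.mat_p12, ← pow_add]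

theorem T9.mat_p61 (x : T9) : x.p61.mat = x.mat ^ 61 := by
  simp only [T9.p61, T9.mat_mul, T9.mat_p12, ← pow_add, ← pow_succ']

/-- `x ^ 36 ≠ 1` (an entry off the diagonal is nonzero) and `x ^ (36 * 61) = 1` -/
def T9.good (x : T9) : Bool :=
  let y := x.p36
  (!(Nat.beq (y.b % 13) 0) || !(Nat.beq (y.c % 13) 0) || !(Nat.beq (y.d % 13) 0)) && T9.isOne (y.p61)

theorem T9.good_spec {x : T9} (h : x.good = true) : x.mat ^ (61 * 36) = 1 ∧ x.mat ^ 36 ≠ 1 := by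
  simp only [T9.good, Bool.and_eq_true, Bool.or_eq_true, Bool.not_eq_true'] at h
  obtain ⟨h1, h2⟩ := h
  have h3 := T9.isOne_mat h2
  rw [T9.mat_p61 x.p36, T9.mat_p36 x, ← pow_mul] at h3
  refine ⟨by rw [mul_comm]; exact h3, fun h4 => ?_⟩
  rw [← T9.mat_p36] at h4
  have hb : ((x.p36.b : ℕ) : ZMod 13) = 0 := congrFun (congrFun h4 0) 1
  have hc : ((x.p36.c : ℕ) : ZMod 13) = 0 := congrFun (congrFun h4 0) 2
  have hd : ((x.p36.d : ℕ) : ZMod 13) = 0 := congrFun (congrFun h4 1) 0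
  rw [ZMod.natCast_eq_zero_iff] at hb hc hd
  rcases h1 with (h1 | h1) | h1
  · rw [Nat.mod_eq_zero_of_dvd hb] at h1
    exact absurd h1 (by decide)
  · rw [Nat.mod_eq_zero_of_dvd hc] at h1
    exact absurd h1 (by decide)
  · rw [Nat.mod_eq_zero_of_dvd hd] at h1
    exact absurd h1 (by decide)

def T9.one : T9 := ⟨1, 0, 0, 0, 1, 0, 0, 0, 1⟩

theorem T9.mat_one : T9.one.mat = 1 := by
  ext r c
  fin_cases r <;> fin_cases c <;> simp [T9.mat, T9.one]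

def T9.wd (f : Fin 4 → T9) (w : List (Fin 4)) : T9 := w.foldr (fun k y => (f k).mul y) T9.one

theorem T9.mat_wd (f : Fin 4 → T9) {F : Fin 4 → Mat} (hf : ∀ k, (f k).mat = F k) (w : List (Fin 4)) :
    (T9.wd f w).mat = (w.map F).prod := by
  induction w with
  | nil => exact T9.mat_one
  | cons k w ih =>
    rw [List.map_cons, List.prod_cons, ← ih, ← hf]
    exact T9.mat_mul _ _

/-- `l` is minus the inverse of `k` -/
def gen9 (n l k : ℕ) : Fin 4 → T9 :=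
  ![⟨1, 0, 0, 0, 5, 0, 0, 0, 8⟩, ⟨1, 0, 0, 0, 0, 12, 0, 1, 0⟩,
    ⟨1, 0, 0, 0, n * 10 % 13, n * 3 % 13, 0, n * 2 % 13, n * 2 % 13⟩, ⟨0, 0, l, 0, 1, 0, k, 0, 0⟩]

theorem gen9_mat (n l k : ℕ) (hl : (l : ZMod 13) = -((k : ZMod 13)⁻¹)) (t : Fin 4) :
    (gen9 n l k t).mat = (![Im, Jm, Hm n, Jp k] : Fin 4 → Mat) t := by
  fin_cases t
  · show !![((1 : ℕ) : ZMod 13), (0 : ℕ), (0 : ℕ); (0 : ℕ), (5 : ℕ), (0 : ℕ); (0 : ℕ), (0 : ℕ), (8 : ℕ)] = Im
    decide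
  · show !![((1 : ℕ) : ZMod 13), (0 : ℕ), (0 : ℕ); (0 : ℕ), (0 : ℕ), (12 : ℕ); (0 : ℕ), (1 : ℕ), (0 : ℕ)] = Jm
    decide
  · show !![((1 : ℕ) : ZMod 13), (0 : ℕ), (0 : ℕ); (0 : ℕ), (n * 10 % 13 : ℕ), (n * 3 % 13 : ℕ);
      (0 : ℕ), (n * 2 % 13 : ℕ), (n * 2 % 13 : ℕ)] = Hm n
    ext r c
    fin_cases r <;> fin_cases c <;> simp [Hm]
  · show !![((0 : ℕ) : ZMod 13), (0 : ℕ), l; (0 : ℕ), (1 : ℕ), (0 : ℕ); k, (0 : ℕ), (0 : ℕ)] = Jp k
    rw [hl]
    ext r c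
    fin_cases r <;> fin_cases c <;> simp [Jp]

def chk3b (n : ℕ) : Bool :=
  (List.range 13).all fun k => Nat.beq k 0 ||
    (([[2, 3], [0, 2, 1, 3]] : List (List (Fin 4))).any fun w => (T9.wd (gen9 n ((13 - k ^ 11 % 13)) k) w).good)

theorem chk3b1 : chk3b 1 = true := by decide +kernel
theorem chk3b3 : chk3b 3 = true := by decide +kernel
theorem chk3b9 : chk3b 9 = true := by decide +kernel

theorem step3 : Step3 := by
  intro n k hn hk
  have : Fact (Nat.Prime 13) := ⟨by norm_num⟩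
  have hval : ∀ t : ZMod 13, ((t.val : ℕ) : ZMod 13) = t := ZMod.natCast_zmod_val
  have hc : chk3b n.val = true := by
    rcases n_cases n hn with rfl | rfl | rfl
    · exact chk3b1
    · exact chk3b3
    · exact chk3b9
  unfold chk3b at hc
  have hc' := List.all_eq_true.1 hc k.val (List.mem_range.2 (ZMod.val_lt k))
  rw [Bool.or_eq_true, List.any_eq_true] at hc'
  rcases hc' with h1 | ⟨w, -, hw⟩
  · exact absurd ((ZMod.val_eq_zero k).1 (nbeq.1 h1)) hk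
  · refine ⟨w, 36, ?_⟩
    have hl : ((13 - k.val ^ 11 % 13 : ℕ) : ZMod 13) = -(((k.val : ℕ) : ZMod 13)⁻¹) := by
      rw [Nat.cast_sub (Nat.mod_lt _ (by norm_num)).le, ZMod.natCast_mod, Nat.cast_pow, hval,
        c13, zero_sub]
      rw [eq_inv_of_mul_eq_one_left (inv13 k hk)]
    have hg : ∀ t, (gen9 n.val (13 - k.val ^ 11 % 13) k.val t).mat = (![Im, Jm, Hm n, Jp k] : Fin 4 → Mat) t := by
      intro t
      rw [gen9_mat _ _ _ hl, hval, hval]
    rw [← T9.mat_wd _ hg]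
    exact T9.good_spec hw

section

open Subgroup Cfsg Cfsg.Agent.H757.RvT

variable {G : Type*} [Group G] {x z i j h s : G} {P : Sylow 13 G} {O : Subgroup G}

/-- **the abelian case for the Monster at 13** -/
theorem MD.false [Finite G] (md : MD x z i j h s P O) (ab : ∀ a ∈ P, ∀ b ∈ P, a * b = b * a) : False :=
  md.false_of step1 step3 ab

end

end Cfsg.Agent.H757.RvM
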