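import Cfsg.Agent.H757.RvThree
import Mathlib.Data.ZMod.Basic
import Mathlib.LinearAlgebra.Matrix.Trace
import Mathlib.Data.Matrix.Mul
import Mathlib.Tactic

/-!
# The Monster at the prime 13: the abelian case, group part (helper757, for S5207)

`MD.false`: the hypotheses `MD` (data in the centralizer of an involution, given by helper770) are not satisfied with an
abelian Sylow 13-subgroup.
-/

set_option autoImplicit false

namespace Cfsg.Agent.H757.RvM

open Subgroup Cfsg Cfsg.Agent.H757.RvT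

universe u

variable {G : Type u} [Group G]

/-- the data (helper770) -/
structure MD (x z i j h s : G) (P : Sylow 13 G) (O : Subgroup G) : Prop where
  hyp : RvT.Hyp 13 x z i j
  out : RvT.Out 13 x z P O
  hx : h * x = x * h
  h3 : h * h * h = 1
  hi : h * i * h⁻¹ = j
  hj : h * j * h⁻¹ = i * j
  sx : s * x * s⁻¹ = x⁻¹
  ss : s * s = z
  si : s * i = i * s
  sj : s * j = j * s
  conj : ∀ a ∈ P, a ≠ 1 → ∀ t : G, t * t = 1 → t * x * t⁻¹ = x⁻¹ → t * a = a * t →
    ∃ c : G, c * t * c⁻¹ = z ∧ c * a * c⁻¹ ∈ zpowers x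
  n61 : ¬ 61 ∣ Nat.card G

/-! ### Powers with exponents in `ZMod 13` -/

/-- powers with exponent in `ZMod 13` -/
def pq (g : G) (a : ZMod 13) : G := g ^ a.val

theorem pq_natCast {g : G} (hg : g ^ 13 = 1) (n : ℕ) : pq g (n : ZMod 13) = g ^ n := by
  rw [pq, ZMod.val_natCast, ← pow_eq_pow_mod _ hg]

theorem pq_add {g : G} (hg : g ^ 13 = 1) (a b : ZMod 13) : pq g (a + b) = pq g a * pq g b := by
  rw [pq, pq, pq, ← pow_add, ZMod.val_add, ← pow_eq_pow_mod _ hg]

theorem pq_zero {g : G} : pq g 0 = 1 := by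
  rw [pq, ZMod.val_zero, pow_zero]

theorem pq_one {g : G} : pq g 1 = g := by
  show g ^ (1 : ZMod 13).val = g
  rw [show (1 : ZMod 13).val = 1 from rfl, pow_one]

theorem pq_neg {g : G} (hg : g ^ 13 = 1) (a : ZMod 13) : pq g (-a) = (pq g a)⁻¹ := by
  rw [eq_inv_iff_mul_eq_one, ← pq_add hg, neg_add_cancel, pq_zero]

theorem conj_pq (w g : G) (a : ZMod 13) : w * pq g a * w⁻¹ = pq (w * g * w⁻¹) a := by
  rw [pq, pq, conj_pow]

theorem pq_pow {g : G} (hg : g ^ 13 = 1) (k : ℕ) (a : ZMod 13) : pq (g ^ k) a = pq g (k * a) := by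
  have h1 : ((k : ZMod 13) * a) = ((k * a.val : ℕ) : ZMod 13) := by
    rw [Nat.cast_mul, ZMod.natCast_zmod_val]
  rw [h1, pq_natCast hg, pq, pow_mul]

theorem pq_mem {H : Subgroup G} {g : G} (hg : g ∈ H) (a : ZMod 13) : pq g a ∈ H := pow_mem hg _

theorem pq_eq_one {y : G} (hy : y ^ 13 = 1) (hy1 : y ≠ 1) {a : ZMod 13} (h : pq y a = 1) : a = 0 := by
  have h1 : orderOf y = 13 := by
    rcases (Nat.dvd_prime (by norm_num : Nat.Prime 13)).1 (orderOf_dvd_of_pow_eq_one hy) with h2 | h2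
    · exact absurd (orderOf_eq_one_iff.1 h2) hy1
    · exact h2
  have h2 : 13 ∣ a.val := by
    have h5 : orderOf y ∣ a.val := orderOf_dvd_of_pow_eq_one h
    rwa [h1] at h5
  have h3 := ZMod.val_lt a
  have h4 : a.val = 0 := by omega
  exact (ZMod.val_eq_zero a).1 h4

/-! ### The abelian group `P` -/

section

variable {x z i j h s : G} {P : Sylow 13 G} {O : Subgroup G}

theorem MD.zi (m : MD x z i j h s P O) : z * i = i * z := by rw [← m.hyp.ii, mul_assoc]
theorem MD.zj (m : MD x z i j h s P O) : z * j = j * z := by rw [← m.hyp.jj, mul_assoc]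
theorem MD.zs (m : MD x z i j h s P O) : z * s = s * z := by rw [← m.ss, mul_assoc]
theorem MD.zinv (m : MD x z i j h s P O) : z⁻¹ = z := inv_eq_of_mul_eq_one_left m.hyp.zz

theorem MD.exists_inverted [Finite G] (m : MD x z i j h s P O) : ∃ u ∈ P, u ≠ 1 ∧ z * u * z⁻¹ = u⁻¹ := by
  have h1 : ∃ y ∈ P, y ∉ zpowers x := by
    by_contra hcon
    push Not at hcon
    have h2 : (P : Subgroup G) ≤ zpowers x := hcon
    have h3 := Nat.le_of_dvd Nat.card_pos (Subgroup.card_dvd_of_le h2)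
    rw [Nat.card_zpowers, m.hyp.xo] at h3
    have h4 : Nat.card ((P : Subgroup G)) = 13 ^ 3 := m.out.card
    rw [h4] at h3
    norm_num at h3
  obtain ⟨y, hy, hyx⟩ := h1
  obtain ⟨k, hk⟩ := m.out.inv y hy
  have hk' : x ^ k = z * y * z⁻¹ * y := hk
  have hc : y * x = x * y := m.out.cent y hy
  have hz : z * x ^ k * z⁻¹ = x ^ k := by
    have : Commute z (x ^ k) := (show Commute z x from m.hyp.xz.symm).zpow_right k
    rw [this.eq, mul_inv_cancel_right]
  have hyk : y * x ^ k = x ^ k * y := ((show Commute y x from hc).zpow_right k).eq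
  obtain ⟨c, hcx⟩ : ∃ c, c = x ^ k := ⟨_, rfl⟩
  rw [← hcx] at hk' hz hyk
  have hc13 : c ^ 13 = 1 := m.out.exp c (by rw [hcx]; exact zpow_mem m.out.xP k)
  have hcz : Commute z c := mul_inv_eq_iff_eq_mul.1 hz
  have hyc : Commute y c := hyk
  refine ⟨y * c ^ 6, mul_mem hy ?_, ?_, ?_⟩
  · rw [hcx]; exact pow_mem (zpow_mem m.out.xP k) 6
  · intro h1
    apply hyx
    rw [mul_eq_one_iff_eq_inv] at h1
    rw [h1, hcx]
    have h2 : x ^ k ∈ zpowers x := ⟨k, rfl⟩
    exact inv_mem (pow_mem h2 6)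
  · have e1 : z * y * z⁻¹ = c * y⁻¹ := by rw [hk']; group
    have e2 : z * c ^ 6 * z⁻¹ = c ^ 6 := by rw [(hcz.pow_right 6).eq, mul_inv_cancel_right]
    have e3 : c * y⁻¹ = y⁻¹ * c := (hyc.inv_left).symm.eq
    have e4 : c * c ^ 6 = (c ^ 6)⁻¹ := by
      rw [eq_inv_iff_mul_eq_one, ← pow_succ', ← pow_add, hc13]
    calc z * (y * c ^ 6) * z⁻¹ = (z * y * z⁻¹) * (z * c ^ 6 * z⁻¹) := by group
      _ = y⁻¹ * (c * c ^ 6) := by rw [e1, e2, e3, mul_assoc]
      _ = y⁻¹ * (c ^ 6)⁻¹ := by rw [e4]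
      _ = (y * c ^ 6)⁻¹ := by rw [← mul_inv_rev, (hyc.pow_right 6).eq]

theorem MD.exists_eigen [Finite G] (m : MD x z i j h s P O) (ab : ∀ a ∈ P, ∀ b ∈ P, a * b = b * a) :
    ∃ v ∈ P, v ≠ 1 ∧ z * v * z⁻¹ = v⁻¹ ∧ i * v * i⁻¹ = v ^ 5 := by
  obtain ⟨u, hu, hu1, hzu⟩ := m.exists_inverted
  obtain ⟨y, hy⟩ : ∃ y, y = i * u * i⁻¹ := ⟨_, rfl⟩
  have hyP : y ∈ P := by rw [hy]; exact m.out.norm i m.hyp.ix u hu
  have hzi := m.zi
  have hzy : z * y * z⁻¹ = y⁻¹ := by
    have hzi' : i⁻¹ * z⁻¹ = z⁻¹ * i⁻¹ := by rw [← mul_inv_rev, ← mul_inv_rev, hzi]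
    calc z * y * z⁻¹ = (z * i) * u * (i⁻¹ * z⁻¹) := by rw [hy]; group
      _ = i * (z * u * z⁻¹) * i⁻¹ := by rw [hzi, hzi']; group
      _ = y⁻¹ := by rw [hzu, hy]; group
  have hiy : i * y * i⁻¹ = u⁻¹ := by
    rw [hy, ← hzu, ← m.hyp.ii]; group
  have huy : Commute u y := ab u hu y hyP
  have hu13 : u ^ 13 = 1 := m.out.exp u hu
  have key : ∀ n : ℕ, i * (y * u ^ n) * i⁻¹ = u⁻¹ * y ^ n := by
    intro n
    calc i * (y * u ^ n) * i⁻¹ = (i * y * i⁻¹) * (i * u ^ n * i⁻¹) := by group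
      _ = u⁻¹ * y ^ n := by rw [hiy, ← conj_pow, ← hy]
  have keyz : ∀ n : ℕ, z * (y * u ^ n) * z⁻¹ = (y * u ^ n)⁻¹ := by
    intro n
    calc z * (y * u ^ n) * z⁻¹ = (z * y * z⁻¹) * (z * u ^ n * z⁻¹) := by group
      _ = y⁻¹ * (u ^ n)⁻¹ := by rw [hzy, ← conj_pow, hzu, inv_pow]
      _ = (y * u ^ n)⁻¹ := by
        rw [← mul_inv_rev, (huy.pow_left n).eq]
  by_cases hv1 : y * u ^ 5 = 1
  · -- `y u⁸` is an eigenvector for `8`
    obtain ⟨v, hv⟩ : ∃ v, v = y * u ^ 8 := ⟨_, rfl⟩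
    have hvu : v = u ^ 3 := by
      rw [hv, show 8 = 5 + 3 from rfl, pow_add, ← mul_assoc, hv1, one_mul]
    have hiv : i * v * i⁻¹ = v ^ 8 := by
      rw [hv, key 8, (huy.symm.pow_right 8).mul_pow, ← pow_mul]
      have : u ^ (8 * 8) = u⁻¹ := by
        rw [eq_inv_iff_mul_eq_one, ← pow_succ, show 8 * 8 + 1 = 13 * 5 from rfl, pow_mul, hu13, one_pow]
      rw [this]
      exact ((huy.inv_left).pow_right 8).eq
    have hzj := m.zj
    have hzj' : j⁻¹ * z⁻¹ = z⁻¹ * j⁻¹ := by rw [← mul_inv_rev, ← mul_inv_rev, hzj]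
    have hvP : v ∈ P := by rw [hvu]; exact pow_mem hu 3
    have hv13 : (j * v * j⁻¹) ^ 13 = 1 := m.out.exp _ (m.out.norm j m.hyp.jx v hvP)
    refine ⟨j * v * j⁻¹, m.out.norm j m.hyp.jx v hvP, ?_, ?_, ?_⟩
    · intro h1
      apply hu1
      have h2 : v = 1 := by
        calc v = j⁻¹ * (j * v * j⁻¹) * j := by group
          _ = 1 := by rw [h1]; group
      rw [hvu] at h2
      calc u = u ^ 13 * ((u ^ 3) ^ 4)⁻¹ := by rw [← pow_mul]; group
        _ = 1 := by rw [h2, hu13]; group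
    · calc z * (j * v * j⁻¹) * z⁻¹ = (z * j) * v * (j⁻¹ * z⁻¹) := by group
        _ = j * (z * v * z⁻¹) * j⁻¹ := by rw [hzj, hzj']; group
        _ = (j * v * j⁻¹)⁻¹ := by rw [hv, keyz 8]; group
    · have e1 : i * (j * v * j⁻¹) * i⁻¹ = (i * j) * v * (i * j)⁻¹ := by group
      rw [e1, m.hyp.ij]
      have hzv : z * v * z⁻¹ = v⁻¹ := by rw [hv, keyz 8]
      calc j * i * z * v * (j * i * z)⁻¹ = j * (i * (z * v * z⁻¹) * i⁻¹) * j⁻¹ := by group
        _ = j * (i * v * i⁻¹)⁻¹ * j⁻¹ := by rw [hzv]; group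
        _ = ((j * v * j⁻¹) ^ 8)⁻¹ := by rw [hiv, conj_pow]; group
        _ = (j * v * j⁻¹) ^ 5 := by
          rw [inv_eq_iff_mul_eq_one, ← pow_add, hv13]
  · refine ⟨y * u ^ 5, mul_mem hyP (pow_mem hu 5), hv1, keyz 5, ?_⟩
    rw [key 5, (huy.symm.pow_right 5).mul_pow, ← pow_mul]
    have : u ^ (5 * 5) = u⁻¹ := by
      rw [eq_inv_iff_mul_eq_one, ← pow_succ, show 5 * 5 + 1 = 13 * 2 from rfl, pow_mul, hu13, one_pow]
    rw [this]
    exact ((huy.inv_left).pow_right 5).eq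

/-- a basis of `[P, z]` adapted to `i`, `j` -/
structure Bas (x z i j : G) (P : Sylow 13 G) (v m : G) : Prop where
  vP : v ∈ P
  mP : m ∈ P
  v1 : v ≠ 1
  m1 : m ≠ 1
  zv : z * v * z⁻¹ = v⁻¹
  zm : z * m * z⁻¹ = m⁻¹
  iv : i * v * i⁻¹ = v ^ 5
  im : i * m * i⁻¹ = m ^ 8
  jv : j * v * j⁻¹ = m
  jm : j * m * j⁻¹ = v⁻¹

theorem MD.exists_bas [Finite G] (md : MD x z i j h s P O) (ab : ∀ a ∈ P, ∀ b ∈ P, a * b = b * a) :
    ∃ v m : G, Bas x z i j P v m := by
  obtain ⟨v, hvP, hv1, hzv, hiv⟩ := md.exists_eigen ab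
  have hzj := md.zj
  have hzj' : j⁻¹ * z⁻¹ = z⁻¹ * j⁻¹ := by rw [← mul_inv_rev, ← mul_inv_rev, hzj]
  have hmP : j * v * j⁻¹ ∈ P := md.out.norm j md.hyp.jx v hvP
  have hm13 : (j * v * j⁻¹) ^ 13 = 1 := md.out.exp _ hmP
  refine ⟨v, j * v * j⁻¹, hvP, hmP, hv1, ?_, hzv, ?_, hiv, ?_, rfl, ?_⟩
  · intro h1
    apply hv1
    calc v = j⁻¹ * (j * v * j⁻¹) * j := by group
      _ = 1 := by rw [h1]; group
  · calc z * (j * v * j⁻¹) * z⁻¹ = (z * j) * v * (j⁻¹ * z⁻¹) := by group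
      _ = j * (z * v * z⁻¹) * j⁻¹ := by rw [hzj, hzj']; group
      _ = (j * v * j⁻¹)⁻¹ := by rw [hzv]; group
  · have e1 : i * (j * v * j⁻¹) * i⁻¹ = (i * j) * v * (i * j)⁻¹ := by group
    rw [e1, md.hyp.ij]
    calc j * i * z * v * (j * i * z)⁻¹ = j * (i * (z * v * z⁻¹) * i⁻¹) * j⁻¹ := by group
      _ = j * (i * v * i⁻¹)⁻¹ * j⁻¹ := by rw [hzv]; group
      _ = ((j * v * j⁻¹) ^ 5)⁻¹ := by rw [hiv, conj_pow]; group
      _ = (j * v * j⁻¹) ^ 8 := by
        rw [inv_eq_iff_mul_eq_one, ← pow_add, hm13]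
  · calc j * (j * v * j⁻¹) * j⁻¹ = (j * j) * v * (j * j)⁻¹ := by group
      _ = v⁻¹ := by rw [md.hyp.jj, hzv]

/-- coordinates on `P` -/
def En (x v m : G) (a : Fin 3 → ZMod 13) : G := pq x (a 0) * (pq v (a 1) * pq m (a 2))

variable {v m : G}

theorem Bas.en_mem (md : MD x z i j h s P O) (b : Bas x z i j P v m) (a : Fin 3 → ZMod 13) :
    En x v m a ∈ P := mul_mem (pq_mem md.out.xP _) (mul_mem (pq_mem b.vP _) (pq_mem b.mP _))

theorem Bas.en_add (md : MD x z i j h s P O) (ab : ∀ a ∈ P, ∀ b ∈ P, a * b = b * a) (b : Bas x z i j P v m)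
    (a c : Fin 3 → ZMod 13) : En x v m (a + c) = En x v m a * En x v m c := by
  have hv := md.out.exp v b.vP
  have hm := md.out.exp m b.mP
  have hx := md.out.exp x md.out.xP
  have c1 : pq v (a 1) * pq m (a 2) * pq x (c 0) = pq x (c 0) * (pq v (a 1) * pq m (a 2)) :=
    ab _ (mul_mem (pq_mem b.vP _) (pq_mem b.mP _)) _ (pq_mem md.out.xP _)
  have c2 : pq m (a 2) * pq v (c 1) = pq v (c 1) * pq m (a 2) := ab _ (pq_mem b.mP _) _ (pq_mem b.vP _)
  show pq x (a 0 + c 0) * (pq v (a 1 + c 1) * pq m (a 2 + c 2)) = _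
  rw [pq_add hx, pq_add hv, pq_add hm]
  show _ = pq x (a 0) * (pq v (a 1) * pq m (a 2)) * (pq x (c 0) * (pq v (c 1) * pq m (c 2)))
  calc pq x (a 0) * pq x (c 0) * (pq v (a 1) * pq v (c 1) * (pq m (a 2) * pq m (c 2)))
      = pq x (a 0) * pq x (c 0) * (pq v (a 1) * (pq v (c 1) * pq m (a 2)) * pq m (c 2)) := by group
    _ = pq x (a 0) * (pq x (c 0) * (pq v (a 1) * pq m (a 2))) * (pq v (c 1) * pq m (c 2)) := by
        rw [← c2]; group
    _ = _ := by rw [← c1]; group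

theorem en_zero : En x v m 0 = 1 := by
  show pq x 0 * (pq v 0 * pq m 0) = 1
  rw [pq_zero, pq_zero, pq_zero, one_mul, one_mul]

theorem Bas.en_neg (md : MD x z i j h s P O) (ab : ∀ a ∈ P, ∀ b ∈ P, a * b = b * a) (b : Bas x z i j P v m)
    (a : Fin 3 → ZMod 13) : En x v m (-a) = (En x v m a)⁻¹ := by
  rw [eq_inv_iff_mul_eq_one, ← b.en_add md ab, neg_add_cancel, en_zero]

theorem Bas.en_smul (md : MD x z i j h s P O) (ab : ∀ a ∈ P, ∀ b ∈ P, a * b = b * a) (b : Bas x z i j P v m)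
    (a : Fin 3 → ZMod 13) (c : ZMod 13) : En x v m (c • a) = pq (En x v m a) c := by
  have h1 : ∀ n : ℕ, En x v m ((n : ZMod 13) • a) = En x v m a ^ n := by
    intro n
    induction n with
    | zero => rw [Nat.cast_zero, zero_smul, en_zero, pow_zero]
    | succ n ih => rw [Nat.cast_succ, add_smul, one_smul, b.en_add md ab, ih, pow_succ]
  have h2 := h1 c.val
  rw [ZMod.natCast_zmod_val] at h2
  rw [h2]
  rfl

theorem inv_aux {y : G} (hy : y ^ 13 = 1) (a : ZMod 13) : pq y⁻¹ a = pq y (-a) := by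
  rw [pq_neg hy, pq, pq, inv_pow]

theorem conj_mul3 (w a b c : G) : w * (a * (b * c)) * w⁻¹ = (w * a * w⁻¹) * ((w * b * w⁻¹) * (w * c * w⁻¹)) := by
  group

theorem MD.x_ne (md : MD x z i j h s P O) : x ≠ 1 := by
  intro h1
  have h2 := md.hyp.xo
  rw [h1, orderOf_one] at h2
  norm_num at h2

theorem Bas.en_inj (md : MD x z i j h s P O) (ab : ∀ a ∈ P, ∀ b ∈ P, a * b = b * a) (b : Bas x z i j P v m)
    {a : Fin 3 → ZMod 13} (ha : En x v m a = 1) : a = 0 := by
  have hv := md.out.exp v b.vP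
  have hm := md.out.exp m b.mP
  have hx := md.out.exp x md.out.xP
  have hzx : z * x * z⁻¹ = x := by rw [← md.hyp.xz, mul_inv_cancel_right]
  have h1 : pq x (a 0) * (pq v (-a 1) * pq m (-a 2)) = 1 := by
    have h2 : z * En x v m a * z⁻¹ = 1 := by rw [ha]; group
    rwa [En, conj_mul3, conj_pq, conj_pq, conj_pq, hzx, b.zv, b.zm, inv_aux hv, inv_aux hm] at h2
  have h2 : En x v m (a + ![a 0, -a 1, -a 2]) = 1 := by
    rw [b.en_add md ab, ha, one_mul]
    exact h1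
  have h3 : pq x (a 0 + a 0) = 1 := by
    have h4 : En x v m (a + ![a 0, -a 1, -a 2]) = pq x (a 0 + a 0) * (pq v (a 1 + -a 1) * pq m (a 2 + -a 2)) := rfl
    rw [h4, add_neg_cancel, add_neg_cancel, pq_zero, pq_zero, mul_one, mul_one] at h2
    exact h2
  have h5 : a 0 = 0 := by
    have h6 := pq_eq_one hx md.x_ne h3
    have h7 : ∀ c : ZMod 13, c + c = 0 → c = 0 := by decide
    exact h7 _ h6
  have h6 : pq v (a 1) * pq m (a 2) = 1 := by
    rw [En, h5, pq_zero, one_mul] at ha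
    exact ha
  have h7 : pq v (5 * a 1) * pq m (8 * a 2) = 1 := by
    have h8 : i * (pq v (a 1) * pq m (a 2)) * i⁻¹ = 1 := by rw [h6]; group
    have h9 : i * (pq v (a 1) * pq m (a 2)) * i⁻¹ = (i * pq v (a 1) * i⁻¹) * (i * pq m (a 2) * i⁻¹) := by group
    rw [h9, conj_pq, conj_pq, b.iv, b.im, pq_pow hv, pq_pow hm] at h8
    exact h8
  have h8 : En x v m ((5 : ZMod 13) • ![0, a 1, a 2]) = 1 := by
    rw [b.en_smul md ab]
    have h9 : En x v m ![0, a 1, a 2] = 1 := by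
      show pq x 0 * (pq v (a 1) * pq m (a 2)) = 1
      rw [pq_zero, one_mul, h6]
    rw [h9, pq, one_pow]
  have h9 : pq v (5 * a 1) * pq m (5 * a 2) = 1 := by
    have h10 : En x v m ((5 : ZMod 13) • ![0, a 1, a 2]) = pq x (5 * 0) * (pq v (5 * a 1) * pq m (5 * a 2)) := rfl
    rw [h10, mul_zero, pq_zero, one_mul] at h8
    exact h8
  have h10 : pq m (a 2 * 3) = 1 := by
    have e1 : pq m (8 * a 2) = pq m (5 * a 2) := mul_left_cancel (h7.trans h9.symm)
    have e2 : (8 : ZMod 13) * a 2 = 5 * a 2 + a 2 * 3 := by ring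
    rw [e2, pq_add hm] at e1
    exact mul_eq_left.1 e1
  have h11 : a 2 = 0 := by
    have h12 := pq_eq_one hm b.m1 h10
    have h13 : ∀ c : ZMod 13, c * 3 = 0 → c = 0 := by decide
    exact h13 _ h12
  rw [h11, pq_zero, mul_one] at h6
  have h12 := pq_eq_one hv b.v1 h6
  funext k
  fin_cases k
  · exact h5
  · exact h12
  · exact h11

theorem Bas.en_injective (md : MD x z i j h s P O) (ab : ∀ a ∈ P, ∀ b ∈ P, a * b = b * a)
    (b : Bas x z i j P v m) : Function.Injective (En x v m) := by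
  intro a c hac
  have h1 : En x v m (a - c) * En x v m c = En x v m c := by
    rw [← b.en_add md ab, sub_add_cancel, hac]
  exact sub_eq_zero.1 (b.en_inj md ab (mul_eq_right.1 h1))

theorem Bas.en_surj [Finite G] (md : MD x z i j h s P O) (ab : ∀ a ∈ P, ∀ b ∈ P, a * b = b * a)
    (b : Bas x z i j P v m) {u : G} (hu : u ∈ P) : ∃ a, En x v m a = u := by
  let f : (Fin 3 → ZMod 13) → (P : Subgroup G) := fun a => ⟨En x v m a, b.en_mem md a⟩
  have hf : Function.Injective f := fun a c hac => b.en_injective md ab (congrArg Subtype.val hac)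
  have hb : Function.Bijective f := by
    rw [Nat.bijective_iff_injective_and_card]
    refine ⟨hf, ?_⟩
    have h4 : Nat.card ((P : Subgroup G)) = 13 ^ 3 := md.out.card
    rw [h4, Nat.card_fun, Nat.card_zmod, Nat.card_eq_fintype_card, Fintype.card_fin]
  obtain ⟨a, ha⟩ := hb.2 ⟨u, hu⟩
  exact ⟨a, congrArg Subtype.val ha⟩

/-! ### Matrices -/

abbrev Mat := Matrix (Fin 3) (Fin 3) (ZMod 13)

/-- `w` acts on `P` by the matrix `A` -/
def Act (x v m w : G) (A : Mat) : Prop := ∀ a : Fin 3 → ZMod 13, w * En x v m a * w⁻¹ = En x v m (A.mulVec a)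

theorem Act.one : Act x v m 1 1 := fun a => by rw [Matrix.one_mulVec]; group

theorem Act.mul {w y : G} {A B : Mat} (hA : Act x v m w A) (hB : Act x v m y B) : Act x v m (w * y) (A * B) := by
  intro a
  calc w * y * En x v m a * (w * y)⁻¹ = w * (y * En x v m a * y⁻¹) * w⁻¹ := by group
    _ = En x v m ((A * B).mulVec a) := by rw [hB, hA, Matrix.mulVec_mulVec]

theorem Act.pow {w : G} {A : Mat} (hA : Act x v m w A) (n : ℕ) : Act x v m (w ^ n) (A ^ n) := by
  induction n with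
  | zero => rw [pow_zero, pow_zero]; exact Act.one
  | succ n ih => rw [pow_succ, pow_succ]; exact ih.mul hA

theorem Act.list {ι : Type*} {f : ι → G} {F : ι → Mat} (hf : ∀ k, Act x v m (f k) (F k)) (l : List ι) :
    Act x v m (l.map f).prod (l.map F).prod := by
  induction l with
  | nil => exact Act.one
  | cons k l ih => rw [List.map_cons, List.map_cons, List.prod_cons, List.prod_cons]; exact (hf k).mul ih

theorem Act.unique (md : MD x z i j h s P O) (ab : ∀ a ∈ P, ∀ b ∈ P, a * b = b * a) (b : Bas x z i j P v m)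
    {w : G} {A B : Mat} (hA : Act x v m w A) (hB : Act x v m w B) : A = B := by
  have h1 : ∀ a, A.mulVec a = B.mulVec a := fun a => b.en_injective md ab (by rw [← hA, ← hB])
  ext r c
  have h2 := congrFun (h1 (Pi.single c 1)) r
  rwa [Matrix.mulVec_single_one, Matrix.mulVec_single_one] at h2

theorem Act.of_basis (md : MD x z i j h s P O) (ab : ∀ a ∈ P, ∀ b ∈ P, a * b = b * a) (b : Bas x z i j P v m)
    {w : G} {A : Mat} (h0 : w * x * w⁻¹ = En x v m (A.col 0)) (h1 : w * v * w⁻¹ = En x v m (A.col 1))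
    (h2 : w * m * w⁻¹ = En x v m (A.col 2)) : Act x v m w A := by
  intro a
  rw [En, conj_mul3, conj_pq, conj_pq, conj_pq, h0, h1, h2, ← b.en_smul md ab, ← b.en_smul md ab,
    ← b.en_smul md ab, ← b.en_add md ab, ← b.en_add md ab]
  congr 1
  funext r
  simp only [Matrix.mulVec, dotProduct, Fin.sum_univ_three, Pi.add_apply, Pi.smul_apply, smul_eq_mul,
    Matrix.col_apply]
  ring

theorem Act.exists_mat [Finite G] (md : MD x z i j h s P O) (ab : ∀ a ∈ P, ∀ b ∈ P, a * b = b * a)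
    (b : Bas x z i j P v m) {w : G} (hw : ∀ u ∈ P, w * u * w⁻¹ ∈ P) : ∃ A, Act x v m w A := by
  obtain ⟨a0, h0⟩ := b.en_surj md ab (hw x md.out.xP)
  obtain ⟨a1, h1⟩ := b.en_surj md ab (hw v b.vP)
  obtain ⟨a2, h2⟩ := b.en_surj md ab (hw m b.mP)
  refine ⟨Matrix.of fun r c => ![a0, a1, a2] c r, Act.of_basis md ab b ?_ ?_ ?_⟩
  · rw [← h0]; rfl
  · rw [← h1]; rfl
  · rw [← h2]; rfl

def Im : Mat := !![1, 0, 0; 0, 5, 0; 0, 0, 8]
def Jm : Mat := !![1, 0, 0; 0, 0, -1; 0, 1, 0]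
def Zm : Mat := !![1, 0, 0; 0, -1, 0; 0, 0, -1]
def Hm (n : ZMod 13) : Mat := !![1, 0, 0; 0, n * 10, n * 3; 0, n * 2, n * 2]
def Sm (n : ZMod 13) : Mat := !![-1, 0, 0; 0, n, 0; 0, 0, n]
def Tm : Mat := !![-1, 0, 0; 0, 1, 0; 0, 0, -1]
def Um (a b c d : ZMod 13) : Mat := !![-1, 0, 0; 0, a, b; 0, c, d]
def Jp (k : ZMod 13) : Mat := !![0, 0, -k⁻¹; 0, 1, 0; k, 0, 0]

theorem Bas.act_i (md : MD x z i j h s P O) (ab : ∀ a ∈ P, ∀ b ∈ P, a * b = b * a) (b : Bas x z i j P v m) :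
    Act x v m i Im := by
  refine Act.of_basis md ab b ?_ ?_ ?_
  · show i * x * i⁻¹ = pq x 1 * (pq v 0 * pq m 0)
    rw [pq_zero, pq_zero, mul_one, mul_one, pq_one, md.hyp.ix, mul_inv_cancel_right]
  · show i * v * i⁻¹ = pq x 0 * (pq v 5 * pq m 0)
    rw [pq_zero, pq_zero, mul_one, one_mul, b.iv]
    rfl
  · show i * m * i⁻¹ = pq x 0 * (pq v 0 * pq m 8)
    rw [pq_zero, pq_zero, one_mul, one_mul, b.im]
    rfl

theorem Bas.act_j (md : MD x z i j h s P O) (ab : ∀ a ∈ P, ∀ b ∈ P, a * b = b * a) (b : Bas x z i j P v m) :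
    Act x v m j Jm := by
  have hv := md.out.exp v b.vP
  refine Act.of_basis md ab b ?_ ?_ ?_
  · show j * x * j⁻¹ = pq x 1 * (pq v 0 * pq m 0)
    rw [pq_zero, pq_zero, mul_one, mul_one, pq_one, md.hyp.jx, mul_inv_cancel_right]
  · show j * v * j⁻¹ = pq x 0 * (pq v 0 * pq m 1)
    rw [pq_zero, pq_zero, one_mul, one_mul, b.jv, pq_one]
  · show j * m * j⁻¹ = pq x 0 * (pq v (-1) * pq m 0)
    rw [pq_zero, pq_zero, mul_one, one_mul, b.jm, pq_neg hv, pq_one]

theorem Bas.act_z (md : MD x z i j h s P O) (ab : ∀ a ∈ P, ∀ b ∈ P, a * b = b * a) (b : Bas x z i j P v m) :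
    Act x v m z Zm := by
  have hv := md.out.exp v b.vP
  have hm := md.out.exp m b.mP
  refine Act.of_basis md ab b ?_ ?_ ?_
  · show z * x * z⁻¹ = pq x 1 * (pq v 0 * pq m 0)
    rw [pq_zero, pq_zero, mul_one, mul_one, pq_one, ← md.hyp.xz, mul_inv_cancel_right]
  · show z * v * z⁻¹ = pq x 0 * (pq v (-1) * pq m 0)
    rw [pq_zero, pq_zero, mul_one, one_mul, b.zv, pq_neg hv, pq_one]
  · show z * m * z⁻¹ = pq x 0 * (pq v 0 * pq m (-1))
    rw [pq_zero, pq_zero, one_mul, one_mul, b.zm, pq_neg hm, pq_one]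

/-- matrices commuting with `Zm` -/
theorem block_of_comm {A : Mat} (hA : A * Zm = Zm * A) : A 0 1 = 0 ∧ A 0 2 = 0 ∧ A 1 0 = 0 ∧ A 2 0 = 0 := by
  have hd : ∀ a : ZMod 13, -a = a → a = 0 := by decide
  have h1 := congrFun (congrFun hA 0) 1
  have h2 := congrFun (congrFun hA 0) 2
  have h3 := congrFun (congrFun hA 1) 0
  have h4 := congrFun (congrFun hA 2) 0
  simp [Matrix.mul_apply, Fin.sum_univ_three, Zm] at h1 h2 h3 h4
  exact ⟨hd _ h1, hd _ h2, hd _ h3.symm, hd _ h4.symm⟩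

theorem pow_norm [Finite G] {w : G} {Q : Subgroup G} (hw : ∀ u ∈ Q, w * u * w⁻¹ ∈ Q) (n : ℕ) :
    ∀ u ∈ Q, w ^ n * u * (w ^ n)⁻¹ ∈ Q := by
  induction n with
  | zero => intro u hu; simpa using hu
  | succ n ih =>
    intro u hu
    have h1 : w ^ (n + 1) * u * (w ^ (n + 1))⁻¹ = w ^ n * (w * u * w⁻¹) * (w ^ n)⁻¹ := by
      rw [pow_succ]; group
    rw [h1]
    exact ih _ (hw u hu)

theorem mem_normalizer_of_le [Finite G] {w : G} {Q : Subgroup G} (hw : ∀ u ∈ Q, w * u * w⁻¹ ∈ Q) :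
    w ∈ normalizer (Q : Set G) := by
  rw [mem_normalizer_iff]
  intro u
  refine ⟨fun hu => hw u hu, fun hu => ?_⟩
  have h1 : w ^ (orderOf w - 1) * w = 1 := by
    rw [← pow_succ, Nat.sub_add_cancel (orderOf_pos w), pow_orderOf_eq_one]
  have h2 : w ^ (orderOf w - 1) = w⁻¹ := eq_inv_of_mul_eq_one_left h1
  have h3 := pow_norm hw (orderOf w - 1) _ hu
  rw [h2] at h3
  have h4 : w⁻¹ * (w * u * w⁻¹) * w⁻¹⁻¹ = u := by group
  rwa [h4] at h3

/-- no element of the normalizer of `P` induces an automorphism of order 13 or 61 -/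
theorem MD.no_order [Finite G] (md : MD x z i j h s P O) (ab : ∀ a ∈ P, ∀ b ∈ P, a * b = b * a)
    (b : Bas x z i j P v m) {w : G} {A : Mat} (hw : ∀ u ∈ P, w * u * w⁻¹ ∈ P) (hA : Act x v m w A) {q k : ℕ}
    (hq : q = 13 ∨ q = 61) (h1 : A ^ (q * k) = 1) : A ^ k = 1 := by
  by_contra hne
  have hqp : q.Prime := by rcases hq with rfl | rfl <;> norm_num
  have hB : orderOf (A ^ k) = q := by
    have : Fact q.Prime := ⟨hqp⟩
    exact orderOf_eq_prime (by rw [← pow_mul, mul_comm]; exact h1) hne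
  have hy := hA.pow k
  obtain ⟨y, hyk⟩ : ∃ y, y = w ^ k := ⟨_, rfl⟩
  obtain ⟨B, hBk⟩ : ∃ B, B = A ^ k := ⟨_, rfl⟩
  rw [← hyk, ← hBk] at hy
  rw [← hBk] at hB
  have hyP : ∀ u ∈ P, y * u * y⁻¹ ∈ P := by rw [hyk]; exact pow_norm hw k
  have hdvd : ∀ n : ℕ, y ^ n = 1 → q ∣ n := by
    intro n hn
    have h2 := hy.pow n
    rw [hn] at h2
    have h3 := Act.unique md ab b h2 Act.one
    rw [← hB]
    exact orderOf_dvd_of_pow_eq_one h3
  rcases hq with rfl | rfl
  · -- `13`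
    have : Fact (Nat.Prime 13) := ⟨by norm_num⟩
    obtain ⟨e, n, hn, hen⟩ := Nat.exists_eq_pow_mul_and_not_dvd (orderOf_pos y).ne' 13 (by norm_num)
    have h2 : (y ^ n) ^ 13 ^ e = 1 := by
      rw [← pow_mul, mul_comm, ← hen, pow_orderOf_eq_one]
    have h3 : IsPGroup 13 (zpowers (y ^ n)) := by
      refine IsPGroup.iff_card.2 ?_
      rw [Nat.card_zpowers]
      obtain ⟨l, -, hl⟩ := (Nat.dvd_prime_pow (by norm_num : Nat.Prime 13)).1 (orderOf_dvd_of_pow_eq_one h2)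
      exact ⟨l, hl⟩
    have h4 : zpowers (y ^ n) ≤ normalizer ((P : Subgroup G) : Set G) := by
      rw [zpowers_le]
      exact mem_normalizer_of_le (pow_norm hyP n)
    have h5 : IsPGroup 13 ↥(zpowers (y ^ n) ⊔ (P : Subgroup G)) := h3.to_sup_of_normal_right' P.2 h4
    have h6 : zpowers (y ^ n) ⊔ (P : Subgroup G) = P := P.3 h5 le_sup_right
    have h7 : y ^ n ∈ P := by
      have h8 : y ^ n ∈ zpowers (y ^ n) ⊔ (P : Subgroup G) :=
        (le_sup_left : zpowers (y ^ n) ≤ _) (mem_zpowers _)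
      rw [h6] at h8
      exact h8
    have h8 : Act x v m (y ^ n) 1 := by
      intro a
      rw [Matrix.one_mulVec, ab _ h7 _ (b.en_mem md a), mul_inv_cancel_right]
    have h9 := Act.unique md ab b (hy.pow n) h8
    have h10 : 13 ∣ n := by
      rw [← hB]
      exact orderOf_dvd_of_pow_eq_one h9
    exact hn h10
  · -- `61`
    exact md.n61 ((hdvd _ (pow_orderOf_eq_one y)).trans (orderOf_dvd_natCard y))

theorem MD.hz (md : MD x z i j h s P O) : h * z = z * h := by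
  have h1 : h * z * h⁻¹ = z := by
    calc h * z * h⁻¹ = (h * i * h⁻¹) * (h * i * h⁻¹) := by rw [← md.hyp.ii]; group
      _ = z := by rw [md.hi, md.hyp.jj]
  exact mul_inv_eq_iff_eq_mul.1 h1

/-- first column of the matrix of an element commuting with `x` -/
theorem col_of_comm (md : MD x z i j h s P O) (ab : ∀ a ∈ P, ∀ b ∈ P, a * b = b * a) (b : Bas x z i j P v m)
    {w : G} {A : Mat} (hA : Act x v m w A) {e : ZMod 13} (hw : w * x * w⁻¹ = pq x e) :
    A 0 0 = e ∧ A 1 0 = 0 ∧ A 2 0 = 0 := by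
  have h1 := hA ![1, 0, 0]
  have h2 : En x v m ![1, 0, 0] = x := by
    show pq x 1 * (pq v 0 * pq m 0) = x
    rw [pq_zero, pq_zero, mul_one, mul_one, pq_one]
  have h3 : pq x e = En x v m ![e, 0, 0] := by
    show pq x e = pq x e * (pq v 0 * pq m 0)
    rw [pq_zero, pq_zero, mul_one, mul_one]
  rw [h2, hw, h3] at h1
  have h4 := b.en_injective md ab h1
  have h5 := congrFun h4 0
  have h6 := congrFun h4 1
  have h7 := congrFun h4 2
  simp [Matrix.mulVec, dotProduct, Fin.sum_univ_three] at h5 h6 h7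
  exact ⟨h5.symm, h6.symm, h7.symm⟩

theorem Bas.act_s [Finite G] (md : MD x z i j h s P O) (ab : ∀ a ∈ P, ∀ b ∈ P, a * b = b * a)
    (b : Bas x z i j P v m) : Act x v m s (Sm 5) ∨ Act x v m s (Sm 8) := by
  obtain ⟨A, hA⟩ := Act.exists_mat md ab b (w := s) (md.out.norm_inv md.sx)
  have hi := b.act_i md ab
  have hj := b.act_j md ab
  have hz := b.act_z md ab
  have e1 : A * Im = Im * A := by
    have h1 := hA.mul hi
    have h2 := hi.mul hA
    rw [md.si] at h1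
    exact Act.unique md ab b h1 h2
  have e2 : A * Jm = Jm * A := by
    have h1 := hA.mul hj
    have h2 := hj.mul hA
    rw [md.sj] at h1
    exact Act.unique md ab b h1 h2
  have e3 : A * Zm = Zm * A := by
    have h1 := hA.mul hz
    have h2 := hz.mul hA
    rw [← md.zs] at h1
    exact Act.unique md ab b h1 h2
  have e4 : A * A = Zm := by
    have h1 := hA.mul hA
    rw [md.ss] at h1
    exact Act.unique md ab b h1 hz
  obtain ⟨b01, b02, b10, b20⟩ := block_of_comm e3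
  have hx13 := md.out.exp x md.out.xP
  obtain ⟨b00, -, -⟩ := col_of_comm md ab b hA (e := -1) (by rw [md.sx, pq_neg hx13, pq_one])
  have hd : ∀ a : ZMod 13, a * 8 = 5 * a → a = 0 := by decide
  have hd' : ∀ a : ZMod 13, a * 5 = 8 * a → a = 0 := by decide
  have b12 : A 1 2 = 0 := by
    have h1 := congrFun (congrFun e1 1) 2
    simp [Matrix.mul_apply, Fin.sum_univ_three, Im] at h1
    exact hd _ h1
  have b21 : A 2 1 = 0 := by
    have h1 := congrFun (congrFun e1 2) 1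
    simp [Matrix.mul_apply, Fin.sum_univ_three, Im] at h1
    exact hd' _ h1
  have b11 : A 1 1 = A 2 2 := by
    have h1 := congrFun (congrFun e2 2) 1
    simp [Matrix.mul_apply, Fin.sum_univ_three, Jm] at h1
    exact h1.symm
  have b22 : A 2 2 * A 2 2 = -1 := by
    have h1 := congrFun (congrFun e4 2) 2
    simp [Matrix.mul_apply, Fin.sum_univ_three, Zm, b20, b21] at h1
    exact h1
  have hd2 : ∀ a : ZMod 13, a * a = -1 → a = 5 ∨ a = 8 := by decide
  have hS : A = Sm (A 2 2) := by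
    ext r c
    fin_cases r <;> fin_cases c <;> simp [Sm, b00, b01, b02, b10, b20, b11, b12, b21]
  rw [hS] at hA
  rcases hd2 _ b22 with h1 | h1 <;> rw [h1] at hA
  · exact Or.inl hA
  · exact Or.inr hA

theorem hm_cube : ∀ n : ZMod 13, Hm n * Hm n * Hm n = 1 → n ^ 3 = 1 := by decide +kernel

theorem Bas.act_h [Finite G] (md : MD x z i j h s P O) (ab : ∀ a ∈ P, ∀ b ∈ P, a * b = b * a)
    (b : Bas x z i j P v m) : ∃ n : ZMod 13, n ^ 3 = 1 ∧ Act x v m h (Hm n) := by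
  obtain ⟨A, hA⟩ := Act.exists_mat md ab b (w := h) (md.out.norm h md.hx)
  have hi := b.act_i md ab
  have hj := b.act_j md ab
  have hz := b.act_z md ab
  have e1 : A * Im = Jm * A := by
    have h1 := hA.mul hi
    have h2 := hj.mul hA
    rw [show h * i = j * h from mul_inv_eq_iff_eq_mul.1 md.hi] at h1
    exact Act.unique md ab b h1 h2
  have e2 : A * Jm = Im * Jm * A := by
    have h1 := hA.mul hj
    have h2 := (hi.mul hj).mul hA
    rw [show h * j = i * j * h from mul_inv_eq_iff_eq_mul.1 md.hj] at h1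
    exact Act.unique md ab b h1 h2
  have e3 : A * Zm = Zm * A := by
    have h1 := hA.mul hz
    have h2 := hz.mul hA
    rw [md.hz] at h1
    exact Act.unique md ab b h1 h2
  have e4 : A * A * A = 1 := by
    have h1 := (hA.mul hA).mul hA
    rw [md.h3] at h1
    exact Act.unique md ab b h1 Act.one
  obtain ⟨b01, b02, b10, b20⟩ := block_of_comm e3
  obtain ⟨b00, -, -⟩ := col_of_comm md ab b hA (e := 1) (by rw [md.hx, mul_inv_cancel_right, pq_one])
  have c1 := congrFun (congrFun e1 1) 1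
  have c2 := congrFun (congrFun e1 1) 2
  have c3 := congrFun (congrFun e2 1) 1
  simp [Matrix.mul_apply, Fin.sum_univ_three, Im, Jm] at c1 c2 c3
  -- `c1 : A 1 1 * 5 = - A 2 1`, `c2 : A 1 2 * 8 = - A 2 2`
  have hd : ∀ a b c d : ZMod 13, a * 5 = -c → b * 8 = -d → b = -(5 * c) →
      a = (4 * a) * 10 ∧ b = (4 * a) * 3 ∧ c = (4 * a) * 2 ∧ d = (4 * a) * 2 := by
    intro a b c d h1 h2 h3
    have h4 : c = -(a * 5) := by rw [h1, neg_neg]
    have h5 : d = -(b * 8) := by rw [h2, neg_neg]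
    rw [h5, h3, h4]
    have h6 : ∀ a : ZMod 13, a = 4 * a * 10 ∧ -(5 * -(a * 5)) = 4 * a * 3 ∧ -(a * 5) = 4 * a * 2 ∧
        -(-(5 * -(a * 5)) * 8) = 4 * a * 2 := by decide
    exact h6 a
  obtain ⟨d1, d2, d3, d4⟩ := hd _ _ _ _ c1 c2 c3
  have hH : A = Hm (4 * A 1 1) := by
    ext r c
    fin_cases r <;> fin_cases c
    · exact b00
    · exact b01
    · exact b02
    · exact b10
    · exact d1
    · exact d2
    · exact b20
    · exact d3
    · exact d4
  refine ⟨4 * A 1 1, ?_, ?_⟩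
  · apply hm_cube
    rw [← hH]
    exact e4
  · rw [← hH]
    exact hA

/-- an element of `G` acting on `P` through a matrix normalises `P` -/
theorem Act.mem [Finite G] (md : MD x z i j h s P O) (ab : ∀ a ∈ P, ∀ b ∈ P, a * b = b * a) (b : Bas x z i j P v m)
    {w : G} {A : Mat} (hA : Act x v m w A) : ∀ u ∈ P, w * u * w⁻¹ ∈ P := by
  intro u hu
  obtain ⟨a, rfl⟩ := b.en_surj md ab hu
  rw [hA]
  exact b.en_mem md _

theorem Act.norm [Finite G] (md : MD x z i j h s P O) (ab : ∀ a ∈ P, ∀ b ∈ P, a * b = b * a)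
    (b : Bas x z i j P v m) {w : G} {A : Mat} (hA : Act x v m w A) : w ∈ normalizer ((P : Subgroup G) : Set G) :=
  mem_normalizer_of_le (Q := (P : Subgroup G)) (hA.mem md ab b)

theorem Act.of_norm [Finite G] (md : MD x z i j h s P O) (ab : ∀ a ∈ P, ∀ b ∈ P, a * b = b * a)
    (b : Bas x z i j P v m) {w : G} (hw : w ∈ normalizer ((P : Subgroup G) : Set G)) : ∃ A, Act x v m w A :=
  Act.exists_mat md ab b fun u hu => (mem_normalizer_iff.1 hw u).1 hu

theorem Act.inv [Finite G] (md : MD x z i j h s P O) (ab : ∀ a ∈ P, ∀ b ∈ P, a * b = b * a)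
    (b : Bas x z i j P v m) {w : G} {A : Mat} (hA : Act x v m w A) : ∃ B : Mat, A * B = 1 := by
  obtain ⟨B, hB⟩ := Act.of_norm md ab b (inv_mem (hA.norm md ab b))
  refine ⟨B, ?_⟩
  have h1 := hA.mul hB
  rw [mul_inv_cancel] at h1
  exact Act.unique md ab b h1 Act.one

/-- an element moving a nontrivial element of `P` into `⟨x⟩` normalises `P` -/
theorem MD.move [Finite G] (md : MD x z i j h s P O) (ab : ∀ a ∈ P, ∀ b ∈ P, a * b = b * a) {a c : G} (ha : a ∈ P)
    (ha1 : a ≠ 1) (hc : c * a * c⁻¹ ∈ zpowers x) : x ∈ zpowers (c * a * c⁻¹) ∧ ∀ u ∈ P, c * u * c⁻¹ ∈ P := by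
  have h2 : x ∈ zpowers (c * a * c⁻¹) := by
    have h3 : zpowers (c * a * c⁻¹) = zpowers x := by
      refine eq_of_le_of_card_ge ((zpowers_le).2 hc) ?_
      rw [Nat.card_zpowers, Nat.card_zpowers, md.hyp.xo]
      have h4 := Subgroup.orderOf_dvd_natCard _ hc
      rw [Nat.card_zpowers, md.hyp.xo] at h4
      rcases (Nat.dvd_prime (by norm_num : Nat.Prime 13)).1 h4 with h5 | h5
      · exfalso
        rw [orderOf_eq_one_iff] at h5
        apply ha1
        calc a = c⁻¹ * (c * a * c⁻¹) * c := by group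
          _ = 1 := by rw [h5]; group
      · exact h5.ge
    rw [h3]
    exact mem_zpowers x
  refine ⟨h2, fun u hu => ?_⟩
  have h1 : (P : Subgroup G).map (MulAut.conj c).toMonoidHom ≤ P := by
    refine md.out.le (P.2.map _) ?_
    rintro _ ⟨v, hv, rfl⟩
    show (c * v * c⁻¹) * x = x * (c * v * c⁻¹)
    refine comm_zpow ?_ h2
    calc (c * v * c⁻¹) * (c * a * c⁻¹) = c * (v * a) * c⁻¹ := by group
      _ = c * (a * v) * c⁻¹ := by rw [ab v hv a ha]
      _ = (c * a * c⁻¹) * (c * v * c⁻¹) := by group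
  exact h1 ⟨u, hu, rfl⟩

/-- the first matrix computation (helper775) -/
def Step1 : Prop := ∀ n a b c d : ZMod 13, n ^ 3 = 1 → Um a b c d * Um a b c d = 1 → ¬ (b = 0 ∧ c = 0 ∧ a = d) →
  (∃ w : List (Fin 3), (w.map ![Im, Jm, Hm n]).prod * Um a b c d = Tm * (w.map ![Im, Jm, Hm n]).prod) ∨
  (∃ (w : List (Fin 4)) (k : ℕ), (w.map ![Im, Jm, Hm n, Um a b c d]).prod ^ (13 * k) = 1 ∧
    (w.map ![Im, Jm, Hm n, Um a b c d]).prod ^ k ≠ 1)

/-- the second matrix computation (helper775) -/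
def Step3 : Prop := ∀ n k : ZMod 13, n ^ 3 = 1 → k ≠ 0 →
  ∃ (w : List (Fin 4)) (r : ℕ), (w.map ![Im, Jm, Hm n, Jp k]).prod ^ (61 * r) = 1 ∧
    (w.map ![Im, Jm, Hm n, Jp k]).prod ^ r ≠ 1

/-- matrices moving `Tm` to `Zm` and `Zm` to `Tm` -/
theorem shape_of {A : Mat} (h1 : A * Tm = Zm * A) (h2 : A * Zm = Tm * A) :
    A 0 0 = 0 ∧ A 0 2 = 0 ∧ A 1 1 = 0 ∧ A 1 2 = 0 ∧ A 2 0 = 0 ∧ A 2 1 = 0 := by
  have hd : ∀ a : ZMod 13, -a = a → a = 0 := by decide
  have a1 := congrFun (congrFun h1 0) 0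
  have a2 := congrFun (congrFun h1 0) 2
  have a3 := congrFun (congrFun h1 1) 1
  have a4 := congrFun (congrFun h2 1) 2
  have a5 := congrFun (congrFun h2 2) 0
  have a6 := congrFun (congrFun h1 2) 1
  simp [Matrix.mul_apply, Fin.sum_univ_three, Zm, Tm] at a1 a2 a3 a4 a5 a6
  exact ⟨hd _ a1, hd _ a2, hd _ a3.symm, hd _ a4, hd _ a5.symm, hd _ a6.symm⟩

theorem tm_eq : Sm 8 * Im = Tm := by decide

theorem jp_of {A B : Mat} (h1 : A 0 0 = 0 ∧ A 0 2 = 0 ∧ A 1 1 = 0 ∧ A 1 2 = 0 ∧ A 2 0 = 0 ∧ A 2 1 = 0)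
    (hd : A.det ≠ 0) (h2 : B * A = A * Jm) : ∃ k : ZMod 13, k ≠ 0 ∧ B = Jp k := by
  have : Fact (Nat.Prime 13) := ⟨by norm_num⟩
  obtain ⟨b1, b2, b3, b4, b5, b6⟩ := h1
  have hd' : A 0 1 * A 1 0 * A 2 2 ≠ 0 := by
    intro h3
    apply hd
    rw [Matrix.det_fin_three, b1, b2, b3, b4, b5, b6]
    linear_combination -h3
  have c1 : A 0 1 ≠ 0 := fun h3 => hd' (by rw [h3]; ring)
  have c2 : A 1 0 ≠ 0 := fun h3 => hd' (by rw [h3]; ring)
  have c3 : A 2 2 ≠ 0 := fun h3 => hd' (by rw [h3]; ring)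
  have e : ∀ r c, (B * A) r c = (A * Jm) r c := fun r c => by rw [h2]
  refine ⟨A 2 2 / A 0 1, div_ne_zero c3 c1, ?_⟩
  have e00 := e 0 0
  have e01 := e 0 1
  have e02 := e 0 2
  have e10 := e 1 0
  have e11 := e 1 1
  have e12 := e 1 2
  have e20 := e 2 0
  have e21 := e 2 1
  have e22 := e 2 2
  simp [Matrix.mul_apply, Fin.sum_univ_three, Jm, b1, b2, b3, b4, b5, b6, c1, c2, c3]
    at e00 e01 e02 e10 e11 e12 e20 e21 e22
  have f1 : B 2 0 = A 2 2 / A 0 1 := by rw [eq_div_iff c1, e21]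
  have f2 : B 0 2 = -(A 2 2 / A 0 1)⁻¹ := by rw [inv_div, ← neg_div, eq_div_iff c3, e02]
  ext r c
  fin_cases r <;> fin_cases c
  · exact e01
  · exact e00
  · exact f2
  · exact e11
  · exact e10
  · exact e12
  · exact f1
  · exact e20
  · exact e22

/-- the contradiction, when `s` acts by `Sm 8` -/
theorem MD.false_aux [Finite G] (H1 : Step1) (H3 : Step3) (md : MD x z i j h s P O)
    (ab : ∀ a ∈ P, ∀ b ∈ P, a * b = b * a) (b : Bas x z i j P v m) (hs : Act x v m s (Sm 8)) : False := by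
  have hi := b.act_i md ab
  have hj := b.act_j md ab
  have hz := b.act_z md ab
  obtain ⟨n, hn, hh⟩ := b.act_h md ab
  obtain ⟨t, ht⟩ : ∃ t, t = s * i := ⟨_, rfl⟩
  have hT : Act x v m t Tm := by
    rw [ht, ← tm_eq]
    exact hs.mul hi
  have htt : t * t = 1 := by
    rw [ht]
    calc s * i * (s * i) = s * (i * s) * i := by group
      _ = (s * s) * (i * i) := by rw [← md.si]; group
      _ = 1 := by rw [md.ss, md.hyp.ii, md.hyp.zz]
  have htx : t * x * t⁻¹ = x⁻¹ := by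
    rw [ht]
    calc s * i * x * (s * i)⁻¹ = s * (i * x * i⁻¹) * s⁻¹ := by group
      _ = x⁻¹ := by rw [md.hyp.ix, mul_inv_cancel_right, md.sx]
  have htz : t * z = z * t := by
    rw [ht]
    calc s * i * z = s * (i * z) := by group
      _ = (s * z) * i := by rw [← md.zi]; group
      _ = z * (s * i) := by rw [← md.zs]; group
  have hve : En x v m ![0, 1, 0] = v := by
    show pq x 0 * (pq v 1 * pq m 0) = v
    rw [pq_zero, pq_zero, one_mul, mul_one, pq_one]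
  have htv : t * v = v * t := by
    have h1 := hT ![0, 1, 0]
    have h2 : Tm.mulVec ![0, 1, 0] = ![0, 1, 0] := by decide
    rw [h2, hve] at h1
    exact mul_inv_eq_iff_eq_mul.1 h1
  obtain ⟨g, hgt, hgv⟩ := md.conj v b.vP b.v1 t htt htx htv
  obtain ⟨hxg, hgP⟩ := md.move ab b.vP b.v1 hgv
  obtain ⟨u, hu⟩ : ∃ u, u = g * z * g⁻¹ := ⟨_, rfl⟩
  have huu : u * u = 1 := by
    rw [hu]
    calc g * z * g⁻¹ * (g * z * g⁻¹) = g * (z * z) * g⁻¹ := by group
      _ = 1 := by rw [md.hyp.zz]; group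
  have huz : u * z = z * u := by
    rw [hu]
    calc g * z * g⁻¹ * z = g * z * g⁻¹ * (g * t * g⁻¹) := by rw [hgt]
      _ = g * (z * t) * g⁻¹ := by group
      _ = g * (t * z) * g⁻¹ := by rw [htz]
      _ = g * t * g⁻¹ * (g * z * g⁻¹) := by group
      _ = z * (g * z * g⁻¹) := by rw [hgt]
  have hux : u * x * u⁻¹ = x⁻¹ := by
    obtain ⟨k, hk⟩ := hxg
    have hk' : (g * v * g⁻¹) ^ k = x := hk
    have h1 : u * (g * v * g⁻¹) * u⁻¹ = (g * v * g⁻¹)⁻¹ := by
      rw [hu]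
      calc g * z * g⁻¹ * (g * v * g⁻¹) * (g * z * g⁻¹)⁻¹ = g * (z * v * z⁻¹) * g⁻¹ := by group
        _ = (g * v * g⁻¹)⁻¹ := by rw [b.zv]; group
    rw [← hk', ← conj_zpow, h1, inv_zpow]
  obtain ⟨A, hA⟩ := Act.exists_mat md ab b hgP
  obtain ⟨U, hU⟩ := Act.exists_mat md ab b (md.out.norm_inv hux)
  obtain ⟨A', hAA⟩ := hA.inv md ab b
  have eUA : U * A = A * Zm := by
    have h1 := hU.mul hA
    have h2 := hA.mul hz
    rw [show u * g = g * z by rw [hu]; group] at h1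
    exact Act.unique md ab b h1 h2
  have eUZ : U * Zm = Zm * U := by
    have h1 := hU.mul hz
    have h2 := hz.mul hU
    rw [huz] at h1
    exact Act.unique md ab b h1 h2
  have eUU : U * U = 1 := by
    have h1 := hU.mul hU
    rw [huu] at h1
    exact Act.unique md ab b h1 Act.one
  have hx13 := md.out.exp x md.out.xP
  obtain ⟨b00, -, -⟩ := col_of_comm md ab b hU (e := -1) (by rw [hux, pq_neg hx13, pq_one])
  obtain ⟨b01, b02, b10, b20⟩ := block_of_comm eUZ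
  have hUm : U = Um (U 1 1) (U 1 2) (U 2 1) (U 2 2) := by
    ext r c
    fin_cases r <;> fin_cases c <;> simp [Um, b00, b01, b02, b10, b20]
  have htr : U.trace = -1 := by
    have h1 : U = A * Zm * A' := by
      rw [← eUA, mul_assoc, hAA, mul_one]
    rw [h1, Matrix.trace_mul_comm, ← mul_assoc, mul_eq_one_comm.1 hAA, one_mul]
    decide
  have hns : ¬ (U 1 2 = 0 ∧ U 2 1 = 0 ∧ U 1 1 = U 2 2) := by
    rintro ⟨h1, h2, h3⟩
    rw [Matrix.trace_fin_three, b00, h3] at htr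
    have h4 : ∀ a : ZMod 13, -1 + a + a = -1 → a = 0 := by decide
    have h5 := h4 _ htr
    have h6 := congrFun (congrFun eUU 2) 2
    simp [Matrix.mul_apply, Fin.sum_univ_three, b20, h2, h5] at h6
    exact absurd h6 (by decide)
  obtain ⟨a1, a2, a3, a4, rfl, hns'⟩ : ∃ a1 a2 a3 a4, U = Um a1 a2 a3 a4 ∧ ¬ (a2 = 0 ∧ a3 = 0 ∧ a1 = a4) :=
    ⟨_, _, _, _, hUm, hns⟩
  have h3 : ∀ k : Fin 3, Act x v m ((![i, j, h] : Fin 3 → G) k) ((![Im, Jm, Hm n] : Fin 3 → Mat) k) := by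
    intro k
    fin_cases k
    · exact hi
    · exact hj
    · exact hh
  rcases H1 n a1 a2 a3 a4 hn eUU hns' with ⟨w, hw⟩ | ⟨w, k, hw1, hw2⟩
  · -- `g' = y g`
    obtain ⟨y, hy⟩ : ∃ y, y = (w.map ![i, j, h]).prod := ⟨_, rfl⟩
    obtain ⟨W, hW⟩ : ∃ W, W = (w.map ![Im, Jm, Hm n]).prod := ⟨_, rfl⟩
    have hyW : Act x v m y W := by
      rw [hy, hW]
      exact Act.list h3 w
    have hyz : y * z = z * y := by
      rw [hy]
      clear hw hW hyW hy
      induction w with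
      | nil => simp
      | cons k w ih =>
        have hk : (![i, j, h] : Fin 3 → G) k * z = z * (![i, j, h] : Fin 3 → G) k := by
          fin_cases k
          · exact md.zi.symm
          · exact md.zj.symm
          · exact md.hz
        rw [List.map_cons, List.prod_cons, mul_assoc, ih, ← mul_assoc, hk, mul_assoc]
    rw [← hW] at hw
    have hg' := hyW.mul hA
    have s1 : W * A * Tm = Zm * (W * A) := by
      have h1 := hg'.mul hT
      have h2 := hz.mul hg'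
      rw [show y * g * t = z * (y * g) by
        calc y * g * t = y * (g * t * g⁻¹) * g := by group
          _ = z * (y * g) := by rw [hgt, hyz, mul_assoc]] at h1
      exact Act.unique md ab b h1 h2
    have s2 : W * A * Zm = Tm * (W * A) := by
      rw [mul_assoc, ← eUA, ← mul_assoc, hw, mul_assoc]
    have hdet : (W * A).det ≠ 0 := by
      obtain ⟨C, hC⟩ := hg'.inv md ab b
      intro h1
      have h2 := congrArg Matrix.det hC
      rw [Matrix.det_mul, h1, zero_mul, Matrix.det_one] at h2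
      exact absurd h2 (by decide)
    obtain ⟨j', hj'⟩ : ∃ j', j' = (y * g) * j * (y * g)⁻¹ := ⟨_, rfl⟩
    obtain ⟨B, hB⟩ : ∃ B, Act x v m j' B := by
      refine Act.of_norm md ab b ?_
      rw [hj']
      exact mul_mem (mul_mem (hg'.norm md ab b) (hj.norm md ab b)) (inv_mem (hg'.norm md ab b))
    have s3 : B * (W * A) = (W * A) * Jm := by
      have h1 := hB.mul hg'
      have h2 := hg'.mul hj
      rw [show j' * (y * g) = y * g * j by rw [hj']; group] at h1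
      exact Act.unique md ab b h1 h2
    obtain ⟨k, hk, rfl⟩ := jp_of (shape_of s1 s2) hdet s3
    obtain ⟨l, r, hl1, hl2⟩ := H3 n k hn hk
    have h4 : ∀ k' : Fin 4, Act x v m ((![i, j, h, j'] : Fin 4 → G) k') ((![Im, Jm, Hm n, Jp k] : Fin 4 → Mat) k') := by
      intro k'
      fin_cases k'
      · exact hi
      · exact hj
      · exact hh
      · exact hB
    have h5 := Act.list h4 l
    exact hl2 (md.no_order ab b (h5.mem md ab b) h5 (Or.inr rfl) hl1)
  · have h4 : ∀ k : Fin 4, Act x v m ((![i, j, h, u] : Fin 4 → G) k)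
        ((![Im, Jm, Hm n, Um a1 a2 a3 a4] : Fin 4 → Mat) k) := by
      intro k
      fin_cases k
      · exact hi
      · exact hj
      · exact hh
      · exact hU
    have h5 := Act.list h4 w
    exact hw2 (md.no_order ab b (h5.mem md ab b) h5 (Or.inl rfl) hw1)

/-- the hypotheses are not satisfied with an abelian Sylow subgroup, given the two matrix computations -/
theorem MD.false_of [Finite G] (H1 : Step1) (H3 : Step3) (md : MD x z i j h s P O)
    (ab : ∀ a ∈ P, ∀ b ∈ P, a * b = b * a) : False := by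
  obtain ⟨v, m, b⟩ := md.exists_bas ab
  rcases b.act_s md ab with hs | hs
  · have hsz : s⁻¹ = z * s := by
      rw [inv_eq_iff_mul_eq_one, ← mul_assoc, ← md.zs, mul_assoc, md.ss, md.hyp.zz]
    have hsx : s⁻¹ * x * s⁻¹⁻¹ = x⁻¹ := by
      have h4 : (s * x * s⁻¹)⁻¹ = x := by rw [md.sx, inv_inv]
      calc s⁻¹ * x * s⁻¹⁻¹ = s⁻¹ * (s * x * s⁻¹)⁻¹ * s := by rw [h4]; group
        _ = x⁻¹ := by group
    have md' : MD x z i j h s⁻¹ P O :=
      { hyp := md.hyp
        out := md.out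
        hx := md.hx
        h3 := md.h3
        hi := md.hi
        hj := md.hj
        sx := hsx
        ss := by rw [← mul_inv_rev, md.ss, md.zinv]
        si := ((show Commute s i from md.si).inv_left).eq
        sj := ((show Commute s j from md.sj).inv_left).eq
        conj := md.conj
        n61 := md.n61 }
    refine md'.false_aux H1 H3 ab b ?_
    rw [hsz, show Sm 8 = Zm * Sm 5 by decide]
    exact (b.act_z md ab).mul hs
  · exact md.false_aux H1 H3 ab b hs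

end

end Cfsg.Agent.H757.RvM
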