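import Cfsg.Agent.H757.RvThree
import Mathlib.Data.ZMod.Basic

/-!
# The abelian case for `p = 5` is impossible: a polarity without absolute points (helper757, for S5207)
-/

set_option autoImplicit false

namespace Cfsg.Agent.H757.RvT

open Subgroup Cfsg

universe u

variable {G : Type u} [Group G]

/-- powers with exponent in `ZMod 5` -/
def pw (g : G) (a : ZMod 5) : G := g ^ a.val

theorem pw_natCast {g : G} (hg : g ^ 5 = 1) (n : ℕ) : pw g (n : ZMod 5) = g ^ n := by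
  rw [pw, ZMod.val_natCast, ← pow_eq_pow_mod _ hg]

theorem pw_add {g : G} (hg : g ^ 5 = 1) (a b : ZMod 5) : pw g (a + b) = pw g a * pw g b := by
  rw [pw, pw, pw, ← pow_add, ZMod.val_add, ← pow_eq_pow_mod _ hg]

theorem pw_zero {g : G} : pw g 0 = 1 := by
  rw [pw, ZMod.val_zero, pow_zero]

theorem pw_one {g : G} : pw g 1 = g := by
  show g ^ (1 : ZMod 5).val = g
  rw [show (1 : ZMod 5).val = 1 from rfl, pow_one]

theorem pw_neg {g : G} (hg : g ^ 5 = 1) (a : ZMod 5) : pw g (-a) = (pw g a)⁻¹ := by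
  rw [eq_inv_iff_mul_eq_one, ← pw_add hg, neg_add_cancel, pw_zero]

theorem conj_pw (w g : G) (a : ZMod 5) : w * pw g a * w⁻¹ = pw (w * g * w⁻¹) a := by
  rw [pw, pw, conj_pow]

theorem pw_pow {g : G} (hg : g ^ 5 = 1) (k : ℕ) (a : ZMod 5) : pw (g ^ k) a = pw g (k * a) := by
  have h1 : ((k : ZMod 5) * a) = ((k * a.val : ℕ) : ZMod 5) := by
    rw [Nat.cast_mul, ZMod.natCast_zmod_val]
  rw [h1, pw_natCast hg, pw, pow_mul]

theorem pw_comm {g k : G} (h : g * k = k * g) (a b : ZMod 5) : pw g a * pw k b = pw k b * pw g a :=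
  ((show Commute g k from h).pow_pow _ _).eq

theorem pw_mem {H : Subgroup G} {g : G} (hg : g ∈ H) (a : ZMod 5) : pw g a ∈ H := pow_mem hg _

/-- hypotheses of the abelian case -/
structure Ab (x z i j g : G) (P : Sylow 5 G) (O : Subgroup G) : Prop where
  hyp : Hyp 5 x z i j
  out : Out 5 x z P O
  ab : ∀ a ∈ P, ∀ b ∈ P, a * b = b * a
  gx : g * x * g⁻¹ = x⁻¹
  gg : g * g = z
  gi : g * i = i * g
  gj : g * j = j * g
  conj : ∀ a ∈ P, a ≠ 1 → ∀ s : G, s * s = 1 → s ≠ 1 → s * a = a * s → ∃ c : G, c * a * c⁻¹ ∈ zpowers x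

section

variable {x z i j g : G} {P : Sylow 5 G} {O : Subgroup G}

/-- `O` centralises `P` -/
theorem Ab.centP [Finite G] (h : Ab x z i j g P O) {o u : G} (ho : o ∈ O) (hu : u ∈ P) : o * u * o⁻¹ = u := by
  obtain ⟨c, hc⟩ : ∃ c, c = o * u * o⁻¹ * u⁻¹ := ⟨_, rfl⟩
  have hcx : c ∈ zpowers x := by
    rw [hc]; exact h.out.commO o ho u (h.out.PO hu)
  have hou : o * u * o⁻¹ = c * u := by rw [hc]; group
  have hco : o * c = c * o := comm_zpow (h.out.centO o ho) hcx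
  have hpow : ∀ n : ℕ, o ^ n * u * (o ^ n)⁻¹ = c ^ n * u := by
    intro n
    induction n with
    | zero => simp
    | succ n ih =>
      have h1 : o * c ^ n = c ^ n * o := ((show Commute o c from hco).pow_right n).eq
      calc o ^ (n + 1) * u * (o ^ (n + 1))⁻¹ = o * (o ^ n * u * (o ^ n)⁻¹) * o⁻¹ := by
            rw [pow_succ']; group
        _ = o * c ^ n * u * o⁻¹ := by rw [ih]; group
        _ = c ^ n * (o * u * o⁻¹) := by rw [h1]; group
        _ = c ^ (n + 1) * u := by rw [hou, pow_succ]; group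
  have hn : ((P : Subgroup G).subgroupOf O).Normal := by
    refine ⟨fun n hn k => ?_⟩
    rw [mem_subgroupOf] at hn ⊢
    exact h.out.norm k (h.out.centO k k.2) n hn
  have h1 := Subgroup.pow_index_mem ((P : Subgroup G).subgroupOf O) (⟨o, ho⟩ : O)
  rw [mem_subgroupOf] at h1
  obtain ⟨m, hm⟩ : ∃ m, m = ((P : Subgroup G).subgroupOf O).index := ⟨_, rfl⟩
  rw [← hm] at h1
  have h2 : o ^ m ∈ P := h1
  have h3 := hpow m
  rw [h.ab _ h2 u hu, mul_inv_cancel_right] at h3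
  have h4 : c ^ m = 1 := mul_eq_right.1 h3.symm
  have h5 : c ^ 5 = 1 := by
    obtain ⟨k, rfl⟩ := hcx
    show (x ^ k) ^ 5 = 1
    rw [← zpow_natCast, ← zpow_mul, mul_comm, zpow_mul, zpow_natCast, h.out.exp x h.out.xP, one_zpow]
  have h6 : Nat.Coprime m 5 := by
    have : Fact (Nat.Prime 5) := ⟨by norm_num⟩
    have h7 : m ∣ (P : Subgroup G).index := by
      rw [hm]
      exact ⟨_, (relIndex_mul_index h.out.PO).symm⟩
    exact ((Nat.Prime.coprime_iff_not_dvd (by norm_num : Nat.Prime 5)).2 fun h8 =>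
      P.not_dvd_index (h8.trans h7)).symm
  have h8 : c = 1 := by
    have h9 := Nat.dvd_gcd (orderOf_dvd_of_pow_eq_one h4) (orderOf_dvd_of_pow_eq_one h5)
    rw [h6.gcd_eq_one] at h9
    exact orderOf_eq_one_iff.1 (Nat.dvd_one.1 h9)
  rw [hou, h8, one_mul]

/-- involutions of `C(x)` act on `P` as `z` -/
theorem Ab.invol [Finite G] (h : Ab x z i j g P O) {s u : G} (hs : s * s = 1) (hs1 : s ≠ 1) (hsx : s * x = x * s)
    (hu : u ∈ P) : s * u * s⁻¹ = z * u * z⁻¹ := by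
  obtain ⟨o, ho, e, hex, hez, rfl⟩ := h.out.frat s hsx
  have hxo : orderOf x = 5 := h.hyp.xo
  have he2 : e * e ∈ O := by
    have h1 : e * e = (o * (e * o * e⁻¹))⁻¹ * (o * e * (o * e)) := by group
    rw [h1, hs, mul_one]
    exact inv_mem (mul_mem ho (h.out.normO e hex o ho))
  have he2' : e * e ∈ zpowers x := by
    refine h.out.inf _ he2 ?_
    rw [mul_assoc, hez, ← mul_assoc, hez, mul_assoc]
  have h5 : (e * e) ^ 5 = 1 := by
    obtain ⟨k, hk⟩ := he2'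
    rw [← hk]
    show (x ^ k) ^ 5 = 1
    rw [← zpow_natCast, ← zpow_mul, mul_comm, zpow_mul, zpow_natCast, h.out.exp x h.out.xP, one_zpow]
  have h6 : e ^ 5 * e ^ 5 = 1 := by
    rw [← pow_add, ← h5, ← pow_two, ← pow_mul]
  have h7 : e = e ^ 5 * ((e * e) ^ 2)⁻¹ := by
    rw [← pow_two, ← pow_mul]
    group
  have h8 : (e * e) ^ 2 ∈ zpowers x := pow_mem he2' 2
  rcases h.hyp.only (e ^ 5) ((show Commute e x from hex).pow_left 5).eq
    ((show Commute e z from hez).pow_left 5).eq h6 with h9 | h9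
  · exfalso
    rw [h9, one_mul] at h7
    have h10 : e ∈ O := by
      rw [h7]
      exact inv_mem (pow_mem he2 2)
    have h11 : o * e ∈ O := mul_mem ho h10
    have h12 : orderOf (o * e) ∣ Nat.card O := Subgroup.orderOf_dvd_natCard _ h11
    have h13 : orderOf (o * e) = 2 := by
      have h14 : orderOf (o * e) ∣ 2 := orderOf_dvd_of_pow_eq_one (by rw [pow_two, hs])
      rcases (Nat.dvd_prime Nat.prime_two).1 h14 with h15 | h15
      · exact absurd (orderOf_eq_one_iff.1 h15) hs1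
      · exact h15
    rw [h13] at h12
    exact absurd h.out.oddO (Nat.not_odd_iff_even.2 (even_iff_two_dvd.2 h12))
  · obtain ⟨y, hy⟩ : ∃ y, y = ((e * e) ^ 2)⁻¹ := ⟨_, rfl⟩
    rw [h9, ← hy] at h7
    have hyx : y ∈ zpowers x := by rw [hy]; exact inv_mem h8
    have hyu : y * u * y⁻¹ = u := by
      rw [← comm_zpow (h.out.cent u hu) hyx, mul_inv_cancel_right]
    calc o * e * u * (o * e)⁻¹ = o * (e * u * e⁻¹) * o⁻¹ := by group
      _ = e * u * e⁻¹ := h.centP ho (h.out.norm e hex u hu)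
      _ = z * (y * u * y⁻¹) * z⁻¹ := by rw [h7]; group
      _ = z * u * z⁻¹ := by rw [hyu]

/-- elements of `P` centralised by an involution are conjugate into `⟨x⟩` by an element mapping `P` to `P` -/
theorem Ab.move [Finite G] (h : Ab x z i j g P O) {a s : G} (ha : a ∈ P) (ha1 : a ≠ 1) (hs : s * s = 1)
    (hs1 : s ≠ 1) (hsa : s * a = a * s) :
    ∃ c : G, c * a * c⁻¹ ∈ zpowers x ∧ (∀ t : G, t * a = a * t → (c * t * c⁻¹) * x = x * (c * t * c⁻¹)) ∧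
      ∀ u ∈ P, c * u * c⁻¹ ∈ P := by
  obtain ⟨c, hc⟩ := h.conj a ha ha1 s hs hs1 hsa
  have hcx : ∀ t : G, t * a = a * t → (c * t * c⁻¹) * x = x * (c * t * c⁻¹) := by
    intro t ht
    have h1 : (c * t * c⁻¹) * (c * a * c⁻¹) = (c * a * c⁻¹) * (c * t * c⁻¹) := by
      calc (c * t * c⁻¹) * (c * a * c⁻¹) = c * (t * a) * c⁻¹ := by group
        _ = c * (a * t) * c⁻¹ := by rw [ht]
        _ = (c * a * c⁻¹) * (c * t * c⁻¹) := by group
    have h2 : x ∈ zpowers (c * a * c⁻¹) := by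
      have h3 : zpowers (c * a * c⁻¹) = zpowers x := by
        refine eq_of_le_of_card_ge ((zpowers_le).2 hc) ?_
        rw [Nat.card_zpowers, Nat.card_zpowers, h.hyp.xo]
        have h4 := Subgroup.orderOf_dvd_natCard _ hc
        rw [Nat.card_zpowers, h.hyp.xo] at h4
        rcases (Nat.dvd_prime (by norm_num : Nat.Prime 5)).1 h4 with h5 | h5
        · exfalso
          rw [orderOf_eq_one_iff] at h5
          apply ha1
          calc a = c⁻¹ * (c * a * c⁻¹) * c := by group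
            _ = 1 := by rw [h5]; group
        · exact h5.ge
      rw [h3]
      exact mem_zpowers x
    exact comm_zpow h1 h2
  refine ⟨c, hc, hcx, ?_⟩
  intro u hu
  have h1 : (P : Subgroup G).map (MulAut.conj c).toMonoidHom ≤ P := by
    refine h.out.le (P.2.map _) ?_
    rintro _ ⟨v, hv, rfl⟩
    exact hcx v (h.ab v hv a ha)
  exact h1 ⟨u, hu, rfl⟩

/-- involutions centralising a nontrivial element of `P` act identically on `P` -/
theorem Ab.same [Finite G] (h : Ab x z i j g P O) {a s t u : G} (ha : a ∈ P) (ha1 : a ≠ 1) (hs : s * s = 1)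
    (hs1 : s ≠ 1) (hsa : s * a = a * s) (ht : t * t = 1) (ht1 : t ≠ 1) (hta : t * a = a * t) (hu : u ∈ P) :
    s * u * s⁻¹ = t * u * t⁻¹ := by
  obtain ⟨c, hc, hcx, hcP⟩ := h.move ha ha1 hs hs1 hsa
  have key : ∀ s : G, s * s = 1 → s ≠ 1 → s * a = a * s → s * u * s⁻¹ = c⁻¹ * (z * (c * u * c⁻¹) * z⁻¹) * c := by
    intro s hs hs1 hsa
    have h1 : (c * s * c⁻¹) * (c * s * c⁻¹) = 1 := by
      calc (c * s * c⁻¹) * (c * s * c⁻¹) = c * (s * s) * c⁻¹ := by group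
        _ = 1 := by rw [hs]; group
    have h2 : c * s * c⁻¹ ≠ 1 := by
      intro h3
      apply hs1
      calc s = c⁻¹ * (c * s * c⁻¹) * c := by group
        _ = 1 := by rw [h3]; group
    rw [← h.invol h1 h2 (hcx s hsa) (hcP u hu)]
    group
  rw [key s hs hs1 hsa, key t ht ht1 hta]

/-- `a ⊥ b` -/
def Orth (a b : G) : Prop := ∃ s : G, s * s = 1 ∧ s ≠ 1 ∧ s * a = a * s ∧ s * b * s⁻¹ = b⁻¹

theorem Orth.conj {a b : G} (h : Orth a b) (c : G) : Orth (c * a * c⁻¹) (c * b * c⁻¹) := by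
  obtain ⟨s, hs, hs1, hsa, hsb⟩ := h
  refine ⟨c * s * c⁻¹, ?_, ?_, ?_, ?_⟩
  · calc (c * s * c⁻¹) * (c * s * c⁻¹) = c * (s * s) * c⁻¹ := by group
      _ = 1 := by rw [hs]; group
  · intro h3
    apply hs1
    calc s = c⁻¹ * (c * s * c⁻¹) * c := by group
      _ = 1 := by rw [h3]; group
  · calc (c * s * c⁻¹) * (c * a * c⁻¹) = c * (s * a) * c⁻¹ := by group
      _ = c * (a * s) * c⁻¹ := by rw [hsa]
      _ = (c * a * c⁻¹) * (c * s * c⁻¹) := by group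
  · calc (c * s * c⁻¹) * (c * b * c⁻¹) * (c * s * c⁻¹)⁻¹ = c * (s * b * s⁻¹) * c⁻¹ := by group
      _ = (c * b * c⁻¹)⁻¹ := by rw [hsb]; group

theorem Orth.of_conj {a b c : G} (h : Orth (c * a * c⁻¹) (c * b * c⁻¹)) : Orth a b := by
  have h1 := h.conj c⁻¹
  have e1 : ∀ y : G, c⁻¹ * (c * y * c⁻¹) * c⁻¹⁻¹ = y := fun y => by group
  rwa [e1, e1] at h1

theorem Ab.orth_mul [Finite G] (h : Ab x z i j g P O) {a b c : G} (ha : a ∈ P) (ha1 : a ≠ 1) (hb : b ∈ P)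
    (hc : c ∈ P) (hab : Orth a b) (hac : Orth a c) : Orth a (b * c) := by
  obtain ⟨s, hs, hs1, hsa, hsb⟩ := hab
  obtain ⟨t, ht, ht1, hta, htc⟩ := hac
  refine ⟨s, hs, hs1, hsa, ?_⟩
  rw [← h.same ha ha1 hs hs1 hsa ht ht1 hta hc] at htc
  calc s * (b * c) * s⁻¹ = (s * b * s⁻¹) * (s * c * s⁻¹) := by group
    _ = b⁻¹ * c⁻¹ := by rw [hsb, htc]
    _ = (b * c)⁻¹ := by rw [h.ab b hb c hc, mul_inv_rev]

theorem Ab.eq_one_of_eq_inv (h : Ab x z i j g P O) {a : G} (ha : a ∈ P) (h1 : a = a⁻¹) : a = 1 := by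
  have h2 : a * a = 1 := by
    rw [mul_eq_one_iff_eq_inv]; exact h1
  have h3 := h.out.exp a ha
  have h4 : a ^ 5 = a := by
    calc a ^ 5 = (a * a) * (a * a) * a := by simp only [pow_succ, pow_zero, one_mul, mul_assoc]
      _ = a := by rw [h2]; group
  rw [← h4, h3]

theorem Ab.not_orth (h : Ab x z i j g P O) {a : G} (ha : a ∈ P) (ha1 : a ≠ 1) : ¬ Orth a a := by
  rintro ⟨s, hs, hs1, hsa, hsb⟩
  rw [hsa, mul_inv_cancel_right] at hsb
  exact ha1 (h.eq_one_of_eq_inv ha hsb)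

theorem pw_eq_one {y : G} (hy : y ^ 5 = 1) (hy1 : y ≠ 1) {a : ZMod 5} (h : pw y a = 1) : a = 0 := by
  have h1 : orderOf y = 5 := by
    rcases (Nat.dvd_prime (by norm_num : Nat.Prime 5)).1 (orderOf_dvd_of_pow_eq_one hy) with h2 | h2
    · exact absurd (orderOf_eq_one_iff.1 h2) hy1
    · exact h2
  have h2 : 5 ∣ a.val := by
    have h5 : orderOf y ∣ a.val := orderOf_dvd_of_pow_eq_one h
    rwa [h1] at h5
  have h3 := ZMod.val_lt a
  have h4 : a.val = 0 := by omega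
  exact (ZMod.val_eq_zero a).1 h4

theorem Ab.zi (h : Ab x z i j g P O) : z * i = i * z := by rw [← h.hyp.ii, mul_assoc]
theorem Ab.zj (h : Ab x z i j g P O) : z * j = j * z := by rw [← h.hyp.jj, mul_assoc]
theorem Ab.zg (h : Ab x z i j g P O) : z * g = g * z := by rw [← h.gg, mul_assoc]

theorem Ab.exists_inverted [Finite G] (h : Ab x z i j g P O) : ∃ u ∈ P, u ≠ 1 ∧ z * u * z⁻¹ = u⁻¹ := by
  have h1 : ∃ y ∈ P, y ∉ zpowers x := by
    by_contra hcon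
    push Not at hcon
    have h2 : (P : Subgroup G) ≤ zpowers x := hcon
    have h3 := Nat.le_of_dvd Nat.card_pos (Subgroup.card_dvd_of_le h2)
    rw [Nat.card_zpowers, h.hyp.xo] at h3
    have h4 : Nat.card ((P : Subgroup G)) = 5 ^ 3 := h.out.card
    rw [h4] at h3
    norm_num at h3
  obtain ⟨y, hy, hyx⟩ := h1
  obtain ⟨k, hk⟩ := h.out.inv y hy
  have hk' : x ^ k = z * y * z⁻¹ * y := hk
  have hc : y * x = x * y := h.out.cent y hy
  have hz : z * x ^ k * z⁻¹ = x ^ k := by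
    have : Commute z (x ^ k) := (show Commute z x from h.hyp.xz.symm).zpow_right k
    rw [this.eq, mul_inv_cancel_right]
  have hyk : y * x ^ k = x ^ k * y := ((show Commute y x from hc).zpow_right k).eq
  obtain ⟨c, hcx⟩ : ∃ c, c = x ^ k := ⟨_, rfl⟩
  rw [← hcx] at hk' hz hyk
  have hc5 : c ^ 5 = 1 := h.out.exp c (by rw [hcx]; exact zpow_mem h.out.xP k)
  refine ⟨y * (c * c), mul_mem hy ?_, ?_, ?_⟩
  · rw [hcx]; exact mul_mem (zpow_mem h.out.xP k) (zpow_mem h.out.xP k)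
  · intro h1
    apply hyx
    rw [mul_eq_one_iff_eq_inv] at h1
    rw [h1, hcx]
    exact inv_mem (mul_mem ⟨k, rfl⟩ ⟨k, rfl⟩)
  · have e1 : z * y * z⁻¹ = c * y⁻¹ := by rw [hk']; group
    have e2 : z * (c * c) * z⁻¹ = c * c := by
      calc z * (c * c) * z⁻¹ = (z * c * z⁻¹) * (z * c * z⁻¹) := by group
        _ = c * c := by rw [hz]
    have e3 : y⁻¹ * c = c * y⁻¹ := ((show Commute y c from hyk).inv_left).eq
    calc z * (y * (c * c)) * z⁻¹ = (z * y * z⁻¹) * (z * (c * c) * z⁻¹) := by group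
      _ = c * (y⁻¹ * c) * c := by rw [e1, e2]; group
      _ = (c * c * c) * y⁻¹ := by rw [e3]; simp only [mul_assoc, e3]
      _ = (c⁻¹ * c⁻¹) * y⁻¹ := by
        rw [show c * c * c = c⁻¹ * c⁻¹ from by
          rw [← mul_inv_rev, eq_inv_iff_mul_eq_one, ← hc5]
          simp only [pow_succ, pow_zero, one_mul, mul_assoc]]
      _ = (y * (c * c))⁻¹ := by group

theorem Ab.conj_pw_mem (h : Ab x z i j g P O) {c : G} (hc : c * x = x * c ∨ c * x * c⁻¹ = x⁻¹) {u : G}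
    (hu : u ∈ P) : c * u * c⁻¹ ∈ P := by
  rcases hc with hc | hc
  · exact h.out.norm c hc u hu
  · exact h.out.norm_inv hc u hu

/-- an eigenvector of `i` -/
theorem Ab.exists_eigen [Finite G] (h : Ab x z i j g P O) :
    ∃ v ∈ P, v ≠ 1 ∧ z * v * z⁻¹ = v⁻¹ ∧ i * v * i⁻¹ = v ^ 2 := by
  obtain ⟨u, hu, hu1, hzu⟩ := h.exists_inverted
  obtain ⟨y, hy⟩ : ∃ y, y = i * u * i⁻¹ := ⟨_, rfl⟩
  have hyP : y ∈ P := by rw [hy]; exact h.out.norm i h.hyp.ix u hu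
  have hzi := h.zi
  have hzy : z * y * z⁻¹ = y⁻¹ := by
    have hzi' : i⁻¹ * z⁻¹ = z⁻¹ * i⁻¹ := by rw [← mul_inv_rev, ← mul_inv_rev, hzi]
    calc z * y * z⁻¹ = (z * i) * u * (i⁻¹ * z⁻¹) := by rw [hy]; group
      _ = i * (z * u * z⁻¹) * i⁻¹ := by rw [hzi, hzi']; group
      _ = y⁻¹ := by rw [hzu, hy]; group
  have hiy : i * y * i⁻¹ = u⁻¹ := by
    rw [hy, ← hzu, ← h.hyp.ii]; group
  have huy : Commute u y := h.ab u hu y hyP
  have hu5 : u ^ 5 = 1 := h.out.exp u hu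
  have hy5 : y ^ 5 = 1 := h.out.exp y hyP
  have hu4 : u ^ 4 = u⁻¹ := by rw [eq_inv_iff_mul_eq_one, ← pow_succ, hu5]
  have key : ∀ n : ℕ, i * (y * u ^ n) * i⁻¹ = u⁻¹ * y ^ n := by
    intro n
    calc i * (y * u ^ n) * i⁻¹ = (i * y * i⁻¹) * (i * u ^ n * i⁻¹) := by group
      _ = u⁻¹ * y ^ n := by rw [hiy, ← conj_pow, ← hy]
  have keyz : ∀ n : ℕ, z * (y * u ^ n) * z⁻¹ = (y * u ^ n)⁻¹ := by
    intro n
    calc z * (y * u ^ n) * z⁻¹ = (z * y * z⁻¹) * (z * u ^ n * z⁻¹) := by group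
      _ = y⁻¹ * (u ^ n)⁻¹ := by rw [hzy, ← conj_pow, hzu, inv_pow]
      _ = (y * u ^ n)⁻¹ := by
        rw [← mul_inv_rev, (huy.pow_left n).eq]
  by_cases hv1 : y * u ^ 2 = 1
  · -- `y u³` is an eigenvector for `-2`
    obtain ⟨v, hv⟩ : ∃ v, v = y * u ^ 3 := ⟨_, rfl⟩
    have hvu : v = u := by
      rw [hv, pow_succ, ← mul_assoc, hv1, one_mul]
    have hiv : i * v * i⁻¹ = v ^ 3 := by
      rw [hv, key 3, (huy.symm.pow_right 3).mul_pow, ← pow_mul]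
      have : u ^ (3 * 3) = u⁻¹ := by
        rw [show 3 * 3 = 5 + 4 from rfl, pow_add, hu5, one_mul, hu4]
      rw [this]
      exact ((huy.inv_left).pow_right 3).eq
    have hzj := h.zj
    have hzj' : j⁻¹ * z⁻¹ = z⁻¹ * j⁻¹ := by rw [← mul_inv_rev, ← mul_inv_rev, hzj]
    have hvP : v ∈ P := by rw [hvu]; exact hu
    have hv5 : (j * v * j⁻¹) ^ 5 = 1 := h.out.exp _ (h.out.norm j h.hyp.jx v hvP)
    refine ⟨j * v * j⁻¹, h.out.norm j h.hyp.jx v hvP, ?_, ?_, ?_⟩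
    · intro h1
      apply hu1
      rw [← hvu]
      calc v = j⁻¹ * (j * v * j⁻¹) * j := by group
        _ = 1 := by rw [h1]; group
    · calc z * (j * v * j⁻¹) * z⁻¹ = (z * j) * v * (j⁻¹ * z⁻¹) := by group
        _ = j * (z * v * z⁻¹) * j⁻¹ := by rw [hzj, hzj']; group
        _ = (j * v * j⁻¹)⁻¹ := by rw [hv, keyz 3]; group
    · have e1 : i * (j * v * j⁻¹) * i⁻¹ = (i * j) * v * (i * j)⁻¹ := by group
      rw [e1, h.hyp.ij]
      have hzv : z * v * z⁻¹ = v⁻¹ := by rw [hv, keyz 3]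
      calc j * i * z * v * (j * i * z)⁻¹ = j * (i * (z * v * z⁻¹) * i⁻¹) * j⁻¹ := by group
        _ = j * (i * v * i⁻¹)⁻¹ * j⁻¹ := by rw [hzv]; group
        _ = ((j * v * j⁻¹) ^ 3)⁻¹ := by rw [hiv, conj_pow]; group
        _ = (j * v * j⁻¹) ^ 2 := by
          rw [inv_eq_iff_mul_eq_one, ← pow_add, hv5]
  · refine ⟨y * u ^ 2, mul_mem hyP (pow_mem hu 2), hv1, keyz 2, ?_⟩
    rw [key 2, (huy.symm.pow_right 2).mul_pow, ← pow_mul, hu4]
    exact ((huy.inv_left).pow_right 2).eq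

/-- a basis of `[P, z]` adapted to `i`, `j` -/
structure Bas (x z i j : G) (P : Sylow 5 G) (v m : G) : Prop where
  vP : v ∈ P
  mP : m ∈ P
  v1 : v ≠ 1
  m1 : m ≠ 1
  zv : z * v * z⁻¹ = v⁻¹
  zm : z * m * z⁻¹ = m⁻¹
  iv : i * v * i⁻¹ = v ^ 2
  im : i * m * i⁻¹ = m ^ 3
  jv : j * v * j⁻¹ = m
  jm : j * m * j⁻¹ = v⁻¹

theorem Ab.exists_bas [Finite G] (h : Ab x z i j g P O) : ∃ v m : G, Bas x z i j P v m := by
  obtain ⟨v, hvP, hv1, hzv, hiv⟩ := h.exists_eigen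
  have hzj := h.zj
  have hzj' : j⁻¹ * z⁻¹ = z⁻¹ * j⁻¹ := by rw [← mul_inv_rev, ← mul_inv_rev, hzj]
  have hmP : j * v * j⁻¹ ∈ P := h.out.norm j h.hyp.jx v hvP
  have hm5 : (j * v * j⁻¹) ^ 5 = 1 := h.out.exp _ hmP
  refine ⟨v, j * v * j⁻¹, hvP, hmP, hv1, ?_, hzv, ?_, hiv, ?_, rfl, ?_⟩
  · intro h1
    apply hv1
    calc v = j⁻¹ * (j * v * j⁻¹) * j := by group
      _ = 1 := by rw [h1]; group
  · calc z * (j * v * j⁻¹) * z⁻¹ = (z * j) * v * (j⁻¹ * z⁻¹) := by group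
      _ = j * (z * v * z⁻¹) * j⁻¹ := by rw [hzj, hzj']; group
      _ = (j * v * j⁻¹)⁻¹ := by rw [hzv]; group
  · have e1 : i * (j * v * j⁻¹) * i⁻¹ = (i * j) * v * (i * j)⁻¹ := by group
    rw [e1, h.hyp.ij]
    calc j * i * z * v * (j * i * z)⁻¹ = j * (i * (z * v * z⁻¹) * i⁻¹) * j⁻¹ := by group
      _ = j * (i * v * i⁻¹)⁻¹ * j⁻¹ := by rw [hzv]; group
      _ = ((j * v * j⁻¹) ^ 2)⁻¹ := by rw [hiv, conj_pow]; group
      _ = (j * v * j⁻¹) ^ 3 := by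
        rw [inv_eq_iff_mul_eq_one, ← pow_add, hm5]
  · calc j * (j * v * j⁻¹) * j⁻¹ = (j * j) * v * (j * j)⁻¹ := by group
      _ = v⁻¹ := by rw [h.hyp.jj, hzv]

/-- coordinates on `P` -/
def En (x v m : G) (s : ZMod 5 × ZMod 5 × ZMod 5) : G := pw x s.1 * (pw v s.2.1 * pw m s.2.2)

theorem Bas.en_mem (h : Ab x z i j g P O) {v m : G} (b : Bas x z i j P v m) (s : ZMod 5 × ZMod 5 × ZMod 5) :
    En x v m s ∈ P := mul_mem (pw_mem h.out.xP _) (mul_mem (pw_mem b.vP _) (pw_mem b.mP _))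

theorem Bas.en_add (h : Ab x z i j g P O) {v m : G} (b : Bas x z i j P v m) (s t : ZMod 5 × ZMod 5 × ZMod 5) :
    En x v m (s + t) = En x v m s * En x v m t := by
  have hv5 := h.out.exp v b.vP
  have hm5 := h.out.exp m b.mP
  have hx5 := h.out.exp x h.out.xP
  have c1 : pw v s.2.1 * pw m s.2.2 * pw x t.1 = pw x t.1 * (pw v s.2.1 * pw m s.2.2) :=
    h.ab _ (mul_mem (pw_mem b.vP _) (pw_mem b.mP _)) _ (pw_mem h.out.xP _)
  have c2 : pw m s.2.2 * pw v t.2.1 = pw v t.2.1 * pw m s.2.2 := h.ab _ (pw_mem b.mP _) _ (pw_mem b.vP _)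
  show pw x (s.1 + t.1) * (pw v (s.2.1 + t.2.1) * pw m (s.2.2 + t.2.2)) = _
  rw [pw_add hx5, pw_add hv5, pw_add hm5]
  show _ = pw x s.1 * (pw v s.2.1 * pw m s.2.2) * (pw x t.1 * (pw v t.2.1 * pw m t.2.2))
  calc pw x s.1 * pw x t.1 * (pw v s.2.1 * pw v t.2.1 * (pw m s.2.2 * pw m t.2.2))
      = pw x s.1 * pw x t.1 * (pw v s.2.1 * (pw v t.2.1 * pw m s.2.2) * pw m t.2.2) := by group
    _ = pw x s.1 * (pw x t.1 * (pw v s.2.1 * pw m s.2.2)) * (pw v t.2.1 * pw m t.2.2) := by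
        rw [← c2]; group
    _ = _ := by rw [← c1]; group

theorem conj_mul3 (w a b c : G) : w * (a * (b * c)) * w⁻¹ = (w * a * w⁻¹) * ((w * b * w⁻¹) * (w * c * w⁻¹)) := by
  group

theorem Bas.en_z (h : Ab x z i j g P O) {v m : G} (b : Bas x z i j P v m) (s : ZMod 5 × ZMod 5 × ZMod 5) :
    z * En x v m s * z⁻¹ = En x v m (s.1, -s.2.1, -s.2.2) := by
  have hv5 := h.out.exp v b.vP
  have hm5 := h.out.exp m b.mP
  have hzx : z * x * z⁻¹ = x := by rw [← h.hyp.xz, mul_inv_cancel_right]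
  have i1 : ∀ (y : G), y ^ 5 = 1 → ∀ a : ZMod 5, pw y⁻¹ a = pw y (-a) := by
    intro y hy a
    rw [pw_neg hy, pw, pw, inv_pow]
  rw [En, conj_mul3, conj_pw, conj_pw, conj_pw, hzx, b.zv, b.zm, i1 v hv5, i1 m hm5]
  rfl

theorem Bas.en_inj (h : Ab x z i j g P O) {v m : G} (b : Bas x z i j P v m) {s : ZMod 5 × ZMod 5 × ZMod 5}
    (hs : En x v m s = 1) : s = 0 := by
  have hv5 := h.out.exp v b.vP
  have hm5 := h.out.exp m b.mP
  have hx5 := h.out.exp x h.out.xP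
  have hx1 : x ≠ 1 := by
    intro h1
    have h2 := h.hyp.xo
    rw [h1, orderOf_one] at h2
    norm_num at h2
  have h1 := b.en_z h s
  rw [hs, mul_one, mul_inv_cancel] at h1
  have h2 : En x v m (s + (s.1, -s.2.1, -s.2.2)) = 1 := by rw [b.en_add h, hs, ← h1, one_mul]
  have h3 : s + (s.1, -s.2.1, -s.2.2) = (s.1 + s.1, 0, 0) := by
    ext <;> simp
  rw [h3, En] at h2
  simp only [pw_zero, mul_one] at h2
  have h4 := pw_eq_one hx5 hx1 h2
  have h5 : s.1 = 0 := by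
    revert h4
    generalize s.1 = a
    revert a
    decide
  have h6 : pw v s.2.1 * pw m s.2.2 = 1 := by
    rw [En, h5, pw_zero, one_mul] at hs
    exact hs
  have h7 : pw v (2 * s.2.1) * pw m (3 * s.2.2) = 1 := by
    have h8 : i * (pw v s.2.1 * pw m s.2.2) * i⁻¹ = 1 := by rw [h6]; group
    have h9 : i * (pw v s.2.1 * pw m s.2.2) * i⁻¹ = (i * pw v s.2.1 * i⁻¹) * (i * pw m s.2.2 * i⁻¹) := by group
    rw [h9, conj_pw, conj_pw, b.iv, b.im, pw_pow hv5, pw_pow hm5] at h8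
    exact h8
  have h8 : pw v (2 * s.2.1) * pw m (2 * s.2.2) = 1 := by
    rw [two_mul, two_mul, pw_add hv5, pw_add hm5]
    have c2 : pw m s.2.2 * pw v s.2.1 = pw v s.2.1 * pw m s.2.2 := h.ab _ (pw_mem b.mP _) _ (pw_mem b.vP _)
    calc pw v s.2.1 * pw v s.2.1 * (pw m s.2.2 * pw m s.2.2)
        = pw v s.2.1 * (pw v s.2.1 * pw m s.2.2) * pw m s.2.2 := by group
      _ = pw v s.2.1 * (pw m s.2.2 * pw v s.2.1) * pw m s.2.2 := by rw [c2]
      _ = (pw v s.2.1 * pw m s.2.2) * (pw v s.2.1 * pw m s.2.2) := by group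
      _ = 1 := by rw [h6, one_mul]
  have h9 : pw m s.2.2 = 1 := by
    have e1 : pw m (3 * s.2.2) = pw m (2 * s.2.2) := mul_left_cancel (h7.trans h8.symm)
    have e2 : (3 : ZMod 5) * s.2.2 = 2 * s.2.2 + s.2.2 := by ring
    rw [e2, pw_add hm5] at e1
    exact mul_eq_left.1 e1
  have h10 := pw_eq_one hm5 b.m1 h9
  rw [h9, mul_one] at h6
  have h11 := pw_eq_one hv5 b.v1 h6
  ext1
  · exact h5
  · ext1
    · exact h11
    · exact h10

theorem Bas.en_injective (h : Ab x z i j g P O) {v m : G} (b : Bas x z i j P v m) :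
    Function.Injective (En x v m) := by
  intro s t hst
  have h1 : En x v m (s - t) * En x v m t = En x v m t := by
    rw [← b.en_add h, sub_add_cancel, hst]
  exact sub_eq_zero.1 (b.en_inj h (mul_eq_right.1 h1))

theorem Bas.en_surj [Finite G] (h : Ab x z i j g P O) {v m : G} (b : Bas x z i j P v m) {u : G} (hu : u ∈ P) :
    ∃ s, En x v m s = u := by
  let f : ZMod 5 × ZMod 5 × ZMod 5 → (P : Subgroup G) := fun s => ⟨En x v m s, b.en_mem h s⟩
  have hf : Function.Injective f := fun s t hst => b.en_injective h (congrArg Subtype.val hst)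
  have hb : Function.Bijective f := by
    rw [Nat.bijective_iff_injective_and_card]
    refine ⟨hf, ?_⟩
    have h4 : Nat.card ((P : Subgroup G)) = 5 ^ 3 := h.out.card
    rw [h4, Nat.card_prod, Nat.card_prod, Nat.card_zmod]
    norm_num
  obtain ⟨s, hs⟩ := hb.2 ⟨u, hu⟩
  exact ⟨s, congrArg Subtype.val hs⟩

theorem Bas.en_neg (h : Ab x z i j g P O) {v m : G} (b : Bas x z i j P v m) (s : ZMod 5 × ZMod 5 × ZMod 5) :
    En x v m (-s) = (En x v m s)⁻¹ := by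
  rw [eq_inv_iff_mul_eq_one, ← b.en_add h, neg_add_cancel]
  show pw x 0 * (pw v 0 * pw m 0) = 1
  simp [pw_zero]

/-- elements inverted by `z` -/
theorem Bas.inverted [Finite G] (h : Ab x z i j g P O) {v m : G} (b : Bas x z i j P v m) {u : G} (hu : u ∈ P)
    (hz : z * u * z⁻¹ = u⁻¹) : ∃ s : ZMod 5 × ZMod 5, En x v m (0, s) = u := by
  obtain ⟨s, rfl⟩ := b.en_surj h hu
  rw [b.en_z h, ← b.en_neg h] at hz
  have h1 := congrArg Prod.fst (b.en_injective h hz)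
  have h2 : s.1 = 0 := by
    revert h1
    show s.1 = -s.1 → s.1 = 0
    generalize s.1 = a
    revert a
    decide
  refine ⟨s.2, ?_⟩
  rw [← h2]

theorem Ab.gP (h : Ab x z i j g P O) {u : G} (hu : u ∈ P) : g * u * g⁻¹ ∈ P := h.out.norm_inv h.gx u hu

/-- `g` is scalar on `[P, z]` -/
theorem Bas.g_scalar [Finite G] (h : Ab x z i j g P O) {v m : G} (b : Bas x z i j P v m) :
    g * v * g⁻¹ = v ^ 2 ∨ g * v * g⁻¹ = v ^ 3 := by
  have hv5 := h.out.exp v b.vP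
  have hm5 := h.out.exp m b.mP
  have hzg := h.zg
  have hgi := h.gi
  have h1 : z * (g * v * g⁻¹) * z⁻¹ = (g * v * g⁻¹)⁻¹ := by
    have hzg' : g⁻¹ * z⁻¹ = z⁻¹ * g⁻¹ := by rw [← mul_inv_rev, ← mul_inv_rev, hzg]
    calc z * (g * v * g⁻¹) * z⁻¹ = (z * g) * v * (g⁻¹ * z⁻¹) := by group
      _ = g * (z * v * z⁻¹) * g⁻¹ := by rw [hzg, hzg']; group
      _ = (g * v * g⁻¹)⁻¹ := by rw [b.zv]; group
  obtain ⟨⟨a, c⟩, hac⟩ := b.inverted h (h.gP b.vP) h1
  have hac' : pw v a * pw m c = g * v * g⁻¹ := by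
    rw [← hac, En, pw_zero, one_mul]
  have h2 : i * (g * v * g⁻¹) * i⁻¹ = (g * v * g⁻¹) ^ 2 := by
    have hgi' : g⁻¹ * i⁻¹ = i⁻¹ * g⁻¹ := by rw [← mul_inv_rev, ← mul_inv_rev, hgi]
    calc i * (g * v * g⁻¹) * i⁻¹ = (i * g) * v * (g⁻¹ * i⁻¹) := by group
      _ = g * (i * v * i⁻¹) * g⁻¹ := by rw [← hgi, hgi']; group
      _ = (g * v * g⁻¹) ^ 2 := by rw [b.iv, conj_pow]
  have h3 : pw v (2 * a) * pw m (3 * c) = pw v (2 * a) * pw m (2 * c) := by
    have e1 : i * (pw v a * pw m c) * i⁻¹ = pw v (2 * a) * pw m (3 * c) := by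
      have h9 : i * (pw v a * pw m c) * i⁻¹ = (i * pw v a * i⁻¹) * (i * pw m c * i⁻¹) := by group
      rw [h9, conj_pw, conj_pw, b.iv, b.im, pw_pow hv5, pw_pow hm5]
      rfl
    have e2 : (pw v a * pw m c) ^ 2 = pw v (2 * a) * pw m (2 * c) := by
      have c2 : Commute (pw v a) (pw m c) := h.ab _ (pw_mem b.vP _) _ (pw_mem b.mP _)
      rw [c2.mul_pow, pow_two, pow_two, ← pw_add hv5, ← pw_add hm5, two_mul, two_mul]
    rw [← e1, ← e2, hac', h2]
  have h4 : c = 0 := by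
    have e1 : pw m (3 * c) = pw m (2 * c) := mul_left_cancel h3
    have e2 : (3 : ZMod 5) * c = 2 * c + c := by ring
    rw [e2, pw_add hm5] at e1
    exact pw_eq_one hm5 b.m1 (mul_eq_left.1 e1)
  rw [h4, pw_zero, mul_one] at hac'
  have h5 : a * a = -1 := by
    have e1 : g * (g * v * g⁻¹) * g⁻¹ = v⁻¹ := by
      rw [← b.zv, ← h.gg]; group
    rw [← hac', conj_pw, ← hac'] at e1
    have e2 : pw (pw v a) a = pw v (a * a) := by
      have : pw v a = v ^ a.val := rfl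
      rw [this, pw_pow hv5, ZMod.natCast_zmod_val]
    have e3 : pw v (a * a + 1) = 1 := by
      rw [pw_add hv5, ← e2, e1, pw_one, inv_mul_cancel]
    exact eq_neg_of_add_eq_zero_left (pw_eq_one hv5 b.v1 e3)
  have h6 : a = 2 ∨ a = 3 := by
    have h7 : ∀ a : ZMod 5, a * a = -1 → a = 2 ∨ a = 3 := by decide
    exact h7 a h5
  rw [← hac']
  rcases h6 with h6 | h6
  · left; rw [h6]; rfl
  · right; rw [h6]; rfl

/-- the six involutions -/
def Wq (z i j g : G) : Fin 6 → G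
  | 0 => g * i
  | 1 => g * i * z
  | 2 => g * j
  | 3 => g * j * z
  | 4 => g * (i * j)
  | 5 => g * (i * j) * z

/-- their action on `[P, z]` -/
def Mq : Fin 6 → ZMod 5 × ZMod 5 → ZMod 5 × ZMod 5
  | 0, s => (-s.1, s.2)
  | 1, s => (s.1, -s.2)
  | 2, s => (3 * s.2, 2 * s.1)
  | 3, s => (2 * s.2, 3 * s.1)
  | 4, s => (s.2, s.1)
  | 5, s => (-s.2, -s.1)

theorem sq_aux {a b z : G} (hab : a * b = b * a) (haa : a * a = z) (hbb : b * b = z) (hzz : z * z = 1) :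
    a * b * (a * b) = 1 := by
  calc a * b * (a * b) = a * (b * a) * b := by group
    _ = (a * a) * (b * b) := by rw [← hab]; group
    _ = 1 := by rw [haa, hbb, hzz]

theorem sq_aux' {y z : G} (hyz : z * y = y * z) (hyy : y * y = 1) (hzz : z * z = 1) :
    y * z * (y * z) = 1 := by
  calc y * z * (y * z) = y * (z * y) * z := by group
    _ = (y * y) * (z * z) := by rw [hyz]; group
    _ = 1 := by rw [hyy, hzz, one_mul]

theorem Ab.ijij (h : Ab x z i j g P O) : i * j * (i * j) = z := by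
  calc i * j * (i * j) = i * (j * (i * j)) := by group
    _ = i * (j * (j * i * z)) := by rw [h.hyp.ij]
    _ = i * (j * j) * i * z := by group
    _ = z * (i * i) * z := by rw [h.hyp.jj, ← h.zi]; group
    _ = z := by rw [h.hyp.ii, h.hyp.zz, one_mul]

theorem Ab.g_ij (h : Ab x z i j g P O) : g * (i * j) = (i * j) * g := by
  rw [← mul_assoc, h.gi, mul_assoc, h.gj, mul_assoc]

theorem Ab.z_ij (h : Ab x z i j g P O) : z * (i * j) = (i * j) * z := by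
  rw [← mul_assoc, h.zi, mul_assoc, h.zj, mul_assoc]

theorem Ab.wq_sq (h : Ab x z i j g P O) (q : Fin 6) : Wq z i j g q * Wq z i j g q = 1 := by
  have hz : ∀ y : G, z * y = y * z → z * (g * y) = (g * y) * z := by
    intro y hy
    rw [← mul_assoc, h.zg, mul_assoc, hy, mul_assoc]
  have h0 := sq_aux h.gi h.gg h.hyp.ii h.hyp.zz
  have h2 := sq_aux h.gj h.gg h.hyp.jj h.hyp.zz
  have h4 := sq_aux h.g_ij h.gg h.ijij h.hyp.zz
  fin_cases q
  · exact h0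
  · exact sq_aux' (hz _ h.zi) h0 h.hyp.zz
  · exact h2
  · exact sq_aux' (hz _ h.zj) h2 h.hyp.zz
  · exact h4
  · exact sq_aux' (hz _ h.z_ij) h4 h.hyp.zz

theorem Ab.wq_x (h : Ab x z i j g P O) (q : Fin 6) : Wq z i j g q * x * (Wq z i j g q)⁻¹ = x⁻¹ := by
  have h0 : ∀ y : G, y * x = x * y → (g * y) * x * (g * y)⁻¹ = x⁻¹ := by
    intro y hy
    calc (g * y) * x * (g * y)⁻¹ = g * (y * x) * y⁻¹ * g⁻¹ := by group
      _ = g * x * g⁻¹ := by rw [hy]; group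
      _ = x⁻¹ := h.gx
  have h1 : ∀ y : G, y * x = x * y → (g * y * z) * x * (g * y * z)⁻¹ = x⁻¹ := by
    intro y hy
    rw [mul_assoc g y z]
    refine h0 _ ?_
    rw [mul_assoc, ← h.hyp.xz, ← mul_assoc, hy, mul_assoc]
  have hij : (i * j) * x = x * (i * j) := by rw [mul_assoc, h.hyp.jx, ← mul_assoc, h.hyp.ix, mul_assoc]
  fin_cases q
  · exact h0 _ h.hyp.ix
  · exact h1 _ h.hyp.ix
  · exact h0 _ h.hyp.jx
  · exact h1 _ h.hyp.jx
  · exact h0 _ hij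
  · exact h1 _ hij

theorem Ab.x_ne (h : Ab x z i j g P O) : x ≠ 1 := by
  intro h1
  have h2 := h.hyp.xo
  rw [h1, orderOf_one] at h2
  norm_num at h2

theorem Ab.wq_ne (h : Ab x z i j g P O) (q : Fin 6) : Wq z i j g q ≠ 1 := by
  intro h1
  have h2 := h.wq_x q
  rw [h1, one_mul, inv_one, mul_one] at h2
  exact h.x_ne (h.eq_one_of_eq_inv h.out.xP h2)

/-- the action of the six involutions -/
theorem Bas.wq_en (h : Ab x z i j g P O) {v m : G} (b : Bas x z i j P v m) (hg : g * v * g⁻¹ = v ^ 2)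
    (q : Fin 6) (s : ZMod 5 × ZMod 5) :
    Wq z i j g q * En x v m (0, s) * (Wq z i j g q)⁻¹ = En x v m (0, Mq q s) := by
  have hv5 := h.out.exp v b.vP
  have hm5 := h.out.exp m b.mP
  have e0 : ∀ t : ZMod 5 × ZMod 5, En x v m (0, t) = pw v t.1 * pw m t.2 := by
    intro t; rw [En, pw_zero, one_mul]
  have hc : ∀ a c : ZMod 5, pw v a * pw m c = pw m c * pw v a := fun a c =>
    h.ab _ (pw_mem b.vP _) _ (pw_mem b.mP _)
  -- the action of each of the generators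
  have hgm : g * m * g⁻¹ = m ^ 2 := by
    have hgj := h.gj
    have hgj' : j⁻¹ * g⁻¹ = g⁻¹ * j⁻¹ := by rw [← mul_inv_rev, ← mul_inv_rev, hgj]
    calc g * m * g⁻¹ = (g * j) * v * (j⁻¹ * g⁻¹) := by rw [← b.jv]; group
      _ = j * (g * v * g⁻¹) * j⁻¹ := by rw [hgj, hgj']; group
      _ = m ^ 2 := by rw [hg, ← conj_pow, b.jv]
  have i1 : ∀ (y : G), y ^ 5 = 1 → ∀ a : ZMod 5, pw y⁻¹ a = pw y (-a) := by
    intro y hy a
    rw [pw_neg hy, pw, pw, inv_pow]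
  have cm2 : ∀ w a b : G, w * (a * b) * w⁻¹ = (w * a * w⁻¹) * (w * b * w⁻¹) := by intros; group
  have ag : ∀ a c : ZMod 5, g * (pw v a * pw m c) * g⁻¹ = pw v (2 * a) * pw m (2 * c) := by
    intro a c
    rw [cm2, conj_pw, conj_pw, hg, hgm, pw_pow hv5, pw_pow hm5]; rfl
  have ai : ∀ a c : ZMod 5, i * (pw v a * pw m c) * i⁻¹ = pw v (2 * a) * pw m (3 * c) := by
    intro a c
    rw [cm2, conj_pw, conj_pw, b.iv, b.im, pw_pow hv5, pw_pow hm5]; rfl
  have aj : ∀ a c : ZMod 5, j * (pw v a * pw m c) * j⁻¹ = pw v (-c) * pw m a := by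
    intro a c
    rw [cm2, conj_pw, conj_pw, b.jv, b.jm, i1 v hv5, hc]
  have az : ∀ a c : ZMod 5, z * (pw v a * pw m c) * z⁻¹ = pw v (-a) * pw m (-c) := by
    intro a c
    rw [cm2, conj_pw, conj_pw, b.zv, b.zm, i1 v hv5, i1 m hm5]
  have comp : ∀ w y u : G, (w * y) * u * (w * y)⁻¹ = w * (y * u * y⁻¹) * w⁻¹ := by intros; group
  obtain ⟨a, c⟩ := s
  rw [e0, e0]
  have f5 : ∀ a : ZMod 5, 2 * (2 * a) = -a ∧ 2 * (3 * a) = a ∧ 2 * (2 * -a) = a ∧ 2 * (3 * -a) = -a ∧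
      2 * -a = 3 * a ∧ 2 * - -a = 2 * a ∧ 3 * (-a) = 2 * a := by decide
  fin_cases q
  · show g * i * (pw v a * pw m c) * (g * i)⁻¹ = pw v (-a) * pw m c
    rw [comp, ai, ag, (f5 a).1, (f5 c).2.1]
  · show g * i * z * (pw v a * pw m c) * (g * i * z)⁻¹ = pw v a * pw m (-c)
    rw [comp, az, comp, ai, ag, (f5 a).2.2.1, (f5 c).2.2.2.1]
  · show g * j * (pw v a * pw m c) * (g * j)⁻¹ = pw v (3 * c) * pw m (2 * a)
    rw [comp, aj, ag, (f5 c).2.2.2.2.1]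
  · show g * j * z * (pw v a * pw m c) * (g * j * z)⁻¹ = pw v (2 * c) * pw m (3 * a)
    rw [comp, az, comp, aj, ag, (f5 c).2.2.2.2.2.1, (f5 a).2.2.2.2.1]
  · show g * (i * j) * (pw v a * pw m c) * (g * (i * j))⁻¹ = pw v c * pw m a
    rw [comp, comp, aj, ai, ag, (f5 c).2.2.1, (f5 a).2.1]
  · show g * (i * j) * z * (pw v a * pw m c) * (g * (i * j) * z)⁻¹ = pw v (-c) * pw m (-a)
    rw [comp, az, comp, comp, aj, ai, ag, neg_neg, (f5 c).1, (f5 a).2.2.2.1]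

theorem mq_fix : ∀ s : ZMod 5 × ZMod 5, ∃ q : Fin 6, Mq q s = s := by decide

set_option maxRecDepth 100000 in
theorem mq_orth' : ∀ s t : ZMod 5 × ZMod 5, ∀ q : Fin 6, (s ≠ 0 ∧ t ≠ 0 ∧ Mq q s = s ∧ Mq q t = -t) →
    ∃ q' : Fin 6, Mq q' (s + t) = s + t ∧ Mq q' (s - t) = -(s - t) := by decide

theorem mq_orth (s t : ZMod 5 × ZMod 5) (hs : s ≠ 0) (ht : t ≠ 0) (q : Fin 6) (h1 : Mq q s = s)
    (h2 : Mq q t = -t) : ∃ q' : Fin 6, Mq q' (s + t) = s + t ∧ Mq q' (s - t) = -(s - t) :=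
  mq_orth' s t q ⟨hs, ht, h1, h2⟩

/-- moving a nontrivial element of `P` centralised by an involution into `⟨x⟩`; the elements orthogonal to it are
moved into `[P, z]` -/
theorem Ab.move_orth [Finite G] (h : Ab x z i j g P O) {v m : G} (b : Bas x z i j P v m) {a s : G} (ha : a ∈ P)
    (ha1 : a ≠ 1) (hs : s * s = 1) (hs1 : s ≠ 1) (hsa : s * a = a * s) :
    ∃ c : G, c * a * c⁻¹ ∈ zpowers x ∧ (∀ u ∈ P, c * u * c⁻¹ ∈ P) ∧
      ∀ u ∈ P, Orth a u → ∃ t : ZMod 5 × ZMod 5, En x v m (0, t) = c * u * c⁻¹ := by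
  obtain ⟨c, hc, hcx, hcP⟩ := h.move ha ha1 hs hs1 hsa
  refine ⟨c, hc, hcP, ?_⟩
  rintro u hu ⟨t, ht, ht1, hta, htu⟩
  refine b.inverted h (hcP u hu) ?_
  have h1 : (c * t * c⁻¹) * (c * t * c⁻¹) = 1 := by
    calc (c * t * c⁻¹) * (c * t * c⁻¹) = c * (t * t) * c⁻¹ := by group
      _ = 1 := by rw [ht]; group
  have h2 : c * t * c⁻¹ ≠ 1 := by
    intro h3
    apply ht1
    calc t = c⁻¹ * (c * t * c⁻¹) * c := by group
      _ = 1 := by rw [h3]; group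
  rw [← h.invol h1 h2 (hcx t hta) (hcP u hu)]
  calc c * t * c⁻¹ * (c * u * c⁻¹) * (c * t * c⁻¹)⁻¹ = c * (t * u * t⁻¹) * c⁻¹ := by group
    _ = (c * u * c⁻¹)⁻¹ := by rw [htu]; group

theorem Ab.orth_symm [Finite G] (h : Ab x z i j g P O) {v m : G} (b : Bas x z i j P v m)
    (hg : g * v * g⁻¹ = v ^ 2) {a u : G} (ha : a ∈ P) (ha1 : a ≠ 1) (hu : u ∈ P) (hau : Orth a u) :
    Orth u a := by
  obtain ⟨s, hs, hs1, hsa, -⟩ := id hau
  obtain ⟨c, hc, hcP, hcu⟩ := h.move_orth b ha ha1 hs hs1 hsa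
  obtain ⟨t, ht⟩ := hcu u hu hau
  obtain ⟨q, hq⟩ := mq_fix t
  refine Orth.of_conj (c := c) ⟨Wq z i j g q, h.wq_sq q, h.wq_ne q, ?_, ?_⟩
  · rw [← ht]
    have h1 := b.wq_en h hg q t
    rw [hq] at h1
    exact mul_inv_eq_iff_eq_mul.1 h1
  · obtain ⟨k, hk⟩ := hc
    rw [← hk]
    show Wq z i j g q * x ^ k * (Wq z i j g q)⁻¹ = (x ^ k)⁻¹
    rw [← conj_zpow, h.wq_x, inv_zpow]

theorem Ab.orth_three [Finite G] (h : Ab x z i j g P O) {v m : G} (b : Bas x z i j P v m)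
    (hg : g * v * g⁻¹ = v ^ 2) {a u w : G} (ha : a ∈ P) (ha1 : a ≠ 1) (hu : u ∈ P) (hu1 : u ≠ 1) (hw : w ∈ P)
    (hw1 : w ≠ 1) (hau : Orth a u) (haw : Orth a w) (huw : Orth u w) : Orth (u * w) (u * w⁻¹) := by
  obtain ⟨s, hs, hs1, hsa, -⟩ := id hau
  obtain ⟨c, hc, hcP, hcu⟩ := h.move_orth b ha ha1 hs hs1 hsa
  obtain ⟨t, ht⟩ := hcu u hu hau
  obtain ⟨r, hr⟩ := hcu w hw haw
  obtain ⟨q, hq⟩ := mq_fix t
  have h1 := b.wq_en h hg q t
  rw [hq] at h1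
  have h2 : Wq z i j g q * En x v m (0, t) = En x v m (0, t) * Wq z i j g q := mul_inv_eq_iff_eq_mul.1 h1
  have h3 := huw.conj c
  rw [← ht, ← hr] at h3
  obtain ⟨y, hy, hy1, hyt, hyr⟩ := h3
  have htne : En x v m (0, t) ≠ 1 := by
    rw [ht]
    intro h4
    apply hu1
    calc u = c⁻¹ * (c * u * c⁻¹) * c := by group
      _ = 1 := by rw [h4]; group
  have h4 := h.same (b.en_mem h (0, t)) htne (h.wq_sq q) (h.wq_ne q) h2 hy hy1 hyt (b.en_mem h (0, r))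
  rw [hyr, b.wq_en h hg, ← b.en_neg h] at h4
  have h5 : Mq q r = -r := congrArg Prod.snd (b.en_injective h h4)
  have en0 : En x v m (0, 0) = 1 := by
    show pw x 0 * (pw v 0 * pw m 0) = 1
    rw [pw_zero, pw_zero, pw_zero, one_mul, one_mul]
  have ht0 : t ≠ 0 := by
    rintro rfl
    exact htne en0
  have hr0 : r ≠ 0 := by
    rintro rfl
    rw [en0] at hr
    apply hw1
    calc w = c⁻¹ * (c * w * c⁻¹) * c := by group
      _ = 1 := by rw [← hr]; group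
  obtain ⟨q', hq1, hq2⟩ := mq_orth t r ht0 hr0 q hq h5
  have e1 : c * (u * w) * c⁻¹ = En x v m (0, t + r) := by
    calc c * (u * w) * c⁻¹ = (c * u * c⁻¹) * (c * w * c⁻¹) := by group
      _ = En x v m ((0, t) + (0, r)) := by rw [← ht, ← hr, b.en_add h]
      _ = En x v m (0, t + r) := by rw [Prod.mk_add_mk, add_zero]
  have e2 : c * (u * w⁻¹) * c⁻¹ = En x v m (0, t - r) := by
    calc c * (u * w⁻¹) * c⁻¹ = (c * u * c⁻¹) * (c * w * c⁻¹)⁻¹ := by group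
      _ = En x v m ((0, t) + -(0, r)) := by rw [← ht, ← hr, b.en_add h, b.en_neg h]
      _ = En x v m (0, t - r) := by rw [← sub_eq_add_neg, Prod.mk_sub_mk, sub_zero]
  refine Orth.of_conj (c := c) ⟨Wq z i j g q', h.wq_sq q', h.wq_ne q', ?_, ?_⟩
  · rw [e1]
    have h6 := b.wq_en h hg q' (t + r)
    rw [hq1] at h6
    exact mul_inv_eq_iff_eq_mul.1 h6
  · rw [e2, b.wq_en h hg, hq2, ← b.en_neg h]
    congr 1
    ext1
    · exact neg_zero.symm
    · rfl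

/-- there is no polarity with these properties -/
theorem pol_contra {R : ZMod 5 × ZMod 5 × ZMod 5 → ZMod 5 × ZMod 5 × ZMod 5 → Prop}
    (radd : ∀ s t r u, s ≠ 0 → t + r = u → R s t → R s r → R s u)
    (rsymm : ∀ s t, s ≠ 0 → R s t → R t s)
    (rthree : ∀ s t r u w, s ≠ 0 → t ≠ 0 → r ≠ 0 → t + r = u → t - r = w → R s t → R s r → R t r → R u w)
    (rneg : ∀ s t u, s ≠ 0 → -t = u → R s t → R s u)
    (rirr : ∀ s, s ≠ 0 → ¬ R s s) (r1 : R (1, 0, 0) (0, 1, 0)) (r2 : R (1, 0, 0) (0, 0, 1))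
    (r3 : R (0, 1, 0) (0, 0, 1)) : False := by
  have n1 : ((1, 0, 0) : ZMod 5 × ZMod 5 × ZMod 5) ≠ 0 := by decide
  have n2 : ((0, 1, 0) : ZMod 5 × ZMod 5 × ZMod 5) ≠ 0 := by decide
  have n3 : ((0, 0, 1) : ZMod 5 × ZMod 5 × ZMod 5) ≠ 0 := by decide
  have n4 : ((0, 1, 2) : ZMod 5 × ZMod 5 × ZMod 5) ≠ 0 := by decide
  have n5 : ((1, -1, 0) : ZMod 5 × ZMod 5 × ZMod 5) ≠ 0 := by decide
  have n6 : ((0, 1, -1) : ZMod 5 × ZMod 5 × ZMod 5) ≠ 0 := by decide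
  have n7 : ((1, 1, 1) : ZMod 5 × ZMod 5 × ZMod 5) ≠ 0 := by decide
  have n8 : ((1, 1, -2) : ZMod 5 × ZMod 5 × ZMod 5) ≠ 0 := by decide
  -- `x ⊥ m²`, `v ⊥ m²`
  have r4 : R (1, 0, 0) (0, 0, 2) := radd _ _ _ _ n1 (by decide) r2 r2
  have r5 : R (0, 1, 0) (0, 0, 2) := radd _ _ _ _ n2 (by decide) r3 r3
  have r6 : R (0, 1, 1) (0, 1, -1) := rthree _ _ _ _ _ n1 n2 n3 (by decide) (by decide) r1 r2 r3
  have r7 : R (0, 1, 2) (0, 1, -2) := rthree _ _ _ _ _ n1 n2 (by decide) (by decide) (by decide) r1 r4 r5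
  have r8 : R (1, 1, 0) (1, -1, 0) :=
    rthree _ _ _ _ _ n3 n1 n2 (by decide) (by decide) (rsymm _ _ n1 r2) (rsymm _ _ n2 r3) r1
  -- (A) `y2 = (1, 1, -2) ⊥ (0, 1, 2)`
  have a1 : R (1, 0, 0) (0, 1, 2) := radd _ _ _ _ n1 (by decide) r1 r4
  have a2 : R (0, 1, 2) (1, 1, -2) := radd _ _ _ _ n4 (by decide) (rsymm _ _ n1 a1) r7
  have a3 : R (1, 1, -2) (0, 1, 2) := rsymm _ _ n4 a2
  -- (B) `y2 ⊥ (1, -1, 0)`
  have b1 : R (1, -1, 0) (1, 1, 0) := rsymm _ _ (by decide) r8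
  have b0 : R (0, 0, 1) (0, -1, 0) := rneg _ _ _ n3 (by decide) (rsymm _ _ n2 r3)
  have b2 : R (0, 0, 1) (1, -1, 0) := radd _ _ _ _ n3 (by decide) (rsymm _ _ n1 r2) b0
  have b3 : R (1, -1, 0) (0, 0, 1) := rsymm _ _ n3 b2
  have b6 : R (1, -1, 0) (0, 0, -1) := rneg _ _ _ n5 (by decide) b3
  have b7 : R (1, -1, 0) (1, 1, -1) := radd _ _ _ _ n5 (by decide) b1 b6
  have b4 : R (1, -1, 0) (1, 1, -2) := radd _ _ _ _ n5 (by decide) b7 b6
  have b5 : R (1, 1, -2) (1, -1, 0) := rsymm _ _ n5 b4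
  -- (C) `y2 ⊥ (1, 1, 1)`
  have c0 : R (1, 0, 0) (0, 0, -1) := rneg _ _ _ n1 (by decide) r2
  have c01 : R (1, 0, 0) (0, 1, -1) := radd _ _ _ _ n1 (by decide) r1 c0
  have c02 : R (0, 1, -1) (0, 1, 1) := rsymm _ _ (by decide) r6
  have c1 : R (0, 1, -1) (1, 1, 1) := radd _ _ _ _ n6 (by decide) (rsymm _ _ n1 c01) c02
  have c2 : R (1, 1, 1) (0, 1, -1) := rsymm _ _ n6 c1
  have c3 : R (1, -1, 0) (1, 1, 1) := radd _ _ _ _ n5 (by decide) b1 b3
  have c4 : R (1, 1, 1) (1, -1, 0) := rsymm _ _ n5 c3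
  have c44 : R (1, 1, 1) (0, 2, -2) := radd _ _ _ _ n7 (by decide) c2 c2
  have c5 : R (1, 1, 1) (1, 1, -2) := radd _ _ _ _ n7 (by decide) c44 c4
  have c6 : R (1, 1, -2) (1, 1, 1) := rsymm _ _ n7 c5
  -- `y2 ⊥ y2`
  have d0 : R (1, 1, -2) (0, 2, 4) := radd _ _ _ _ n8 (by decide) a3 a3
  have d1 : R (1, 1, -2) (0, 3, 1) := radd _ _ _ _ n8 (by decide) d0 a3
  have d2 : R (1, 1, -2) (-1, 1, 0) := rneg _ _ _ n8 (by decide) b5
  have d3 : R (1, 1, -2) (2, 2, 2) := radd _ _ _ _ n8 (by decide) c6 c6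
  have d4 : R (1, 1, -2) (-1, 4, 1) := radd _ _ _ _ n8 (by decide) d1 d2
  have d5 : R (1, 1, -2) (1, 1, -2) := radd _ _ _ _ n8 (by decide) d4 d3
  exact rirr _ n8 d5

/-- the contradiction -/
theorem Ab.false_of [Finite G] (h : Ab x z i j g P O) {v m : G} (b : Bas x z i j P v m)
    (hg : g * v * g⁻¹ = v ^ 2) : False := by
  have hne : ∀ s, s ≠ 0 → En x v m s ≠ 1 := fun s hs h1 => hs (b.en_inj h h1)
  have hmem := b.en_mem h
  have hx : En x v m (1, 0, 0) = x := by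
    show pw x 1 * (pw v 0 * pw m 0) = x
    rw [pw_zero, pw_zero, mul_one, mul_one, pw_one]
  have radd : ∀ s t r u, s ≠ 0 → t + r = u → Orth (En x v m s) (En x v m t) →
      Orth (En x v m s) (En x v m r) → Orth (En x v m s) (En x v m u) := by
    rintro s t r _ hs rfl h1 h2
    rw [b.en_add h]
    exact h.orth_mul (hmem s) (hne s hs) (hmem t) (hmem r) h1 h2
  refine pol_contra (R := fun s t => Orth (En x v m s) (En x v m t)) radd ?_ ?_ ?_ ?_ ?_ ?_ ?_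
  · intro s t hs h1
    exact h.orth_symm b hg (hmem s) (hne s hs) (hmem t) h1
  · rintro s t r _ _ hs ht hr rfl rfl h1 h2 h3
    show Orth (En x v m (t + r)) (En x v m (t - r))
    rw [b.en_add h, sub_eq_add_neg, b.en_add h, b.en_neg h]
    exact h.orth_three b hg (hmem s) (hne s hs) (hmem t) (hne t ht) (hmem r) (hne r hr) h1 h2 h3
  · rintro s t _ hs rfl h1
    have h3 : t + t + t + t = -t := by
      have h4 : ∀ a : ZMod 5, a + a + a + a = -a := by decide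
      ext
      · exact h4 _
      · exact h4 _
      · exact h4 _
    exact radd s (t + t + t) t (-t) hs h3 (radd s (t + t) t _ hs rfl (radd s t t _ hs rfl h1 h1) h1) h1
  · intro s hs
    exact h.not_orth (hmem s) (hne s hs)
  · refine ⟨z, h.hyp.zz, h.hyp.z1, ?_, ?_⟩
    · rw [hx]; exact h.hyp.xz.symm
    · rw [b.en_z h, ← b.en_neg h]; rfl
  · refine ⟨z, h.hyp.zz, h.hyp.z1, ?_, ?_⟩
    · rw [hx]; exact h.hyp.xz.symm
    · rw [b.en_z h, ← b.en_neg h]; rfl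
  · refine ⟨Wq z i j g 1, h.wq_sq 1, h.wq_ne 1, ?_, ?_⟩
    · have h6 := b.wq_en h hg 1 (1, 0)
      exact mul_inv_eq_iff_eq_mul.1 h6
    · rw [b.wq_en h hg 1 (0, 1), ← b.en_neg h]; rfl

/-- in the abelian case there is a contradiction -/
theorem Ab.false [Finite G] (h : Ab x z i j g P O) : False := by
  obtain ⟨v, m, b⟩ := h.exists_bas
  rcases b.g_scalar h with hg | hg
  · exact h.false_of b hg
  · have hzi : z⁻¹ = z := inv_eq_of_mul_eq_one_left h.hyp.zz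
    have h' : Ab x z i j g⁻¹ P O :=
      { hyp := h.hyp
        out := h.out
        ab := h.ab
        gx := by
          have h4 : (g * x * g⁻¹)⁻¹ = x := by rw [h.gx, inv_inv]
          calc g⁻¹ * x * g⁻¹⁻¹ = g⁻¹ * (g * x * g⁻¹)⁻¹ * g := by rw [h4]; group
            _ = x⁻¹ := by group
        gg := by rw [← mul_inv_rev, h.gg, hzi]
        gi := ((show Commute g i from h.gi).inv_left).eq
        gj := ((show Commute g j from h.gj).inv_left).eq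
        conj := h.conj }
    refine h'.false_of b ?_
    have hv5 := h.out.exp v b.vP
    have h1 : g * v ^ 2 * g⁻¹ = v := by
      rw [← conj_pow, hg, ← pow_mul, show 3 * 2 = 5 + 1 from rfl, pow_add, hv5, one_mul, pow_one]
    calc g⁻¹ * v * g⁻¹⁻¹ = g⁻¹ * (g * v ^ 2 * g⁻¹) * g := by rw [h1]; group
      _ = v ^ 2 := by group

end

end Cfsg.Agent.H757.RvT
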