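import Cfsg.Agent.H757.ThLoc
import Cfsg.Agent.H757.RvPol
import Cfsg.Agent.ThType.SqRulesMain
import Cfsg.Agent.ThType.NormE
import Cfsg.Agent.ThType.FusS
import Cfsg.Agent.Sigma.ThRow

/-!
# The Thompson group at the prime 5 (helper757, for S5207)
-/

set_option autoImplicit false

namespace Cfsg.Agent.H757.ThF

open Subgroup Cfsg Cfsg.Agent.Th Cfsg.Agent.Th.Base Cfsg.Agent.Th.IndexUpper Cfsg.Agent.ThType.SpinData

universe u

/-- if `p ^ 2` does not divide `|H|` then elements of order `p` are conjugate into `⟨x⟩` -/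
theorem conj_of_prime {H : Type u} [Group H] [Finite H] {p : ℕ} (hp : p.Prime) (hH : ¬ p ^ 2 ∣ Nat.card H)
    {x u : H} (hx : orderOf x = p) (hu : u ^ p = 1) : ∃ g : H, g * u * g⁻¹ ∈ zpowers x := by
  have : Fact p.Prime := ⟨hp⟩
  have h1 : IsPGroup p (zpowers x) := IsPGroup.of_card (n := 1) (by rw [Nat.card_zpowers, hx, pow_one])
  have h2 : ¬ p ∣ (zpowers x).index := by
    rintro ⟨k, hk⟩
    apply hH
    rw [← card_mul_index (zpowers x), Nat.card_zpowers, hx, hk]
    exact ⟨k, by ring⟩
  have h3 : IsPGroup p (zpowers u) := by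
    have h4 : Nat.card (zpowers u) ∣ p := by rw [Nat.card_zpowers]; exact orderOf_dvd_of_pow_eq_one hu
    obtain ⟨k, -, hk⟩ := (Nat.dvd_prime_pow hp).1 (by rw [pow_one]; exact h4 : Nat.card (zpowers u) ∣ p ^ 1)
    exact IsPGroup.of_card hk
  obtain ⟨R, hR⟩ := h3.exists_le_sylow
  obtain ⟨g, hg⟩ := MulAction.exists_smul_eq H R (h1.toSylow h2)
  refine ⟨g, ?_⟩
  have h4 : u ∈ R := hR (mem_zpowers u)
  have h5 : g * u * g⁻¹ ∈ g • R := by
    show g * u * g⁻¹ ∈ ((g • R : Sylow p H) : Subgroup H)
    rw [Sylow.coe_subgroup_smul, Subgroup.mem_pointwise_smul_iff_inv_smul_mem]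
    have h6 : (MulAut.conj g)⁻¹ • (g * u * g⁻¹) = u := by
      rw [← map_inv, MulAut.smul_def, MulAut.conj_apply]; group
    rw [h6]
    exact h4
  rw [hg] at h5
  exact (IsPGroup.mem_toSylow _ _).1 h5

theorem sqRules {G : Type*} [Group G] [Finite G] [IsSimpleGroup G] {z : G} (S : SpinAt G z) :
    Cfsg.Agent.ThType.SqRules.SqRules S := by
  have hF := ThType.FusS.exists_conj_mem S
  exact ThType.SqRulesMain.sqRules S (E := ThType.ElemE.El S 8) (fun _ => ThType.ElemE.mem_El_eight S)
    (fun _ hp hp1 => ThType.NormE.exists_trans S hF hp hp1) (fun _ hx => ThType.NormE.centralizer_El_eight S hx)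

/-- the squares of the products of the three involutions -/
theorem pairs {G : Type*} [Group G] {x z i j g : G} (h : RvT.Hyp 5 x z i j) (hgg : g * g = z)
    (hgi : g * i = i * g) (hgj : g * j = j * g) (a b : Fin 3) (hab : a ≠ b) :
    (![g * i, g * j, g * (i * j)] a * ![g * i, g * j, g * (i * j)] b) *
      (![g * i, g * j, g * (i * j)] a * ![g * i, g * j, g * (i * j)] b) = z := by
  have hzi : z * i = i * z := by rw [← h.ii, mul_assoc]
  have hzj : z * j = j * z := by rw [← h.jj, mul_assoc]
  have hzz := h.zz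
  have hji : j * i = i * j * z := by rw [h.ij, mul_assoc, hzz, mul_one]
  have hzij : z * (i * j) = i * j * z := by rw [← mul_assoc, hzi, mul_assoc, hzj, mul_assoc]
  have hgij : g * (i * j) = i * j * g := by rw [← mul_assoc, hgi, mul_assoc, hgj, mul_assoc]
  have hijij : i * j * (i * j) = z := by
    calc i * j * (i * j) = i * (j * i) * j := by group
      _ = (i * i) * j * (z * j) := by rw [hji]; group
      _ = z * (j * j) * z := by rw [hzj, h.ii]; group
      _ = z := by rw [h.jj, hzz, one_mul]
  -- reduction to the quaternion group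
  have key : ∀ c d : G, g * c = c * g → z * c = c * z → z * d = d * z → (c * d) * (c * d) = z →
      (g * c * (g * d)) * (g * c * (g * d)) = z := by
    intro c d hc hzc hzd hcd
    have h1 : g * c * (g * d) = z * (c * d) := by
      calc g * c * (g * d) = g * (c * g) * d := by group
        _ = (g * g) * c * d := by rw [← hc]; group
        _ = z * (c * d) := by rw [hgg]; group
    have h2 : z * (c * d) = (c * d) * z := by rw [← mul_assoc, hzc, mul_assoc, hzd, mul_assoc]
    rw [h1]
    calc z * (c * d) * (z * (c * d)) = z * ((c * d) * z) * (c * d) := by group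
      _ = (z * z) * ((c * d) * (c * d)) := by rw [← h2]; group
      _ = z := by rw [hzz, hcd, one_mul]
  have p1 : (j * i) * (j * i) = z := by
    rw [hji]
    calc i * j * z * (i * j * z) = (i * j) * (z * (i * j)) * z := by group
      _ = (i * j * (i * j)) * (z * z) := by rw [hzij]; group
      _ = z := by rw [hijij, hzz, mul_one]
  have p2 : (i * (i * j)) * (i * (i * j)) = z := by
    have e : i * (i * j) = z * j := by rw [← mul_assoc, h.ii]
    rw [e]
    calc z * j * (z * j) = z * (j * z) * j := by group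
      _ = (z * z) * (j * j) := by rw [← hzj]; group
      _ = z := by rw [hzz, h.jj, one_mul]
  have p3 : ((i * j) * i) * ((i * j) * i) = z := by
    have e : (i * j) * i = j := by
      calc (i * j) * i = i * (j * i) := by group
        _ = (i * i) * j * z := by rw [hji]; group
        _ = (z * j) * z := by rw [h.ii]
        _ = j * (z * z) := by rw [hzj]; group
        _ = j := by rw [hzz, mul_one]
    rw [e, h.jj]
  have p4 : (j * (i * j)) * (j * (i * j)) = z := by
    have e : j * (i * j) = i := by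
      calc j * (i * j) = (j * i) * j := by group
        _ = i * j * (z * j) := by rw [hji]; group
        _ = i * (j * j) * z := by rw [hzj]; group
        _ = i * (z * z) := by rw [h.jj]; group
        _ = i := by rw [hzz, mul_one]
    rw [e, h.ii]
  have p5 : ((i * j) * j) * ((i * j) * j) = z := by
    have e : (i * j) * j = i * z := by rw [mul_assoc, h.jj]
    rw [e]
    calc i * z * (i * z) = i * (z * i) * z := by group
      _ = (i * i) * (z * z) := by rw [hzi]; group
      _ = z := by rw [hzz, h.ii, mul_one]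
  fin_cases a <;> fin_cases b
  · exact absurd rfl hab
  · exact key i j hgi hzi hzj hijij
  · exact key i (i * j) hgi hzi hzij p2
  · exact key j i hgj hzj hzi p1
  · exact absurd rfl hab
  · exact key j (i * j) hgj hzj hzij p4
  · exact key (i * j) i hgij hzij hzi p3
  · exact key (i * j) j hgij hzij hzj p5
  · exact absurd rfl hab

/-- **the Thompson group has three pairwise noncommuting classes of 5-central subgroups in a Sylow 5-subgroup** -/
theorem target [Fact (Nat.Prime 5)] : H773.Rv.TargetThree 5 := by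
  have hs : IsSimpleGroup Cfsg.Spor.Th := Main1700.isTh.1
  have hf : Finite Cfsg.Spor.Th := Main1700.final.1
  obtain ⟨S⟩ := Sigma.ThRow.exists_spin
  have hcard : Nat.card Cfsg.Spor.Th = 90745943887872000 := Main1700.isTh.2
  have hcz : Nat.card (centralizer ({gTh 1} : Set Cfsg.Spor.Th)) = 92897280 :=
    MonsterX.ThOneClass.card_centralizer MonsterX.ThOneClass.orderOf_a
  obtain ⟨z, hz⟩ : ∃ z, z = gTh 1 := ⟨_, rfl⟩
  rw [← hz] at S hcz
  obtain ⟨x, i, j, g, hyp, hgx, hgg, hgi, hgj⟩ := exists_data S (sqRules S)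
  have h5 : ¬ 5 ^ 2 ∣ Nat.card (centralizer ({z} : Set Cfsg.Spor.Th)) := by
    rw [hcz]; norm_num
  obtain ⟨P, O, out⟩ := RvT.exists_out hyp (by norm_num) (by decide) (by rw [hcard]; norm_num)
    (by rw [hcard]; norm_num) h5
  -- fusion of the elements centralised by an involution
  have hconj : ∀ a : Cfsg.Spor.Th, a ^ 5 = 1 → ∀ s : Cfsg.Spor.Th, s * s = 1 → s ≠ 1 → s * a = a * s →
      ∃ c : Cfsg.Spor.Th, c * a * c⁻¹ ∈ zpowers x := by
    intro a ha s hs1 hs2 hsa
    have h1 : orderOf s = 2 := orderOf_eq_prime (by rw [pow_two]; exact hs1) hs2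
    obtain ⟨c, hc⟩ := isConj_iff.1 (MonsterX.ThOneClass.oneClass s (gTh 1) h1 MonsterX.ThOneClass.orderOf_a)
    rw [← hz] at hc
    have h2 : (c * a * c⁻¹) * z = z * (c * a * c⁻¹) := by
      rw [← hc]
      calc (c * a * c⁻¹) * (c * s * c⁻¹) = c * (a * s) * c⁻¹ := by group
        _ = c * (s * a) * c⁻¹ := by rw [hsa]
        _ = (c * s * c⁻¹) * (c * a * c⁻¹) := by group
    obtain ⟨d, k, hk⟩ := conj_of_prime (H := centralizer ({z} : Set Cfsg.Spor.Th)) (by norm_num : Nat.Prime 5) h5
      (x := ⟨x, mem_centralizer_singleton_iff.2 hyp.xz⟩)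
      (u := ⟨c * a * c⁻¹, mem_centralizer_singleton_iff.2 h2⟩)
      (by rw [← Subgroup.orderOf_coe]; exact hyp.xo)
      (Subtype.ext (by
        show (c * a * c⁻¹) ^ 5 = 1
        rw [conj_pow, ha, mul_one, mul_inv_cancel]))
    refine ⟨d * c, k, ?_⟩
    have h3 : x ^ k = (d : Cfsg.Spor.Th) * (c * a * c⁻¹) * (d : Cfsg.Spor.Th)⁻¹ := congrArg Subtype.val hk
    show x ^ k = d * c * a * (d * c)⁻¹
    rw [h3]; group
  refine ⟨Cfsg.Spor.Th, inferInstance, hf, P, out.card, out.exp, ?_⟩
  by_cases hab : ∀ a ∈ P, ∀ b ∈ P, a * b = b * a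
  · -- the abelian case is impossible
    exfalso
    refine RvT.Ab.false (x := x) (z := z) (i := i) (j := j) (g := g) (P := P) (O := O)
      { hyp := hyp
        out := out
        ab := hab
        gx := hgx
        gg := hgg
        gi := hgi
        gj := hgj
        conj := fun a ha _ s hs1 hs2 hsa => hconj a (out.exp a ha) s hs1 hs2 hsa }
  · push Not at hab
    have hzi : z * i = i * z := by rw [← hyp.ii, mul_assoc]
    have hzj : z * j = j * z := by rw [← hyp.jj, mul_assoc]
    have hgij : g * (i * j) = (i * j) * g := by rw [← mul_assoc, hgi, mul_assoc, hgj, mul_assoc]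
    have hijij : i * j * (i * j) = z := by
      have hji : j * i = i * j * z := by rw [hyp.ij, mul_assoc, hyp.zz, mul_one]
      calc i * j * (i * j) = i * (j * i) * j := by group
        _ = (i * i) * j * (z * j) := by rw [hji]; group
        _ = z * (j * j) * z := by rw [hzj, hyp.ii]; group
        _ = z := by rw [hyp.jj, hyp.zz, one_mul]
    have hijx : (i * j) * x = x * (i * j) := by rw [mul_assoc, hyp.jx, ← mul_assoc, hyp.ix, mul_assoc]
    have hinv : ∀ c : Cfsg.Spor.Th, c * x = x * c → (g * c) * x * (g * c)⁻¹ = x⁻¹ := by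
      intro c hc
      calc (g * c) * x * (g * c)⁻¹ = g * (c * x) * c⁻¹ * g⁻¹ := by group
        _ = g * x * g⁻¹ := by rw [hc]; group
        _ = x⁻¹ := hgx
    refine out.three (by norm_num) (by decide) hyp.xo hab ![g * i, g * j, g * (i * j)] ?_ ?_
      (pairs hyp hgg hgi hgj) ?_
    · intro a
      fin_cases a
      · exact RvT.sq_aux hgi hgg hyp.ii hyp.zz
      · exact RvT.sq_aux hgj hgg hyp.jj hyp.zz
      · exact RvT.sq_aux hgij hgg hijij hyp.zz
    · intro a
      fin_cases a
      · exact hinv i hyp.ix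
      · exact hinv j hyp.jx
      · exact hinv _ hijx
    · intro a ha _ s hs1 hs2 hsa
      obtain ⟨c, k, hk⟩ := hconj a (out.exp a ha) s hs1 hs2 hsa
      exact ⟨k, isConj_iff.2 ⟨c, hk.symm⟩⟩

end Cfsg.Agent.H757.ThF
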