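import Cfsg.Agent.ThType.Squares
import Cfsg.Agent.ThType.SqRules
import Cfsg.Agent.H757.ThPerm
import Cfsg.Agent.H757.RvTools

/-!
# Elements of order 5 of `C(z)`, `z` an involution of Thompson type (helper757, for S5207)
-/

set_option autoImplicit false

namespace Cfsg.Agent.H757.ThF

open Equiv Cfsg.Agent.ThType.SpinData Cfsg.Agent.ThType.Squares

def M0 : Matrix (Fin 8) (Fin 8) (ZMod 2) := mk ![250, 219, 126, 236, 208, 16, 224, 160]
def A0 : Matrix (Fin 8) (Fin 8) (ZMod 2) := mk ![197, 131, 152, 119, 160, 128, 208, 192]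

theorem X_prod : X 0 * X 1 * X 2 = M0 := by decide +kernel
theorem M0_A0 : (1 + M0) * A0 = 1 := by decide +kernel
theorem A0_M0 : A0 * (1 + M0) = 1 := by decide +kernel

variable {G : Type*} [Group G] {z : G} (S : SpinAt G z)
include S

theorem rho_sig : S.ρ sig = M0 := by
  rw [sig, map_mul, map_mul, S.ρ_cyc, S.ρ_cyc, S.ρ_cyc, X_prod]

theorem fix_sig {v : V} (h : (S.ρ sig).mulVec v = v) : v = 0 := by
  rw [rho_sig] at h
  have h1 : (1 + M0).mulVec v = 0 := by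
    rw [Matrix.add_mulVec, Matrix.one_mulVec, h, add_self]
  have h2 : (A0 * (1 + M0)).mulVec v = 0 := by
    rw [← Matrix.mulVec_mulVec, h1, Matrix.mulVec_zero]
  rwa [A0_M0, Matrix.one_mulVec] at h2

theorem solve_sig (w : V) : ∃ v : V, v + (S.ρ sig).mulVec v = w := by
  refine ⟨A0.mulVec w, ?_⟩
  rw [rho_sig]
  have h1 : ((1 + M0) * A0).mulVec w = w := by rw [M0_A0, Matrix.one_mulVec]
  rw [← Matrix.mulVec_mulVec, Matrix.add_mulVec, Matrix.one_mulVec] at h1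
  exact h1

theorem solve_inv (w : V) : ∃ v : V, v + (S.ρ sig⁻¹).mulVec v = w := by
  obtain ⟨u, hu⟩ := solve_sig S w
  refine ⟨(S.ρ sig).mulVec u, ?_⟩
  rw [← ρ_mul_mulVec, inv_mul_cancel, ρ_one_mulVec, add_comm]
  exact hu

theorem fix_inv {v : V} (h : (S.ρ sig⁻¹).mulVec v = v) : v = 0 := by
  refine fix_sig S ?_
  conv_lhs => rw [← h]
  rw [← ρ_mul_mulVec, mul_inv_cancel, ρ_one_mulVec]

/-- lifting: elements of odd order over the same element are `Q`-conjugate -/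
theorem conj_of_lift {s : alternatingGroup (Fin 9)} (hs : ∀ w : V, ∃ v : V, v + (S.ρ s).mulVec v = w)
    {x y : G} (hx : x * z = z * x) (hy : y * z = z * y) (hφx : S.φ x = s) (hφy : S.φ y = s)
    (hx5 : x ^ 5 = 1) (hy5 : y ^ 5 = 1) : ∃ q ∈ S.Q, q * x * q⁻¹ = y := by
  have hw : y * x⁻¹ ∈ S.Q := by
    rw [← S.φ_eq_one _ (cz_mul hy (cz_inv hx)), S.φ_mul _ _ hy (cz_inv hx), φ_inv S hx, hφx, hφy,
      mul_inv_cancel]
  obtain ⟨v, hv⟩ := hs (S.π (y * x⁻¹))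
  obtain ⟨q, hq, rfl⟩ := S.π_surj v
  have hxq : x * q * x⁻¹ ∈ S.Q := conj_mem S hx hq
  have hk : q * (x * q * x⁻¹)⁻¹ ∈ S.Q := S.Q.mul_mem hq (S.Q.inv_mem hxq)
  have hπ : S.π (y * x⁻¹) = S.π (q * (x * q * x⁻¹)⁻¹) := by
    rw [S.π_mul _ hq _ (S.Q.inv_mem hxq), π_inv S hxq, S.act x hx q hq, hφx]
    exact hv.symm
  refine ⟨q, hq, ?_⟩
  rcases eq_or S hw hk hπ with h | h
  · calc q * x * q⁻¹ = q * (x * q * x⁻¹)⁻¹ * x := by group
      _ = y := by rw [← h]; group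
  · exfalso
    have h1 : y = (q * x * q⁻¹) * z := by
      calc y = y * x⁻¹ * x := by group
        _ = q * (x * q * x⁻¹)⁻¹ * (z * x) := by rw [h]; group
        _ = (q * x * q⁻¹) * z := by rw [← hx]; group
    have hc : Commute (q * x * q⁻¹) z := cz_mul (cz_mul (cQ S hq) hx) (cz_inv (cQ S hq))
    have h2 : z ^ 5 = 1 := by
      have h3 := hy5
      rw [h1, hc.mul_pow, conj_pow, hx5, mul_one, mul_inv_cancel, one_mul] at h3
      exact h3
    have h3 : z ^ 5 = z := by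
      calc z ^ 5 = (z * z) * (z * z) * z := by simp only [pow_succ, pow_zero, one_mul, mul_assoc]
        _ = z := by rw [S.z_sq]; group
    exact S.z_ne (h3 ▸ h2)

/-- an element of order 5 over the 5-cycle -/
theorem exists_x : ∃ x : G, x * z = z * x ∧ S.φ x = sig ∧ x ^ 5 = 1 := by
  obtain ⟨y, hy, hφ⟩ := S.φ_surj sig
  have hpow : ∀ n : ℕ, (y ^ n) * z = z * y ^ n ∧ S.φ (y ^ n) = sig ^ n := by
    intro n
    induction n with
    | zero => exact ⟨by simp, by rw [pow_zero, pow_zero]; exact φ_one S⟩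
    | succ n ih =>
      refine ⟨((show Commute y z from hy).pow_left _).eq, ?_⟩
      rw [pow_succ, S.φ_mul _ _ ih.1 hy, ih.2, hφ, pow_succ]
  have hsig : sig ^ 5 = 1 := by decide +kernel
  have h5 : y ^ 5 ∈ S.Q := by
    rw [← S.φ_eq_one _ (hpow 5).1, (hpow 5).2, hsig]
  have h20 : (y ^ 5) ^ 4 = 1 := by
    have h1 := S.sq _ h5
    have h2 : (y ^ 5 * y ^ 5) * (y ^ 5 * y ^ 5) = 1 := by
      rw [h1]
      split_ifs
      · group
      · exact S.z_sq
    calc (y ^ 5) ^ 4 = (y ^ 5 * y ^ 5) * (y ^ 5 * y ^ 5) := by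
          simp only [pow_succ, pow_zero, one_mul, mul_assoc]
      _ = 1 := h2
  refine ⟨y ^ 16, (hpow 16).1, ?_, ?_⟩
  · rw [(hpow 16).2, show 16 = 5 * 3 + 1 from rfl, pow_succ, pow_mul, hsig, one_pow, one_mul]
  · rw [← pow_mul, show 16 * 5 = 5 * 4 * 4 from rfl, pow_mul, pow_mul, h20, one_pow]

/-- `C_Q(x) = ⟨z⟩` -/
theorem cent_Q {x q : G} (hx : x * z = z * x) (hφ : S.φ x = sig) (hq : q ∈ S.Q) (h : q * x = x * q) :
    q = 1 ∨ q = z := by
  rw [← S.π_eq_zero q hq]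
  refine fix_sig S ?_
  rw [← hφ, ← S.act x hx q hq, ← h, mul_inv_cancel_right]

/-- lifting of centralizing elements -/
theorem lift_cent {x : G} (hx : x * z = z * x) (hφ : S.φ x = sig) (hx5 : x ^ 5 = 1)
    {g : alternatingGroup (Fin 9)} (hg : g * sig * g⁻¹ = sig) :
    ∃ c : G, c * z = z * c ∧ S.φ c = g ∧ c * x = x * c := by
  obtain ⟨c, hc, rfl⟩ := S.φ_surj g
  obtain ⟨q, hq, h1⟩ := conj_of_lift S (solve_sig S) hx (cz_mul (cz_mul hc hx) (cz_inv hc)) hφ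
    (by rw [φ_conj S hc hx, hφ, hg]) hx5 (by rw [conj_pow, hx5, mul_one, mul_inv_cancel])
  refine ⟨q⁻¹ * c, cz_mul (cz_inv (cQ S hq)) hc, ?_, ?_⟩
  · rw [S.φ_mul _ _ (cz_inv (cQ S hq)) hc, φ_inv S (cQ S hq), φ_Q S hq, inv_one, one_mul]
  · have h2 : q⁻¹ * (c * x * c⁻¹) * q = x := by rw [← h1]; group
    calc q⁻¹ * c * x = q⁻¹ * (c * x * c⁻¹) * q * (q⁻¹ * c) := by group
      _ = x * (q⁻¹ * c) := by rw [h2]

/-- lifting of inverting elements -/
theorem lift_inv {x : G} (hx : x * z = z * x) (hφ : S.φ x = sig) (hx5 : x ^ 5 = 1)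
    {g : alternatingGroup (Fin 9)} (hg : g * sig * g⁻¹ = sig⁻¹) :
    ∃ c : G, c * z = z * c ∧ S.φ c = g ∧ c * x * c⁻¹ = x⁻¹ := by
  obtain ⟨c, hc, rfl⟩ := S.φ_surj g
  obtain ⟨q, hq, h1⟩ := conj_of_lift S (solve_inv S) (cz_inv hx) (cz_mul (cz_mul hc hx) (cz_inv hc))
    (by rw [φ_inv S hx, hφ]) (by rw [φ_conj S hc hx, hφ, hg]) (by rw [inv_pow, hx5, inv_one])
    (by rw [conj_pow, hx5, mul_one, mul_inv_cancel])
  refine ⟨q⁻¹ * c, cz_mul (cz_inv (cQ S hq)) hc, ?_, ?_⟩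
  · rw [S.φ_mul _ _ (cz_inv (cQ S hq)) hc, φ_inv S (cQ S hq), φ_Q S hq, inv_one, one_mul]
  · have h2 : q⁻¹ * (c * x * c⁻¹) * q = x⁻¹ := by rw [← h1]; group
    calc q⁻¹ * c * x * (q⁻¹ * c)⁻¹ = q⁻¹ * (c * x * c⁻¹) * q := by group
      _ = x⁻¹ := h2

/-- squares -/
theorem sq_or {x c : G} (hx : x * z = z * x) (hφ : S.φ x = sig) (hc : c * z = z * c)
    (hcc : S.φ c * S.φ c = 1) (h : c * c * x = x * (c * c)) : c * c = 1 ∨ c * c = z := by
  refine cent_Q S hx hφ ?_ h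
  rw [← S.φ_eq_one _ (cz_mul hc hc), S.φ_mul _ _ hc hc, hcc]

/-- the only involution -/
theorem only_invol (R : Cfsg.Agent.ThType.SqRules.SqRules S) {x t : G} (hx : x * z = z * x) (hφ : S.φ x = sig)
    (htx : t * x = x * t) (htz : t * z = z * t) (htt : t * t = 1) : t = 1 ∨ t = z := by
  have h1 : S.φ t * S.φ t = 1 := by rw [← S.φ_mul _ _ htz htz, htt, φ_one S]
  by_cases h2 : S.φ t = 1
  · exact cent_Q S hx hφ ((S.φ_eq_one t htz).1 h2) htx
  · exfalso
    have h3 : (S.φ t : Perm (Fin 9)) * sig = sig * (S.φ t : Perm (Fin 9)) := by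
      have h4 : S.φ t * sig = sig * S.φ t := by
        rw [← hφ, ← S.φ_mul _ _ htz hx, ← S.φ_mul _ _ hx htz, htx]
      exact congrArg Subtype.val h4
    obtain ⟨k, u, hku⟩ := cent_sig h3
    have h4 : em (s5 ^ (k : ℕ), u) * em (s5 ^ (k : ℕ), u) = 1 := by
      rw [← hku]
      exact congrArg Subtype.val h1
    have h5 := sq_one k u h4
    rw [← hku] at h5
    have h6 := (S.φ t : Perm (Fin 9)).sum_cycleType
    rcases type_of_invol (S.φ t) h1 h2 with h7 | h7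
    · rw [h7] at h6
      have h8 := R.sq2 t htz h1 h6.symm (Or.inl htt)
      rw [htt] at h8
      exact S.z_ne h8.symm
    · rw [h7] at h6
      have h8 : (8 : ℕ) = (S.φ t : Perm (Fin 9)).support.card := h6
      omega

theorem phi_pow {c : G} (hc : c * z = z * c) (n : ℕ) : S.φ (c ^ n) = S.φ c ^ n := by
  induction n with
  | zero => rw [pow_zero, pow_zero]; exact φ_one S
  | succ n ih => rw [pow_succ, S.φ_mul _ _ ((show Commute c z from hc).pow_left _).eq hc, ih, pow_succ]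

/-- an element of odd order of `C(x) ∩ C(z)` such that its commutators with `i` and `j` have odd order is in `⟨x⟩` -/
theorem mem_of_odd [Finite G] {x i j n : G} (hx : x * z = z * x) (hφ : S.φ x = sig) (hx5 : x ^ 5 = 1)
    (hiz : i * z = z * i) (hjz : j * z = z * j)
    (hi : S.φ i = al) (hj : S.φ j = be) (hnx : n * x = x * n) (hnz : n * z = z * n) (hn : Odd (orderOf n))
    (hni : Odd (orderOf (i * n * i⁻¹ * n⁻¹))) (hnj : Odd (orderOf (j * n * j⁻¹ * n⁻¹))) :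
    n ∈ Subgroup.zpowers x := by
  have h3 : (S.φ n : Perm (Fin 9)) * sig = sig * (S.φ n : Perm (Fin 9)) := by
    have h4 : S.φ n * sig = sig * S.φ n := by
      rw [← hφ, ← S.φ_mul _ _ hnz hx, ← S.φ_mul _ _ hx hnz, hnx]
    exact congrArg Subtype.val h4
  obtain ⟨k, u, hku⟩ := cent_sig h3
  -- an element of odd order with `φ` of square one
  have key : ∀ c : G, c * z = z * c → Odd (orderOf c) → S.φ c * S.φ c = 1 → S.φ c = 1 := by
    intro c hc hodd h2
    have h4 : S.φ c ^ orderOf c = 1 := by rw [← phi_pow S hc, pow_orderOf_eq_one, φ_one S]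
    obtain ⟨m, hm⟩ := hodd
    rw [hm, pow_add, pow_mul, pow_two, h2, one_pow, one_mul, pow_one] at h4
    exact h4
  have e1 : S.φ (i * n * i⁻¹ * n⁻¹) = al * S.φ n * al⁻¹ * (S.φ n)⁻¹ := by
    rw [S.φ_mul _ _ (cz_mul (cz_mul hiz hnz) (cz_inv hiz)) (cz_inv hnz), φ_conj S hiz hnz, φ_inv S hnz, hi]
  have e2 : S.φ (j * n * j⁻¹ * n⁻¹) = be * S.φ n * be⁻¹ * (S.φ n)⁻¹ := by
    rw [S.φ_mul _ _ (cz_mul (cz_mul hjz hnz) (cz_inv hjz)) (cz_inv hnz), φ_conj S hjz hnz, φ_inv S hnz, hj]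
  have e3 := key _ (cz_mul (cz_mul (cz_mul hiz hnz) (cz_inv hiz)) (cz_inv hnz)) hni (by
    rw [e1]
    apply Subtype.ext
    have := comm_al k u
    rw [← hku] at this
    exact this)
  have e4 := key _ (cz_mul (cz_mul (cz_mul hjz hnz) (cz_inv hjz)) (cz_inv hnz)) hnj (by
    rw [e2]
    apply Subtype.ext
    have := comm_be k u
    rw [← hku] at this
    exact this)
  rw [e1, mul_inv_eq_one, mul_inv_eq_iff_eq_mul] at e3
  rw [e2, mul_inv_eq_one, mul_inv_eq_iff_eq_mul] at e4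
  have e5 : u * u = 1 := by
    apply comm_both k u
    rw [← hku]
    exact ⟨congrArg Subtype.val e3, congrArg Subtype.val e4⟩
  -- `φ n = σ ^ k * (1, u)`, so `φ (n x^{-k})` has square one
  obtain ⟨y, hy⟩ : ∃ y, y = n * (x ^ (k : ℕ))⁻¹ := ⟨_, rfl⟩
  have hxk : (x ^ (k : ℕ)) * z = z * x ^ (k : ℕ) := ((show Commute x z from hx).pow_left _).eq
  have hyz : y * z = z * y := by rw [hy]; exact cz_mul hnz (cz_inv hxk)
  have hyφ : (S.φ y : Perm (Fin 9)) = em (1, u) := by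
    rw [hy, S.φ_mul _ _ hnz (cz_inv hxk), φ_inv S hxk, phi_pow S hx, hφ]
    show (S.φ n : Perm (Fin 9)) * ((sig : Perm (Fin 9)) ^ (k : ℕ))⁻¹ = em (1, u)
    rw [hku, sig_coe, ← map_pow, ← map_inv, ← map_mul]
    congr 1
    ext1
    · show s5 ^ (k : ℕ) * (s5 ^ (k : ℕ))⁻¹ = 1
      exact mul_inv_cancel _
    · show u * ((1 : Perm (Fin 4)) ^ (k : ℕ))⁻¹ = u
      rw [one_pow, inv_one, mul_one]
  have hyodd : Odd (orderOf y) := by
    have hc : Commute n ((x ^ (k : ℕ))⁻¹) := ((show Commute n x from hnx).pow_right _).inv_right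
    have h4 : orderOf y ∣ orderOf n * 5 := by
      rw [hy, orderOf_dvd_iff_pow_eq_one, hc.mul_pow, pow_mul, pow_orderOf_eq_one, one_pow, one_mul,
        mul_comm (orderOf n), pow_mul, inv_pow, ← pow_mul, mul_comm (k : ℕ), pow_mul, hx5, one_pow,
        inv_one, one_pow]
    exact Odd.of_dvd_nat (hn.mul (by decide)) h4
  have hy1 : S.φ y = 1 := by
    refine key y hyz hyodd ?_
    apply Subtype.ext
    show (S.φ y : Perm (Fin 9)) * (S.φ y : Perm (Fin 9)) = 1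
    rw [hyφ, ← map_mul]
    show em (1 * 1, u * u) = 1
    rw [e5, mul_one]
    exact map_one em
  have hyx : y * x = x * y := by
    have h4 : (x ^ (k : ℕ))⁻¹ * x = x * (x ^ (k : ℕ))⁻¹ :=
      (((Commute.refl x).pow_left (k : ℕ)).inv_left).eq
    rw [hy, mul_assoc, h4, ← mul_assoc, hnx, mul_assoc]
  have hy2 := cent_Q S hx hφ ((S.φ_eq_one y hyz).1 hy1) hyx
  have hy3 : y = 1 := by
    rcases hy2 with h4 | h4
    · exact h4
    · exfalso
      rw [h4] at hyodd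
      have h5 : orderOf z = 2 := orderOf_eq_prime (by rw [pow_two]; exact S.z_sq) S.z_ne
      rw [h5] at hyodd
      exact absurd hyodd (by decide)
  rw [hy3, eq_comm, mul_inv_eq_one] at hy
  rw [hy]
  exact ⟨(k : ℕ), by simp⟩

/-- the local data -/
theorem exists_data [Finite G] (R : Cfsg.Agent.ThType.SqRules.SqRules S) :
    ∃ x i j g : G, RvT.Hyp 5 x z i j ∧ g * x * g⁻¹ = x⁻¹ ∧ g * g = z ∧ g * i = i * g ∧ g * j = j * g := by
  obtain ⟨x, hxz, hφ, hx5⟩ := exists_x S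
  obtain ⟨i, hiz, hi, hix⟩ := lift_cent S hxz hφ hx5 (g := al) (by decide +kernel)
  obtain ⟨j, hjz, hj, hjx⟩ := lift_cent S hxz hφ hx5 (g := be) (by decide +kernel)
  obtain ⟨g, hgz, hg, hgx⟩ := lift_inv S hxz hφ hx5 (g := ga) (by decide +kernel)
  have hcomm2 : ∀ c : G, c * x = x * c → c * c * x = x * (c * c) := by
    intro c hc; rw [mul_assoc, hc, ← mul_assoc, hc, mul_assoc]
  have hinv2 : ∀ c : G, c * x * c⁻¹ = x⁻¹ → c * c * x = x * (c * c) := by
    intro c hc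
    have h1 : (c * c) * x * (c * c)⁻¹ = x := by
      calc (c * c) * x * (c * c)⁻¹ = c * (c * x * c⁻¹) * c⁻¹ := by group
        _ = c * x⁻¹ * c⁻¹ := by rw [hc]
        _ = (c * x * c⁻¹)⁻¹ := by group
        _ = x := by rw [hc, inv_inv]
    exact mul_inv_eq_iff_eq_mul.1 h1
  have hzi : z⁻¹ = z := z_inv S
  have hii : i * i = z := by
    refine R.sq2 i hiz ?_ ?_ (sq_or S hxz hφ hiz ?_ (hcomm2 i hix)) <;> rw [hi] <;> decide +kernel
  have hjj : j * j = z := by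
    refine R.sq2 j hjz ?_ ?_ (sq_or S hxz hφ hjz ?_ (hcomm2 j hjx)) <;> rw [hj] <;> decide +kernel
  have hgg : g * g = z := by
    refine R.sq2 g hgz ?_ ?_ (sq_or S hxz hφ hgz ?_ (hinv2 g hgx)) <;> rw [hg] <;> decide +kernel
  have hijx : (i * j) * x = x * (i * j) := by rw [mul_assoc, hjx, ← mul_assoc, hix, mul_assoc]
  have hijij : (i * j) * (i * j) = z := by
    refine R.sq2 (i * j) (cz_mul hiz hjz) ?_ ?_ (sq_or S hxz hφ (cz_mul hiz hjz) ?_ (hcomm2 _ hijx)) <;>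
      rw [S.φ_mul _ _ hiz hjz, hi, hj] <;> decide +kernel
  have hinv : ∀ c : G, c * x = x * c → (g * c) * x * (g * c)⁻¹ = x⁻¹ := by
    intro c hc
    calc (g * c) * x * (g * c)⁻¹ = g * (c * x) * c⁻¹ * g⁻¹ := by group
      _ = g * x * g⁻¹ := by rw [hc]; group
      _ = x⁻¹ := hgx
  have hgi2 : (g * i) * (g * i) = 1 := by
    refine R.sq4 (g * i) (cz_mul hgz hiz) ?_ ?_ (sq_or S hxz hφ (cz_mul hgz hiz) ?_ (hinv2 _ (hinv i hix))) <;>
      rw [S.φ_mul _ _ hgz hiz, hg, hi] <;> decide +kernel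
  have hgj2 : (g * j) * (g * j) = 1 := by
    refine R.sq4 (g * j) (cz_mul hgz hjz) ?_ ?_ (sq_or S hxz hφ (cz_mul hgz hjz) ?_ (hinv2 _ (hinv j hjx))) <;>
      rw [S.φ_mul _ _ hgz hjz, hg, hj] <;> decide +kernel
  have hgc : ∀ c : G, c * z = z * c → c * c = z → (g * c) * (g * c) = 1 → g * c = c * g := by
    intro c hcz hcc h1
    have h2 : g⁻¹ = g * z := by
      rw [inv_eq_iff_mul_eq_one, ← mul_assoc, hgg, S.z_sq]
    have h3 : c⁻¹ = c * z := by
      rw [inv_eq_iff_mul_eq_one, ← mul_assoc, hcc, S.z_sq]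
    calc g * c = (g * c)⁻¹ := (inv_eq_of_mul_eq_one_left h1).symm
      _ = c⁻¹ * g⁻¹ := mul_inv_rev _ _
      _ = c * z * (g * z) := by rw [h2, h3]
      _ = c * (z * g) * z := by group
      _ = c * g * (z * z) := by rw [← hgz]; group
      _ = c * g := by rw [S.z_sq, mul_one]
  refine ⟨x, i, j, g, ?_, hgx, hgg, hgc i hiz hii hgi2, hgc j hjz hjj hgj2⟩
  refine
    { xo := ?_
      zz := S.z_sq
      z1 := S.z_ne
      xz := hxz
      only := fun t h1 h2 h3 => only_invol S R hxz hφ h1 h2 h3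
      ix := hix
      jx := hjx
      ii := hii
      jj := hjj
      ij := ?_
      odd := ?_ }
  · have : Fact (Nat.Prime 5) := ⟨by norm_num⟩
    refine orderOf_eq_prime hx5 ?_
    rintro rfl
    rw [φ_one S] at hφ
    have h1 : (1 : alternatingGroup (Fin 9)) ≠ sig := by decide +kernel
    exact h1 hφ
  · have h2 : i⁻¹ = i * z := by
      rw [inv_eq_iff_mul_eq_one, ← mul_assoc, hii, S.z_sq]
    have h3 : j⁻¹ = j * z := by
      rw [inv_eq_iff_mul_eq_one, ← mul_assoc, hjj, S.z_sq]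
    calc i * j = (i * j) * (i * j) * (i * j)⁻¹ := by group
      _ = z * (j⁻¹ * i⁻¹) := by rw [hijij, mul_inv_rev]
      _ = (z * j) * z * i * z := by rw [h2, h3]; group
      _ = j * (z * z) * i * z := by rw [← hjz]; group
      _ = j * i * z := by rw [S.z_sq, mul_one]
  · intro N hN hNc hNn n hn
    have hodd : ∀ m ∈ N, Odd (orderOf m) := fun m hm =>
      Odd.of_dvd_nat hN (Subgroup.orderOf_dvd_natCard _ hm)
    refine mem_of_odd S hxz hφ hx5 hiz hjz hi hj (hNc n hn).1 (hNc n hn).2 (hodd n hn) ?_ ?_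
    · exact hodd _ (mul_mem (hNn i hix hiz n hn) (inv_mem hn))
    · exact hodd _ (mul_mem (hNn j hjx hjz n hn) (inv_mem hn))

end Cfsg.Agent.H757.ThF
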