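import Cfsg.Agent.SporadicA.PermTab

/-!
# Upper bounds for centralizers in automorphism groups of graphs (helper757)

`x : Perm (Fin n)` of a given table `P`, `A` a bit matrix; `H` a group of automorphisms of `A` commuting with `x` and
fixing the points of `F`. The key `ky` of a point `v` (is it fixed by `x`; the adjacency pattern `cd F v` with respect
to `F`; the sum over the fixed points `f` of `x` adjacent to `v` of `cd F f`) is constant on the orbits of `H`: `step`.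
-/

set_option autoImplicit false

namespace Cfsg.Agent.H757.WkCent

open Cfsg.Agent.SporadicA.PermTab Equiv Subgroup

/-- adjacency pattern with respect to the list `F` -/
def cd (n A : ℕ) (F : List ℕ) (v : ℕ) : ℕ :=
  List.rec 0 (fun f _ ih => Nat.add (Nat.mul 2 ih) (bitM n A v f)) F

theorem cd_congr {n A : ℕ} {F : List ℕ} {v w : ℕ} (h : ∀ f ∈ F, bitM n A v f = bitM n A w f) : cd n A F v = cd n A F w := by
  induction F with
  | nil => rfl
  | cons f F ih =>
    change Nat.add (Nat.mul 2 (cd n A F v)) (bitM n A v f) = Nat.add (Nat.mul 2 (cd n A F w)) (bitM n A w f)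
    rw [ih fun f' hf' => h f' (List.mem_cons_of_mem _ hf'), h f List.mem_cons_self]

/-- weighted number of neighbours in a list of points -/
def sm (n A : ℕ) : List ℕ → List ℕ → ℕ → ℕ
  | f :: FX, w :: W, v => bitM n A v f * w + sm n A FX W v
  | _, _, _ => 0

theorem sm_map (n A : ℕ) (c : ℕ → ℕ) (FX : List ℕ) (v : ℕ) :
    sm n A FX (FX.map c) v = (FX.map fun f => bitM n A v f * c f).sum := by
  induction FX with
  | nil => rfl
  | cons f FX ih =>
    change bitM n A v f * c f + sm n A FX (FX.map c) v = _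
    rw [ih, List.map_cons, List.sum_cons]

/-- the key of a point -/
def ky (n A P : ℕ) (FX W F : List ℕ) (v : ℕ) : ℕ :=
  Nat.add (Nat.mul (sm n A FX W v) (2 ^ 40)) (Nat.add (Nat.mul (cd n A F v) 2) (cond (Nat.beq (lk P v) v) 1 0))

variable {n : ℕ} {A P : ℕ} {x : Perm (Fin n)}

/-- the group of automorphisms commuting with `x` -/
def CA (A : ℕ) (x : Perm (Fin n)) : Subgroup (Perm (Fin n)) := autG n A ⊓ centralizer {x}

theorem mem_CA {g : Perm (Fin n)} : g ∈ CA A x ↔ g ∈ autG n A ∧ g * x = x * g := by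
  rw [CA, mem_inf, mem_centralizer_singleton_iff]

theorem comm_apply {g : Perm (Fin n)} (hg : g * x = x * g) (i : Fin n) : g (x i) = x (g i) := by
  rw [← Perm.mul_apply, hg, Perm.mul_apply]

theorem ky_eq (hx : ∀ i : Fin n, (x i : ℕ) = lk P i) {FX : List ℕ} (hFX : FX.Nodup)
    (hfx : ∀ i : Fin n, (i : ℕ) ∈ FX ↔ lk P i = i) (hlt : ∀ f ∈ FX, f < n) {F : List ℕ} {g : Perm (Fin n)}
    (hg : g ∈ CA A x) (hF : ∀ f ∈ F, f < n ∧ ∀ i : Fin n, (i : ℕ) = f → g i = i) (v : Fin n) :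
    ky n A P FX (FX.map (cd n A F)) F (g v : Fin n) = ky n A P FX (FX.map (cd n A F)) F v := by
  classical
  obtain ⟨hgA, hgx⟩ := mem_CA.1 hg
  have hcd : ∀ i : Fin n, cd n A F (g i : Fin n) = cd n A F i := by
    intro i
    apply cd_congr
    intro f hf
    obtain ⟨hfn, hfix⟩ := hF f hf
    have h1 := hgA i ⟨f, hfn⟩
    rw [hfix ⟨f, hfn⟩ rfl] at h1
    exact h1
  have hfixp : ∀ i : Fin n, x (g i) = g i ↔ x i = i := by
    intro i
    rw [← comm_apply hgx, g.injective.eq_iff]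
  have hlk : ∀ i : Fin n, lk P i = i ↔ x i = i := by
    intro i
    rw [← hx i, Fin.ext_iff]
  have hbeq : Nat.beq (lk P (g v : Fin n)) (g v : Fin n) = Nat.beq (lk P v) v := by
    rw [Bool.eq_iff_iff, Nat.beq_eq, Nat.beq_eq, hlk, hlk, hfixp]
  have hsm : sm n A FX (FX.map (cd n A F)) (g v : Fin n) = sm n A FX (FX.map (cd n A F)) v := by
    rw [sm_map, sm_map, ← List.sum_toFinset _ hFX, ← List.sum_toFinset _ hFX]
    symm
    refine Finset.sum_bij' (fun f hf => if h : f < n then ((g ⟨f, h⟩ : Fin n) : ℕ) else 0)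
      (fun f hf => if h : f < n then ((g.symm ⟨f, h⟩ : Fin n) : ℕ) else 0) ?_ ?_ ?_ ?_ ?_
    · intro f hf
      rw [List.mem_toFinset] at hf
      have h := hlt f hf
      rw [dif_pos h, List.mem_toFinset, hfx, hlk, hfixp, ← hlk]
      exact (hfx ⟨f, h⟩).1 hf
    · intro f hf
      rw [List.mem_toFinset] at hf
      have h := hlt f hf
      rw [dif_pos h, List.mem_toFinset, hfx, hlk, ← hfixp, Equiv.apply_symm_apply, ← hlk]
      exact (hfx ⟨f, h⟩).1 hf
    · intro f hf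
      rw [List.mem_toFinset] at hf
      have h := hlt f hf
      simp only [dif_pos h, Fin.is_lt, dif_pos, Fin.eta, Equiv.symm_apply_apply]
    · intro f hf
      rw [List.mem_toFinset] at hf
      have h := hlt f hf
      simp only [dif_pos h, Fin.is_lt, dif_pos, Fin.eta, Equiv.apply_symm_apply]
    · intro f hf
      rw [List.mem_toFinset] at hf
      have h := hlt f hf
      rw [dif_pos h, hcd ⟨f, h⟩, hgA v ⟨f, h⟩]
  unfold ky
  rw [hsm, hcd, hbeq]

/-- one step of the chain -/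
theorem step (hx : ∀ i : Fin n, (x i : ℕ) = lk P i) {FX : List ℕ} (hFX : FX.Nodup)
    (hfx : ∀ i : Fin n, (i : ℕ) ∈ FX ↔ lk P i = i) (hlt : ∀ f ∈ FX, f < n) {F : List ℕ}
    {H : Subgroup (Perm (Fin n))} (hH : H ≤ CA A x) (hF : FixL H F) {b m kb : ℕ} {W : List ℕ} (hb : b < n)
    (hW : FX.map (cd n A F) = W) (hkb : ky n A P FX W F b = kb)
    (hc : cntB (fun v => Nat.beq (ky n A P FX W F v) kb) n m = true)
    {k : ℕ} (hk : Nat.card (ps H ⟨b, hb⟩) ≤ k) : Nat.card H ≤ m * k := by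
  refine card_le H ⟨b, hb⟩ _ ?_ (card_fin_of_cntB _ n m hc) hk
  intro g hg
  simp only [Finset.mem_filter, Finset.mem_univ, true_and]
  have h1 := ky_eq hx hFX hfx hlt (hH hg) (fun f hf => ⟨(hF f hf).1, (hF f hf).2 g hg⟩) ⟨b, hb⟩
  rw [hW] at h1
  rw [h1, hkb]
  exact Nat.beq_refl _

theorem fix_ps (hx : ∀ i : Fin n, (x i : ℕ) = lk P i) {F : List ℕ} {H : Subgroup (Perm (Fin n))} (hH : H ≤ CA A x)
    (hF : FixL H F) {b : ℕ} (hb : b < n) : FixL (ps H ⟨b, hb⟩) (b :: lk P b :: lk P (lk P b) :: F) := by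
  have hlt : ∀ i : ℕ, i < n → lk P i < n := fun i hi => by
    rw [← hx ⟨i, hi⟩]
    exact (x ⟨i, hi⟩).2
  have h1 : ∀ g ∈ ps H ⟨b, hb⟩, ∀ i : ℕ, ∀ hi : i < n, g ⟨i, hi⟩ = ⟨i, hi⟩ →
      g ⟨lk P i, hlt i hi⟩ = ⟨lk P i, hlt i hi⟩ := by
    intro g hg i hi h
    have h2 : (⟨lk P i, hlt i hi⟩ : Fin n) = x ⟨i, hi⟩ := Fin.ext (hx ⟨i, hi⟩).symm
    rw [h2, comm_apply (mem_CA.1 (hH hg.1)).2, h]
  intro f hf
  rcases List.mem_cons.1 hf with h | h
  · subst h
    refine ⟨hb, fun g hg i hi => ?_⟩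
    have : i = ⟨f, hb⟩ := Fin.ext hi
    rw [this]
    exact hg.2
  rcases List.mem_cons.1 h with h | h
  · subst h
    refine ⟨hlt b hb, fun g hg i hi => ?_⟩
    have : i = ⟨lk P b, hlt b hb⟩ := Fin.ext hi
    rw [this]
    exact h1 g hg b hb hg.2
  rcases List.mem_cons.1 h with h | h
  · subst h
    refine ⟨hlt _ (hlt b hb), fun g hg i hi => ?_⟩
    have : i = ⟨lk P (lk P b), hlt _ (hlt b hb)⟩ := Fin.ext hi
    rw [this]
    exact h1 g hg _ (hlt b hb) (h1 g hg b hb hg.2)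
  · exact ⟨(hF f h).1, fun g hg => (hF f h).2 g hg.1⟩

/-- the end of the chain -/
theorem last {F lit : List ℕ} {H : Subgroup (Perm (Fin n))} (hH : H ≤ CA A x) (hF : FixL H F)
    (h : (List.range n).map (cd n A F) = lit) (hl : lit.Nodup) : Nat.card H ≤ 1 := by
  have h1 : H = ⊥ := by
    rw [eq_bot_iff]
    intro g hg
    rw [mem_bot]
    ext i : 1
    rw [Perm.one_apply]
    apply Fin.ext
    rw [← h] at hl
    refine List.inj_on_of_nodup_map hl (List.mem_range.2 (g i).2) (List.mem_range.2 i.2) ?_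
    apply cd_congr
    intro f hf
    obtain ⟨hfn, hfix⟩ := hF f hf
    have h1 := (mem_CA.1 (hH hg)).1 i ⟨f, hfn⟩
    rw [hfix g hg ⟨f, hfn⟩ rfl] at h1
    exact h1
  rw [h1, card_bot]

end Cfsg.Agent.H757.WkCent
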