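import Cfsg.Agent.H509.WeakBlock
import Cfsg.Agent.H287.Blk.Base

/-!
# S4095 at the prime 2: `FactB` from `Good r x` (helper757)

`Good r x` (H287/Blk/Base.lean): every class function supported on the elements of order `r` with values in the local
ring and a unit at `x` is not nilpotent modulo 2. So the set `Y` of all elements `y` of order `r` with
`O_2(C(y)) = 1` (automatically invariant under the automorphisms) satisfies `FactB` if `O_2(C(x)) = 1`.
-/

set_option autoImplicit false

namespace Cfsg.Agent.H757.WkGood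

open Subgroup Cfsg Cfsg.Agent.H516 Cfsg.Agent.H509.Weak
open Cfsg.Agent.H652.Four
open Cfsg.Agent.H287.Blk
open Cfsg.Agent.Blocks.LocalRing
open Cfsg.Agent.Blocks

universe u

theorem fn_ind {G : Type*} [Group G] {M : Ideal AlgInt} (hM : IsPModular 2 M) {r : ℕ} {Y : Set G}
    (hY : ∀ g : G, ∀ y : G, g * y * g⁻¹ ∈ Y ↔ y ∈ Y) (hr : ∀ y ∈ Y, orderOf y = r) {x : G} (hx : x ∈ Y) :
    Fn M r (ind Y) x := by
  refine ⟨fun g y => ?_, fun g => ?_, fun g hg => ?_, ?_⟩
  · by_cases h : y ∈ Y
    · rw [ind_pos h, ind_pos ((hY g y).2 h)]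
    · rw [ind_neg h, ind_neg (fun h' => h ((hY g y).1 h'))]
  · by_cases h : g ∈ Y
    · rw [ind_pos h]
      have := memLocalRing_natCast hM 1
      simpa using this
    · rw [ind_neg h]
      have := memLocalRing_natCast hM 0
      simpa using this
  · by_cases h : g ∈ Y
    · exact hr g h
    · exact absurd (ind_neg h) hg
  · rw [ind_pos hx]
    intro h1
    have h2 : MemLocalIdeal M ((1 : ℕ) : ℂ) := by simpa using h1
    rw [memLocalIdeal_natCast_iff hM] at h2
    omega

/-- **`FactB` from `Good`** -/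
theorem factB_of_good {L : Type u} [Group L] {r : ℕ} (hr : r ≠ 1) {x : L} (h : Good r x) (hx : orderOf x = r)
    (hO : pCore 2 ↥(centralizer ({x} : Set L)) = ⊥) : FactB L := by
  refine ⟨{y | orderOf y = r ∧ pCore 2 ↥(centralizer ({y} : Set L)) = ⊥}, ?_, ?_, ?_⟩
  · rintro β y ⟨h1, h2⟩
    exact ⟨by rw [MulEquiv.orderOf_eq, h1], pCore_equiv (centEquiv β y) h2⟩
  · rintro y ⟨h1, h2⟩
    refine ⟨?_, h2⟩
    rintro rfl
    rw [orderOf_one] at h1
    exact hr h1.symm
  · intro M hM
    refine h M hM _ (fn_ind hM (fun g y => ?_) (fun y hy => hy.1) ⟨hx, hO⟩)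
    have key : ∀ g y : L, (orderOf y = r ∧ pCore 2 ↥(centralizer ({y} : Set L)) = ⊥) →
        orderOf (g * y * g⁻¹) = r ∧ pCore 2 ↥(centralizer ({g * y * g⁻¹} : Set L)) = ⊥ := by
      rintro g y ⟨h1, h2⟩
      refine ⟨?_, pCore_equiv (centEquiv (MulAut.conj g) y) h2⟩
      rw [← MulAut.conj_apply, MulEquiv.orderOf_eq, h1]
    constructor
    · intro h1
      have h2 := key g⁻¹ _ h1
      rwa [show g⁻¹ * (g * y * g⁻¹) * g⁻¹⁻¹ = y by group] at h2
    · exact key g y

end Cfsg.Agent.H757.WkGood
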